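import Cfsg.Agent.H3.R2b
import Cfsg.Agent.S0112

/-! Blackburn's classification of odd `p`-groups of rank two: metacyclicity criteria (`metacyc_of_mho`,
`buckley`, `metacyc_of_pcent`), the dichotomy `exists_rk2_or`, and the two families (`Rk2.fam1`, `Rk2.fam2`). -/

set_option autoImplicit false

namespace H3

open Subgroup Cfsg H18
open scoped commutatorElement

universe u

variable {G : Type*} [Group G] [Finite G] {p n : ℕ} {A E H K S T U V W : Subgroup G} {a b c g s u v w x y z : G}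

theorem metacyc_of_mho_aux (hp : p.Prime) (h2 : p ≠ 2) (n : ℕ) : ∀ {G : Type u} [Group G] [Finite G]
    {R : Subgroup G}, Nat.card R < n → PiGrp {p} R → (℧[p](R)).relIndex R ≤ p ^ 2 → Metacyc R := by
  induction n with
  | zero => intro G _ _ R h; exact absurd h (Nat.not_lt_zero _)
  | succ n ih =>
    intro G _ _ R hn hR h
    have hc : Cyc ⁅R, R⁆ := by
      by_cases h1 : ℧[p](R) = ⊥
      · rw [h1, relIndex_bot_left] at h
        exact (abel_of_card_dvd_sq hp (card_dvd_of_le_pow hp hR h)).der ▸ cyc_bot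
      obtain ⟨T, t1, t2⟩ := (hR.of_le (inf_le_left.trans mho_le)).exists_sub_card (hR.nil.meet_Z (mho_nml .rfl) h1)
      have hT := nml_of_le_Z (t1.trans inf_le_right)
      exact cyc_der_of_metacyc_quo (t1.trans (inf_le_right.trans inf_le_right))
        (t1.trans (inf_le_left.trans (mho_le_phi hp hR))) (ih ((card_quo_lt hT
          (ne_bot_of_prime (t2 ▸ hp))).trans_le (Nat.lt_succ_iff.1 hn)) hR.mim
          (by rwa [← mim_mho hT.norm, relIndex_quo mho_le hT.norm (t1.trans inf_le_left)]))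
    have r := reg_of_cyc_der hp h2 hR hc
    exact metacyc_of_reg hp hR r hc (by rwa [← r.relIndex_mho hp hR])

theorem metacyc_of_mho (hp : p.Prime) (h2 : p ≠ 2) (hS : PiGrp {p} S) (h : (℧[p](S)).relIndex S ≤ p ^ 2) :
    Metacyc S := metacyc_of_mho_aux hp h2 _ (Nat.lt_succ_self _) hS h

omit [Finite G] in
theorem comm_pow_of_cent (hp : p.Prime) (h2 : p ≠ 2) (h1 : Commute x ⁅x, ⁅x, y⁆⁆) (h3 : Commute ⁅x, y⁆ ⁅x, ⁅x, y⁆⁆)
    (h4 : ⁅x, ⁅x, y⁆⁆ ^ p = 1) (h : x ^ p * y = y * x ^ p) : ⁅x, y⁆ ^ p = 1 := by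
  have := comm_pow_left_three h1 h3 p
  obtain ⟨k, hk⟩ := hp.dvd_choose_self two_ne_zero (lt_of_le_of_ne hp.two_le (Ne.symm h2))
  rwa [commutatorElement_eq_one_iff_mul_comm.2 h, hk, pow_mul, h4, one_pow, one_mul, eq_comm] at this

theorem buckley (hp : p.Prime) (h2 : p ≠ 2) (hA : PiGrp {p} A) (h : ∀ x ∈ A, x ^ p = 1 → x ∈ C(A)) :
    ∀ H ≤ A, ∀ x ∈ H, ∀ y ∈ H, (x ^ p) ^ p = 1 → ⁅x, y⁆ ^ p = 1 := by
  intro H
  induction H using WellFoundedLT.induction with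
  | ind H ih =>
  intro hH x hx y hy e
  by_cases c : Cyc (J2 x y)
  · rw [commutatorElement_eq_one_iff_mul_comm.2 (comm_of_cent c.abel left_mem_J2 right_mem_J2), one_pow]
  have l := (J2_le hx hy).trans hH
  have m := zpowers_sup_phi_lt c (left_mem_J2 (b := y))
  have x1 : x ∈ zpowers x ⊔ Φ(J2 x y) := mem_sup_left (mem_zpowers x)
  have k := ih _ (m.trans_le (J2_le hx hy)) (m.le.trans l) x x1 _ (mem_sup_right (der_le_phi hp (hA.of_le l)
    (commutator_mem_commutator left_mem_J2 right_mem_J2))) e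
  have a := H18.der_le (commutator_mem_commutator (hH hx) (hH hy))
  have b := h _ (H18.der_le (commutator_mem_commutator (hH hx) a)) k
  exact comm_pow_of_cent hp h2 (b x (hH hx)) (b _ a) k (h _ (pow_mem (hH hx) p) e y (hH hy)).symm

theorem cyc_of_card_inf (hp : p.Prime) (h2 : p ≠ 2) (hA : PiGrp {p} A) (hK : K ≤ A) (hc : Nat.card Ω[p](A) ≤ p ^ 2)
    (h : ¬ Ω[p](A) ≤ K) : Cyc K := by
  have k := hA.of_le hK
  refine odd_pgroup_rank1_cyclic hp k (odd_of_piGrp hp h2 k) ((prank_le_iff hp).2 fun E hE e => ?_)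
  have := card_mul_le_of_lt (hA.of_le ohm_le) (lt_of_le_not_ge (elem_le_ohm e (hE.trans hK)) fun l => h (l.trans hE))
  exact Nat.le_of_mul_le_mul_right (this.trans (hc.trans (pow_succ p 1).le)) hp.pos

theorem metacyc_of_pcent_aux (hp : p.Prime) (h2 : p ≠ 2) (n : ℕ) : ∀ {G : Type u} [Group G] [Finite G]
    {R : Subgroup G}, Nat.card R < n → PiGrp {p} R → Ω[p](R) ≤ C(R) → Nat.card Ω[p](R) ≤ p ^ 2 → Metacyc R := by
  induction n with
  | zero => intro G _ _ R h; exact absurd h (Nat.not_lt_zero _)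
  | succ n ih =>
    intro G _ _ R hn hR h hc
    have hV : Ω[p](R) ⊴ R := ohm_nml .rfl
    have ex := ohm_pow_of_abel (p := p) (cent_mono h le_rfl hV.le)
    rw [ohm_ohm] at ex
    have hc : Cyc ⁅R, R⁆ := by
      by_cases h1 : R = ⊥
      · exact cyc_bot.of_le (H18.der_le.trans h1.le)
      by_cases h3 : Ω[p](R) ≤ Φ(R)
      · have k : Ω[p](R ⫽ Ω[p](R)) ≤ C(R ⫽ Ω[p](R)) := ohm_le_iff.2 fun z hz e => by
          obtain ⟨x, hx, rfl⟩ := (mem_quo hV.norm).1 hz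
          rw [← mfun_pow (hV.norm hx), cs_eq_one_iff (pow_mem (hV.norm hx) p)] at e
          exact (comm_zpowers_le_iff hV.norm (hV.norm hx)).1 (comm_comm.le.trans (comm_sup_le' (A := ⊥) (B := R)
            (by simp) (commutator_le.2 fun a ha b hb => by
              obtain ⟨i, rfl⟩ := mem_zpowers_nat ha
              exact comm_zpowers_le (hV.norm hx) (hV.norm hb) (mem_ohm (H18.der_le (commutator_mem_commutator hx hb))
                (buckley hp h2 hR (fun x hx e => h (mem_ohm hx e)) R le_rfl x hx b hb (ex _ e)))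
                (commutator_mem_commutator (pow_mem (mem_zpowers x) i) (mem_zpowers b))) bot_le hV.norm |>.trans'
            (comm_mono le_rfl le_sup_right)))
        have ab := cent_mono k le_rfl (ohm_le (p := p))
        have ex' := ohm_pow_of_abel (p := p) ab
        rw [ohm_ohm] at ex'
        have l := qpre_le_of_le hV (ohm_le (p := p))
        have d : ⁅qpre Ω[p](R) Ω[p](R ⫽ Ω[p](R)), qpre Ω[p](R) Ω[p](R ⫽ Ω[p](R))⁆ ≤ Ω[p](R) :=
          (abel_quo_iff qpre_le).1 (by rwa [quo_qpre])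
        have e := (reg_of_class_two hp h2 (comm_eq_bot_iff.2 (d.trans (h.trans (C_anti l))))).card_eq hp (hR.of_le l)
        rw [card_qpre, ohm_eq_of_le le_qpre l] at e
        refine cyc_der_of_metacyc_quo h h3 (ih ((card_quo_lt hV (ohm_ne_bot hR h1)).trans_le (Nat.lt_succ_iff.1 hn))
          hR.mim k ((Nat.eq_of_mul_eq_mul_left card_pos' e).le.trans ((card_le (mho1_le_iff.2 fun x hx => ?_)).trans hc)))
        rw [← cs_eq_one_iff (pow_mem (qpre_le hx) _), mfun_pow (qpre_le hx)]; exact ex' _ (mem_mpre.1 hx).2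
      obtain ⟨M, m1, m2⟩ : ∃ M, M ⋖ R ∧ ¬ Ω[p](R) ≤ M := by
        by_contra! k; exact h3 (le_phi hV.le k)
      have e : M ⊔ Ω[p](R) = R := (m1.eq_or_eq le_sup_left (sup_le m1.le hV.le)).resolve_left
        fun e => m2 (le_sup_right.trans e.le)
      have := (cyc_of_card_inf hp h2 hR m1.le hc m2).abel.sup (cent_mono h le_rfl hV.le)
        (cent_symm (h.trans (C_anti m1.le)))
      rw [e] at this
      exact this.der ▸ cyc_bot
    exact metacyc_of_reg hp hR (reg_of_cyc_der hp h2 hR hc) hc ‹_›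

theorem metacyc_of_pcent (hp : p.Prime) (h2 : p ≠ 2) (hS : PiGrp {p} S) (h : Ω[p](S) ≤ C(S))
    (hc : Nat.card Ω[p](S) ≤ p ^ 2) : Metacyc S := metacyc_of_pcent_aux hp h2 _ (Nat.lt_succ_self _) hS h hc

theorem Reg.sup_of_cyc (hp : p.Prime) (hA : PiGrp {p} A) (h : Reg p A) (hc : Cyc ℧[p](A)) :
    ∃ c ∈ A, ℧[p](A) = zpowers (c ^ p) ∧ Ω[p](A) ⊔ zpowers c = A := by
  obtain ⟨d, hd⟩ := hc.gen
  obtain ⟨c, hc, rfl⟩ := h.exists_pow hp hA (hd ▸ mem_zpowers d)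
  refine ⟨c, hc, hd.symm, le_antisymm (sup_le ohm_le (zpowers_le.2 hc)) fun x hx => ?_⟩
  obtain ⟨k, hk⟩ := mem_zpowers_nat (hd ▸ pow_mem_mho1 hx)
  rw [← pow_mul, mul_comm, pow_mul] at hk
  simpa using mul_mem_sup (mem_ohm (mul_mem hx (inv_mem (pow_mem hc k)))
    ((h.pow_eq_iff hp hA hx (pow_mem hc k)).1 hk)) (pow_mem (mem_zpowers c) k)

/-- `s` acts on the regular group `A` with central `Ω₁(A)` of order `p ^ 2`, non-trivially on `Ω₁(A)` -/
structure Ac (p : ℕ) (A : Subgroup G) (s : G) : Prop where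
  prime : p.Prime
  odd : p ≠ 2
  pi : PiGrp {p} A
  reg : Reg p A
  cent : Ω[p](A) ≤ C(A)
  card : Nat.card Ω[p](A) = p ^ 2
  norm : s ∈ N(A)
  elt : PiElt {p} s
  nc : ¬ Ω[p](A) ≤ C1(s)

namespace Ac

variable (h : Ac p A s)
include h

theorem ex (hv : v ∈ Ω[p](A)) : v ^ p = 1 := h.reg.ohm_pow h.prime h.pi v hv

theorem card_le' : Nat.card (Ω[p](A) ⊓ C1(s) : Subgroup G) ≤ p := Nat.le_of_mul_le_mul_right
  ((card_mul_le_of_lt (h.pi.of_le ohm_le) (inf_lt_left.2 h.nc)).trans (h.card.trans (sq p)).le) h.prime.pos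

theorem comm_mem (hv : v ∈ Ω[p](A)) : ⁅s, v⁆ ∈ Ω[p](A) ⊓ C1(s) := by
  have n := norm_ohm (p := p) (zpowers_le.2 h.norm)
  have k := h.pi.of_le (ohm_le (p := p))
  refine comm_le_of_card' k h.elt.zpowers n (norm_inf n (le_norm (zpowers_le.2 C1_self)))
    (cent_norm (cent_mono h.cent le_rfl (inf_le_left.trans ohm_le))) inf_le_left ?_
    (comm_comm.le (commutator_mem_commutator (mem_zpowers s) hv))
  have := h.elt.zpowers.meet_cent k n fun e => h.nc (e ▸ bot_le)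
  rw [C_zpowers] at this
  rw [card_eq_prime_of_le (k.of_le inf_le_left) this h.card_le', h.card, sq]

omit [Finite G] in
theorem comm_mem_A (hy : y ∈ A) : ⁅s, y⁆ ∈ A := mul_mem (conj_mem_N h.norm hy) (inv_mem hy)

theorem comm_pow (hy : y ∈ A) (e : (y ^ p) ^ p = 1) : ⁅s, y⁆ ^ p = ⁅s, y ^ p⁆ := by
  have a := conj_mem_N h.norm hy
  have k := buckley h.prime h.odd h.pi (fun x hx e => h.cent (mem_ohm hx e)) A le_rfl
  have l := J2_le a (inv_mem hy)
  rw [commutatorElement_def, commutatorElement_def, ← conj_pow, ← inv_pow]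
  refine (h.reg.mono l).mul_pow (fun c hc => h.ex (der_J2_le (l.trans (norm_ohm le_N)) (mem_ohm
    (H18.der_le (commutator_mem_commutator a (inv_mem hy))) (k _ a _ (inv_mem hy) ?_)) hc)) left_mem_J2 right_mem_J2
  rw [conj_pow, conj_pow, e]; simp

theorem Z_eq (hw : w ∈ A ⊓ C1(s)) (h1 : w ^ p ≠ 1) (h2 : (w ^ p) ^ p = 1) : zpowers (w ^ p) = Ω[p](A) ⊓ C1(s) :=
  haveI := Fact.mk h.prime
  eq_of_card_ge (zpowers_le.2 ⟨mem_ohm (pow_mem hw.1 p) h2, pow_mem hw.2 p⟩)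
    (by rw [Nat.card_zpowers, orderOf_eq_prime h2 h1]; exact h.card_le')

theorem pow_eq_one (hw : w ∈ A ⊓ C1(s)) (hy : y ∈ A)
    (e : s ^ p * y = y * s ^ p) (hz : ⁅s, y⁆ ^ p ∈ zpowers (w ^ p)) : ⁅s, y⁆ ^ p = 1 := by
  have a := h.comm_mem_A hy
  obtain ⟨k, hk⟩ := mem_zpowers_nat hz
  rw [← pow_mul, mul_comm, pow_mul] at hk
  have b := h.comm_mem (mem_ohm (mul_mem a (inv_mem (pow_mem hw.1 k)))
    ((h.reg.pow_eq_iff h.prime h.pi a (pow_mem hw.1 k)).1 hk))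
  rw [comm_mul_right', commutatorElement_eq_one_iff_mul_comm.2 (mem_C1.1 (inv_mem (pow_mem hw.2 k))).symm, mul_one,
    mul_inv_cancel, mul_one] at b
  exact comm_pow_of_cent h.prime h.odd (mem_C1.1 b.2).symm (h.cent b.1 _ a) (h.ex b.1) e

theorem exists_w (hn : ¬ A ⊓ C1(s) ≤ Ω[p](A)) : ∃ w ∈ A ⊓ C1(s), w ^ p ≠ 1 ∧ (w ^ p) ^ p = 1 := by
  obtain ⟨x, hx, x1⟩ := SetLike.not_le_iff_exists.1 hn
  obtain ⟨k, k1, k2⟩ := exists_pow_mem_not_mem (h.pi.of_le inf_le_left).isPGroup hx x1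
  exact ⟨_, pow_mem hx _, fun e => k1 (mem_ohm (pow_mem hx.1 _) e), h.ex k2⟩

/-- if some `y ^ p ∈ Ω₁(A)` is moved by `s` then `C_A(s)` has order `p` -/
theorem le_ohm' (hy : y ∈ A) (h1 : y ^ p ∈ Ω[p](A)) (h2 : y ^ p ∉ C1(s)) (e : s ^ p * y = y * s ^ p) :
    A ⊓ C1(s) ≤ Ω[p](A) := by_contra fun hn => by
  obtain ⟨w, hw, w1, w2⟩ := h.exists_w hn
  have k := h.comm_pow hy (h.ex h1)
  have := h.pow_eq_one hw hy e (by rw [k, h.Z_eq hw w1 w2]; exact h.comm_mem h1)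
  exact h2 (mem_C1.2 (commutatorElement_eq_one_iff_mul_comm.1 (k ▸ this)).symm)

theorem card_C1 (hA : A ≤ S) (hs : s ∈ S) (h1 : s ∉ A) (hi : A.relIndex S ≤ p) (hn : A ⊓ C1(s) ≤ Ω[p](A)) :
    Nat.card (S ⊓ C1(s) : Subgroup G) = p ^ 2 := by
  have e : A ⊓ C1(s) = A ⊓ (S ⊓ C1(s)) := by rw [← inf_assoc, inf_eq_left.2 hA]
  have a : (A ⊓ C1(s)).relIndex (S ⊓ C1(s)) ≤ p := by
    rw [e, inf_relIndex_right]; exact (relIndex_le_of_le_right inf_le_left H18.relIndex_ne_zero).trans hi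
  have k := h.pi.of_le (ohm_le (p := p))
  have b := h.elt.zpowers.meet_cent k (norm_ohm (zpowers_le.2 h.norm)) fun e => h.nc (e ▸ bot_le)
  rw [C_zpowers] at b
  have c := card_eq_prime_of_le (k.of_le inf_le_left) b h.card_le'
  rw [le_antisymm (inf_le_inf_right _ ohm_le) (le_inf hn inf_le_right)] at c
  refine le_antisymm ?_ ?_
  · rw [← card_mul_relIndex (inf_le_inf_right C1(s) hA), c, sq]; exact Nat.mul_le_mul_left _ a
  · have := card_mul_le_of_lt ((h.pi.of_le inf_le_left).sup_norm' h.elt.zpowers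
      (cent_norm (cent_symm (by rw [C_zpowers]; exact inf_le_right)))) (left_lt_sup.2 fun e => h1
        (e (mem_zpowers s)).1 : A ⊓ C1(s) < _)
    rw [c, ← sq] at this
    exact this.trans (card_le (sup_le (inf_le_inf_right _ hA) (zpowers_le.2 ⟨hs, C1_self⟩)))

/-- if `℧₁(A)` is cyclic, a normal subgroup of order `p ^ 3` and exponent `p` appears -/
theorem exists_W (hS : PiGrp {p} S) (hA : A ≤ S) (hs : s ∈ S) (h1 : s ∉ A) (e : A ⊔ zpowers s = S)
    (hp : s ^ p ∈ ℧[p](A)) (hc : Cyc ℧[p](A)) (hn : ¬ A ⊓ C1(s) ≤ Ω[p](A)) :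
    ∃ W, W ⊴ S ∧ (∀ x ∈ W, x ^ p = 1) ∧ Nat.card W = p ^ 3 := by
  obtain ⟨w, hw, w1, w2⟩ := h.exists_w hn
  obtain ⟨c, c1, c2, c3⟩ := h.reg.sup_of_cyc h.prime h.pi hc
  have ab : Abel A := c3 ▸ abel_sup_zpowers (cent_mono h.cent le_rfl ohm_le) (cent_symm h.cent c1)
  have nA : S ≤ N(A) := e ▸ sup_le le_N (zpowers_le.2 h.norm)
  have nV := norm_ohm (p := p) nA
  have nU := norm_mho (p := p) (n := 1) nA
  have sp := mho_le hp
  have a := h.comm_mem_A c1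
  have k1 : ⁅s, c⁆ ^ p = ⁅s, c ^ p⁆ := by
    rw [commutatorElement_def, commutatorElement_def, ← conj_pow, ← inv_pow]
    exact Commute.mul_pow (comm_of_cent ab (conj_mem_N h.norm c1) (inv_mem c1)) p
  have u1 := pow_mem_mho1 (p := p) c1
  have l : ℧[p](A) ⊔ zpowers s ≤ S := sup_le (mho_le.trans hA) (zpowers_le.2 hs)
  have k2 : (⁅s, c⁆ ^ p) ^ p = 1 := by
    have n2 := zpowers_le.2 (nU hs)
    have := ((reg_of_cyc_der h.prime h.odd (hS.of_le l) (hc.of_le (comm_sup_le (comm_le_left (sup_le le_N n2))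
      (comm_sup_le' (comm_le_right n2) (abel_zpowers.der.le.trans bot_le) le_N n2) le_N n2))).commute_pow_iff (k := 1)
      h.prime (hS.of_le l) (mem_sup_right (mem_zpowers s)) (mem_sup_left u1)).1
      (by simpa using comm_of_cent ab sp (pow_mem c1 p))
    rw [k1]; simpa using this
  have k3 : ⁅s, c⁆ ∈ Ω[p](A) := mem_ohm a (h.pow_eq_one hw c1 (comm_of_cent ab sp c1) (zpowers_le.1
    (cyc_le_of_card_dvd hc (zpowers_le.2 (pow_mem_mho1 a)) (zpowers_le.2 (pow_mem_mho1 hw.1)) (by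
      have := Fact.mk h.prime
      rw [Nat.card_zpowers, Nat.card_zpowers, orderOf_eq_prime w2 w1]; exact orderOf_dvd_of_pow_eq_one k2))))
  have k4 : ⁅zpowers s, A⁆ ≤ Ω[p](A) := c3.ge |> comm_mono le_rfl |>.trans (comm_sup_le'
    (comm_le_right (zpowers_le.2 (nV hs))) (comm_zpowers_le (nV hs) (nV (hA c1)) k3) le_N (zpowers_le.2 (nV (hA c1))))
  have d : ⁅S, S⁆ ≤ Ω[p](A) := by
    have n1 := hA.trans nV
    have n2 := zpowers_le.2 (nV hs)
    rw [← e]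
    exact comm_sup_le (comm_sup_le' (ab.der.le.trans bot_le) (comm_comm.le.trans k4) n1 n2)
      (comm_sup_le' k4 (abel_zpowers.der.le.trans bot_le) n1 n2) n1 n2
  obtain ⟨k, hk⟩ := mem_zpowers_nat (c2 ▸ hp)
  have ck := inv_mem (pow_mem c1 k)
  have x1 : (s * (c ^ k)⁻¹) ^ p ∈ Ω[p](A) ⊓ C1(s) := by
    have := petrescu_prime hs (hA ck) h.prime (fun c hc => pow_mem (d hc) p)
      ((gam_anti h.prime.two_le).trans d)
    rw [hk, inv_pow, ← pow_mul, ← pow_mul, mul_comm k, mul_inv_cancel, inv_one, one_mul] at this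
    refine ⟨this, mem_C1.2 ?_⟩
    have t : Commute ((s * (c ^ k)⁻¹) ^ p) (s * (c ^ k)⁻¹ * c ^ k) :=
      ((Commute.refl _).pow_left p).mul_right (comm_of_cent ab (ohm_le this) (pow_mem c1 k))
    simpa using t.eq
  obtain ⟨j, hj⟩ := mem_zpowers_nat ((h.Z_eq hw w1 w2).ge x1)
  have wj := A.inv_mem (A.pow_mem hw.1 j)
  have x2 : (s * (c ^ k)⁻¹ * (w ^ j)⁻¹) ^ p = 1 := by
    rw [Commute.mul_pow (Commute.mul_left (mem_C1.1 (inv_mem (pow_mem hw.2 j))).symm (comm_of_cent ab ck wj)), hj,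
      inv_pow, ← pow_mul, ← pow_mul, mul_comm j, mul_inv_cancel]
  have x3 := mul_mem (mul_mem hs (hA ck)) (hA wj)
  have x4 : s * (c ^ k)⁻¹ * (w ^ j)⁻¹ ∉ Ω[p](A) := fun e =>
    h1 ((mul_mem_cancel_right ck).1 ((mul_mem_cancel_right wj).1 (ohm_le e)))
  have l2 := sup_le ((ohm_le (p := p)).trans hA) (zpowers_le.2 x3)
  have cd := card_mul_relIndex (le_sup_left : Ω[p](A) ≤ Ω[p](A) ⊔ zpowers (s * (c ^ k)⁻¹ * (w ^ j)⁻¹))
  rw [relIndex_sup_zpowers_of_pow h.prime (nV x3) (x2 ▸ one_mem _) x4, h.card, ← pow_succ] at cd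
  exact ⟨_, nml_of_der_le (d.trans le_sup_left) l2, fun y hy => (reg_of_card_le h.prime (hS.of_le l2) cd.ge
    (three_le h.prime h.odd)).ohm_pow h.prime (hS.of_le l2) y (sup_le (ohm_le_iff.2 fun v hv e =>
      mem_ohm (mem_sup_left (mem_ohm hv e)) e) (zpowers_le.2 (mem_ohm (mem_sup_right (mem_zpowers _)) x2)) hy), cd.symm⟩

end Ac

theorem class_of_cent [Fact p.Prime] (hG : Nat.card G = p ^ n) (h : Nat.card C1(s) = p ^ 2) :
    Group.nilpotencyClass G = n - 1 :=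
  Cfsg.Agent.S0112.result n hG _ h (le_antisymm (C_le_C1 C1_self) (abel_of_card_sq Fact.out h))

theorem exists_rk2_or (hp : p.Prime) (h2 : p ≠ 2) (hS : PiGrp {p} S) (hr : prank p S ≤ 2) (hm : ¬ Metacyc S) :
    (∃ W, Rk2 p S W) ∨ (p ^ 3 ≤ Nat.card S ∧ ∃ s, Nat.card (S ⊓ C1(s) : Subgroup G) = p ^ 2) := by
  obtain ⟨V, nV, pV⟩ := ex_odd_normal_p2Elem hp hS (odd_of_piGrp hp h2 hS)
    fun c => hm (metacyc_of_le_sup .rfl c (one_mem _) le_sup_left)
  have pA := hS.of_le (inf_le_left : S ⊓ C(V) ≤ S)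
  have eV : Ω[p](S ⊓ C(V)) = V := le_antisymm (ohm_le_iff.2 fun x hx e => mem_of_rank2 hp hr pV hx.1 hx.2 e)
    (le_ohm (le_inf nV.le pV.elem.abel) pV.elem.pow)
  have cV : Ω[p](S ⊓ C(V)) ≤ C(S ⊓ C(V)) := eV.le.trans (cent_symm inf_le_right)
  have cd := (congrArg (fun K : Subgroup G => Nat.card K) eV).trans pV.card
  have mA := metacyc_of_pcent hp h2 pA cV cd.le
  have rA := reg_of_cyc_der hp h2 pA (metacyc_cyc_der mA)
  obtain ⟨s, hs, s1⟩ := SetLike.exists_of_lt (lt_of_le_of_ne inf_le_left fun e => hm (e ▸ mA) : S ⊓ C(V) < S)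
  have i : (S ⊓ C(V)).relIndex S = p := by
    rw [inf_relIndex_left]
    exact relIndex_eq_prime_of_le hS (fun k => s1 ⟨hs, k hs⟩) (relIndex_C_le_of_card_sq hp hS nV.norm pV.card.dvd)
  have h : Ac p (S ⊓ C(V)) s := ⟨hp, h2, pA, rA, cV, cd, nV.cent.norm hs, hS.elt hs, fun k =>
    s1 ⟨hs, le_C1_iff.1 (eV.ge.trans k)⟩⟩
  have i3 : (℧[p](S ⊓ C(V))).relIndex S = p ^ 3 := by
    rw [← relIndex_tower mho_le inf_le_left, rA.relIndex_mho hp pA, cd, i, pow_succ _ 2]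
  have sp : s ^ p ∈ ℧[p](S ⊓ C(V)) := by_contra fun k => hm (metacyc_of_mho hp h2 hS (by
    have a := relIndex_tower (mho_mono (p := p) (n := 1) (inf_le_left : S ⊓ C(V) ≤ S)) mho_le
    have b := Nat.le_of_dvd relIndex_pos (dvd_relIndex_of_not_le (hS.of_le mho_le) fun e => k (e (pow_mem_mho1 hs)))
    rw [i3, pow_succ'] at a
    exact Nat.le_of_mul_le_mul_left ((Nat.mul_le_mul_right _ b).trans a.le) hp.pos))
  by_cases c : S ⊓ C(V) ⊓ C1(s) ≤ Ω[p](S ⊓ C(V))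
  · exact Or.inr ⟨i3 ▸ Nat.le_of_dvd card_pos' relIndex_dvd, s, h.card_C1 inf_le_left hs s1 i.le c⟩
  obtain ⟨W, w1, w2, w3⟩ := h.exists_W hS inf_le_left hs s1 (sup_zpowers_eq_of_prime (i.symm ▸ hp) inf_le_left hs s1) sp
    (cyc_of_card_inf hp h2 pA mho_le cd.le fun k => c (by
      obtain ⟨v, hv, v1⟩ := SetLike.not_le_iff_exists.1 h.nc
      obtain ⟨y, hy, rfl⟩ := rA.exists_pow hp pA (k hv)
      obtain ⟨u, hu, e⟩ := rA.exists_pow hp pA sp
      refine h.le_ohm' hy hv v1 ?_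
      have := (rA.commute_pow_iff (k := 1) hp pA hu hy).2 (by
        rw [pow_one, ← commutatorElement_inv, inv_pow,
          buckley hp h2 pA (fun x hx e => cV (mem_ohm hx e)) _ le_rfl y hy u hu (h.ex hv), inv_one])
      rwa [pow_one, ← e] at this)) c
  exact Or.inl ⟨W, hp, h2, hS, hr, w1, w2, w3⟩

theorem card_sup_of_inf (hp : 0 < p) (h : Nrm2 A K) (hA : Nat.card A = p ^ n) (hi : Nat.card (A ⊓ K : Subgroup G) = p)
    (hn : n ≠ 0) : Nat.card (A ⊔ K : Subgroup G) = p ^ (n - 1) * Nat.card K := by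
  have := h.card_sup
  obtain ⟨m, rfl⟩ := Nat.exists_eq_succ_of_ne_zero hn
  rw [hA, hi, pow_succ, mul_right_comm] at this
  exact Nat.eq_of_mul_eq_mul_right hp this

namespace Rk2

variable (h : Rk2 p S W) (hc : Nat.card S = p ^ n)
include h hc

theorem fam1 (e : ⁅W, S⁆ ≤ ⁅W, W⁆) : 3 ≤ n ∧ ∃ x y z : G, closure {x, y, z} = S ∧ x ^ p = 1 ∧ y ^ p = 1 ∧
    z ^ p ^ (n - 2) = 1 ∧ x * z = z * x ∧ y * z = z * y ∧ x⁻¹ * y * x = y * z ^ p ^ (n - 3) := by
  have hp := h.prime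
  have := Fact.mk hp
  have h3 : 3 ≤ n := (Nat.pow_le_pow_iff_right hp.one_lt).1 (h.card ▸ hc ▸ card_le h.nml.le)
  obtain ⟨z, hz⟩ := h.cycC.gen
  have z1 := hz.le (mem_zpowers z)
  have a := card_sup_of_inf hp.pos (K := S ⊓ C(W)) (Or.inl (cent_norm (cent_symm inf_le_right))) h.card
    (by rw [← inf_assoc, inf_eq_left.2 h.nml.le, h.Z_eq, h.cardZ]) three_ne_zero
  obtain ⟨m, rfl⟩ := Nat.exists_eq_add_of_le' h3
  rw [h.sup_eq e, hc, ← hz, Nat.card_zpowers, show m + 3 = 2 + (m + 1) by ring, pow_add] at a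
  have o := (Nat.eq_of_mul_eq_mul_left (pow_pos hp.pos 2) a).symm
  have o1 : orderOf (z ^ p ^ m) = p := by
    rw [orderOf_pow, o, Nat.gcd_eq_right (pow_dvd_pow p (by omega)), pow_succ', Nat.mul_div_cancel _ (pow_pos hp.pos _)]
  have e1 : zpowers (z ^ p ^ m) = ⁅W, W⁆ := eq_of_card_ge (zpowers_le.2 (h.mem_Z (pow_mem z1.1 _) (pow_mem z1.2 _)
    (orderOf_dvd_iff_pow_eq_one.1 o1.dvd))) (by rw [h.cardZ, Nat.card_zpowers, o1])
  obtain ⟨x, hx, y, hy, hxy⟩ : ∃ x ∈ W, ∃ y ∈ W, x * y ≠ y * x := by simpa [cent_iff] using h.not_abel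
  obtain ⟨k, hk⟩ := exists_pow_of_prime o1 (e1.ge (commutator_mem_commutator (inv_mem hx) hy))
    (fun e => hxy (Commute.inv_left_iff.1 (commutatorElement_eq_one_iff_mul_comm.1 e))) (mem_zpowers _)
  rw [← (h.hom2 (inv_mem hx)).pow hy] at hk
  have yk := pow_mem hy k
  have ne : x * y ^ k ≠ y ^ k * x := fun e => hp.one_lt.ne' (by
    rw [← o1, ← hk, commutatorElement_eq_one_iff_mul_comm.2 (Commute.inv_left e), orderOf_one])
  have hJ : J2 x (y ^ k) = W := eq_of_card_ge (J2_le hx yk) (h.card ▸ Nat.le_of_dvd card_pos' (pow_dvd_card_of_lt hp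
    (h.piW.of_le (J2_le hx yk)) (not_le.1 fun e => ne (comm_of_cent (abel_of_card_dvd_sq hp
      (card_dvd_of_le_pow hp (h.piW.of_le (J2_le hx yk)) e)) left_mem_J2 right_mem_J2))))
  refine ⟨h3, x, y ^ k, z, ?_, h.ex x hx, h.ex _ yk, orderOf_dvd_iff_pow_eq_one.1 o.dvd, z1.2 x hx, z1.2 _ yk, ?_⟩
  · rw [← h.sup_eq e, ← hz, ← hJ, ← closure_pair, zpowers_eq_closure, ← Subgroup.closure_union]
    congr 1; ext; simp [or_comm, or_left_comm]
  · rw [Nat.add_sub_cancel, pow_mem z1.2 _ _ yk, ← hk]; simp [commutatorElement_def]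

theorem fam2 (hn : ¬ ⁅W, S⁆ ≤ ⁅W, W⁆) : 4 ≤ n ∧ ∃ (s : ℕ) (x y z : G), (s = 1 ∨ ¬ IsSquare (s : ZMod p)) ∧
    closure {x, y, z} = S ∧ x ^ p = 1 ∧ y ^ p = 1 ∧ z ^ p ^ (n - 2) = 1 ∧ y * z = z * y ∧
      x⁻¹ * y * x = y * z ^ (s * p ^ (n - 3)) ∧ x⁻¹ * z * x = y * z := by
  have hp := h.prime
  have := Fact.mk hp
  obtain ⟨c, c1, -, c2⟩ := h.exists_c hn
  obtain ⟨k, o, o1, e1⟩ := h.exists_ord hn c1 c2
  have a := card_sup_of_inf hp.pos (K := zpowers c) (Or.inr (zpowers_le.2 (h.nml.norm c1.1))) h.card (by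
    rw [← h.cardZ, ← e1]
    refine congrArg _ (congrArg _ (le_antisymm ?_ (le_inf (e1.le.trans H18.der_le)
      (zpowers_le.2 (pow_mem (mem_zpowers c) _)))))
    exact cyc_le_of_card_dvd cyc_zpowers inf_le_right (zpowers_le.2 (pow_mem (mem_zpowers c) _)) (by
      rw [Nat.card_zpowers, o1]
      exact card_dvd_of_cyc_of_pow (cyc_zpowers.of_le inf_le_right) fun a ha => h.ex a ha.1)) three_ne_zero
  rw [c2, hc, Nat.card_zpowers, o, ← pow_add, Nat.pow_right_inj hp.one_lt] at a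
  obtain rfl : n = k + 4 := by omega
  have key : ∀ a ∈ W, a ∉ ⁅W, S⁆ → ∀ s : ℕ, tri a a c = (c ^ p ^ (k + 1)) ^ s → ∃ x y z : G,
      closure {x, y, z} = S ∧ x ^ p = 1 ∧ y ^ p = 1 ∧ z ^ p ^ (k + 4 - 2) = 1 ∧ y * z = z * y ∧
      x⁻¹ * y * x = y * z ^ (s * p ^ (k + 4 - 3)) ∧ x⁻¹ * z * x = y * z := fun a ha a1 s e => by
    have b := commutator_mem_commutator ha c1.1
    refine ⟨a⁻¹, ⁅a, c⁆, c, le_antisymm ((closure_le _).2 (by
      rintro _ (rfl | rfl | rfl); exacts [h.nml.le (inv_mem ha), h.nV.le b, c1.1])) ?_, h.ex _ (inv_mem ha),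
      h.ex _ (h.V_le b), orderOf_dvd_iff_pow_eq_one.1 o.dvd, c1.2 _ b, ?_, by simp [commutatorElement_def]⟩
    · have m1 : a⁻¹ ∈ closure {a⁻¹, ⁅a, c⁆, c} := Subgroup.subset_closure (by simp)
      have m2 : ⁅a, c⁆ ∈ closure {a⁻¹, ⁅a, c⁆, c} := Subgroup.subset_closure (by simp)
      have m3 : c ∈ closure {a⁻¹, ⁅a, c⁆, c} := Subgroup.subset_closure (by simp)
      have r := card_mul_relIndex h.Z_le_V
      rw [h.cardZ, h.cardV hn, sq] at r
      refine c2.ge.trans (sup_le ((h.sup_a hn ha a1).ge.trans (sup_le ((sup_zpowers_eq_of_prime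
        (by rwa [Nat.eq_of_mul_eq_mul_left hp.pos r]) h.Z_le_V b fun e => h.tri_ne hn ha a1 c1.1 c2
          (h.comm_Z ha e)).ge.trans (sup_le (e1.ge.trans (zpowers_le.2 (pow_mem m3 _))) (zpowers_le.2 m2)))
        (zpowers_le.2 (inv_mem_iff.1 m1)))) (zpowers_le.2 m3))
    · rw [mul_comm s, pow_mul, show k + 4 - 3 = k + 1 from rfl, ← e, h.Zc (h.tri_mem ha ha c1.1) _ (h.nV.le b)]
      rw [tri, commutatorElement_def a ⁅a, c⁆, inv_inv, inv_mul_cancel_right]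
  obtain ⟨a, ha, a1⟩ := h.exists_a hn
  obtain ⟨t, ht⟩ := mem_zpowers_nat (e1.ge (h.tri_mem ha ha c1.1))
  refine ⟨by omega, ?_⟩
  by_cases q : IsSquare (t : ZMod p)
  swap
  · exact ⟨t, (key a ha a1 t ht).imp fun _ => .imp fun _ => .imp fun _ k => ⟨Or.inr q, k⟩⟩
  obtain ⟨r, hr⟩ := q
  have t0 : (t : ZMod p) ≠ 0 := fun e => h.tri_ne hn ha a1 c1.1 c2 (by
    rw [ht]; exact orderOf_dvd_iff_pow_eq_one.1 (o1.symm ▸ (ZMod.natCast_eq_zero_iff t p).1 e))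
  have r0 : r ≠ 0 := fun e => t0 (by rw [hr, e, mul_zero])
  have e := h.tri_pow ha c1.1 (one_mem _) (one_mem _) r⁻¹.val 1
  rw [one_mul, pow_one, mul_one, mul_one, ht, ← pow_mul] at e
  refine ⟨1, (key _ (pow_mem ha r⁻¹.val) (fun k => a1 (mem_of_pow_mem (h.piW.elt ha) hp (fun d => ?_) k)) 1
    (e.trans (pow_eq_pow_iff_modEq.2 ?_))).imp fun _ => .imp fun _ => .imp fun _ k => ⟨Or.inl rfl, k⟩⟩
  · exact inv_ne_zero r0 (by rw [← ZMod.natCast_zmod_val r⁻¹]; exact (ZMod.natCast_eq_zero_iff _ p).2 d)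
  · rw [o1, ← ZMod.natCast_eq_natCast_iff]
    push_cast
    rw [ZMod.natCast_zmod_val, hr]; field_simp

end Rk2

end H3
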