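import Cfsg.Agent.H16.PermModule
import Cfsg.Agent.H9.MaxClass
import Mathlib.GroupTheory.RegularWreathProduct
import Mathlib.RingTheory.LittleWedderburn
import Mathlib.LinearAlgebra.Matrix.GeneralLinearGroup.Card
import Mathlib.LinearAlgebra.Eigenspace.Triangularizable
import Mathlib.FieldTheory.IsAlgClosed.AlgebraicClosure

/-! Derived length of linear `p`-groups: `DL.closed`, `DL.field` (`dim V < p ^ k`, characteristic not `p`),
`DL.modular` (`dim V ≤ 2 ^ k`, characteristic `p`), `DL.finite` (`dim V < e p ^ k` over `F_q`, `e` the order of `q`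
modulo `p`), `DL.exists_long` (lower bound by wreath products). -/

set_option autoImplicit false
set_option linter.style.haveILetI false

namespace H3.DL

open Subgroup Module
open scoped commutatorElement

universe u v w

variable {K : Type w} [Field K] {p : ℕ}

theorem eq_one_of_sq {A : Type*} [Ring A] [Algebra K A] (hp : (p : K) ≠ 0) {a : A} {m : ℕ} (h : a ^ p ^ m = 1)
    (h2 : (a - 1) * (a - 1) = 0) : a = 1 := by
  have key : ∀ j : ℕ, a ^ j = 1 + (j : K) • (a - 1) := fun j => by
    induction j with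
    | zero => simp
    | succ j ih =>
      have : a ^ (j + 1) = (1 + (j : K) • (a - 1)) * (1 + (a - 1)) := by rw [pow_succ, ih]; simp
      rw [this, add_mul, mul_add ((j : K) • (a - 1)), smul_mul_assoc _ _ (a - 1), h2]
      rw [smul_zero, add_zero, mul_one, one_mul, Nat.cast_succ, add_smul, one_smul]; abel
  rw [key, add_eq_left, smul_eq_zero_iff_right (by rw [Nat.cast_pow]; exact pow_ne_zero _ hp)] at h
  exact sub_eq_zero.1 h

theorem mul_eq_zero_of_triv {P : Type*} [Group P] {V : Type*} [AddCommGroup V] [Module K V]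
    (ρ : Representation K P V) (W : Submodule K V) (hW : ∀ g, W ≤ W.comap (ρ g)) {a b : P}
    (ha : ρ.subrepresentation W hW a = 1) (hb : ρ.quotient W hW b = 1) : (ρ a - 1) * (ρ b - 1) = 0 := by
  ext v
  have h1 : ρ b v - v ∈ W := (Submodule.Quotient.eq W).1 (LinearMap.congr_fun hb (Submodule.Quotient.mk v))
  have h2 := congrArg Subtype.val (LinearMap.congr_fun ha ⟨_, h1⟩)
  exact sub_eq_zero.2 h2

theorem of_irr (hp : (p : K) ≠ 0) {P : Type u} [Group P] (hP : IsPGroup p P) (d : P) (n : ℕ)
    (h : ∀ (V : Type v) [AddCommGroup V] [Module K V] [FiniteDimensional K V] [Nontrivial V]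
      (ρ : Representation K P V), finrank K V < n →
      (∀ W : Submodule K V, (∀ g, W ≤ W.comap (ρ g)) → W = ⊥ ∨ W = ⊤) → ρ d = 1)
    (V : Type v) [AddCommGroup V] [Module K V] [FiniteDimensional K V] (ρ : Representation K P V)
    (hn : finrank K V < n) : ρ d = 1 := by
  induction hm : finrank K V using Nat.strong_induction_on generalizing V with
  | _ m ih =>
  rcases subsingleton_or_nontrivial V with _ | _
  · exact Subsingleton.elim _ _
  by_cases hi : ∀ W : Submodule K V, (∀ g, W ≤ W.comap (ρ g)) → W = ⊥ ∨ W = ⊤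
  · exact h V ρ hn hi
  push Not at hi
  obtain ⟨W, hW, h0, h1⟩ := hi
  have l1 := Submodule.finrank_lt h1
  have l2 : finrank K (V ⧸ W) < finrank K V := by
    have := W.finrank_quotient_add_finrank
    have := (Submodule.finrank_eq_zero (S := W)).not.2 h0
    omega
  obtain ⟨k, hk⟩ := hP d
  exact eq_one_of_sq hp (m := k) (by rw [← map_pow, hk, map_one]) (mul_eq_zero_of_triv ρ W hW
    (ih _ (hm ▸ l1) W _ (l1.trans hn) rfl) (ih _ (hm ▸ l2) _ _ (l2.trans hn) rfl))

theorem der_succ_le {P : Type*} [Group P] {H : Subgroup P} (h : commutator P ≤ H) (k : ℕ) :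
    derivedSeries P (k + 1) ≤ (derivedSeries H k).map H.subtype := by
  induction k with
  | zero => rwa [derivedSeries_zero, ← MonoidHom.range_eq_map, range_subtype]
  | succ k ih => rw [derivedSeries_succ, derivedSeries_succ H, map_commutator]; exact commutator_mono ih ih

theorem map_der_le {P : Type*} [Group P] {H : Subgroup P} (h : H ≤ commutator P) (k : ℕ) :
    (derivedSeries H k).map H.subtype ≤ derivedSeries P (k + 1) := by
  induction k with
  | zero => rwa [derivedSeries_zero, ← MonoidHom.range_eq_map, range_subtype]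
  | succ k ih => rw [derivedSeries_succ, derivedSeries_succ P, map_commutator]; exact commutator_mono ih ih

/-- the elements whose image commutes with the images of a set -/
def cen {P A : Type*} [Group P] [Monoid A] (ρ : P →* A) (s : Set P) : Subgroup P where
  carrier := {g | ∀ h ∈ s, ρ h * ρ g = ρ g * ρ h}
  one_mem' := fun h _ => by simp
  mul_mem' := fun {a b} ha hb h hh => by rw [map_mul, ← mul_assoc, ha h hh, mul_assoc, hb h hh, mul_assoc]
  inv_mem' := fun {a} ha h hh => by
    calc ρ h * ρ a⁻¹ = ρ a⁻¹ * (ρ a * ρ h) * ρ a⁻¹ := by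
          rw [← mul_assoc, ← map_mul ρ a⁻¹ a, inv_mul_cancel, map_one, one_mul]
      _ = _ := by rw [← ha h hh, mul_assoc, mul_assoc, ← map_mul ρ a, mul_inv_cancel, map_one, mul_one]

theorem cen_normal {P A : Type*} [Group P] [Monoid A] (ρ : P →* A) : (cen ρ Set.univ).Normal :=
  ⟨fun a ha g h _ => by
    rw [map_mul, map_mul, ha g trivial, mul_assoc (ρ a), ← map_mul, mul_inv_cancel, map_one, mul_one, ha h trivial]⟩

theorem exists_central {P : Type*} [Group P] [Finite P] [Fact p.Prime] (hP : IsPGroup p P) (Z : Subgroup P)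
    [Z.Normal] (h : Z ≠ ⊤) : ∃ x, x ∉ Z ∧ x ^ p ∈ Z ∧ ∀ g, ⁅x, g⁆ ∈ Z := by
  have : Nontrivial (P ⧸ Z) := QuotientGroup.nontrivial_iff.2 h
  have := (hP.to_quotient Z).center_nontrivial
  obtain ⟨⟨y, hy⟩, y1⟩ := exists_ne (1 : center (P ⧸ Z))
  obtain ⟨y, rfl⟩ := QuotientGroup.mk_surjective y
  obtain ⟨n, hn⟩ := hP y
  obtain ⟨j, j1, j2⟩ := H9.exists_notMem_pow_mem (A := Z) hn fun e => y1 (Subtype.ext ((QuotientGroup.eq_one_iff _).2 e))
  refine ⟨_, j1, by rwa [← pow_mul, ← pow_succ], fun g => (QuotientGroup.eq_one_iff _).1 ?_⟩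
  change QuotientGroup.mk' Z _ = 1
  rw [map_commutatorElement, commutatorElement_eq_one_iff_mul_comm, map_pow]
  exact (mem_center_iff.1 (pow_mem hy _) _).symm

theorem closed [IsAlgClosed K] [hp : Fact p.Prime] (h0 : (p : K) ≠ 0) (k : ℕ) :
    ∀ (P : Type u) [Group P] [Finite P], IsPGroup p P → ∀ d ∈ derivedSeries P k,
      ∀ (V : Type v) [AddCommGroup V] [Module K V] [FiniteDimensional K V] (ρ : Representation K P V),
        finrank K V < p ^ k → ρ d = 1 := by
  induction k with
  | zero =>
    intro P _ _ _ d _ V _ _ _ ρ h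
    have : Subsingleton V := finrank_zero_iff.1 (by simpa using h)
    exact Subsingleton.elim _ _
  | succ k ih =>
  intro P _ _ hP d hd
  refine of_irr h0 hP d _ fun V _ _ _ _ ρ hV hi => ?_
  have := cen_normal ρ
  by_cases hZ : cen ρ Set.univ = ⊤
  · refine (commutator_le.2 fun a _ b _ => ?_ : ⁅(⊤ : Subgroup P), ⊤⁆ ≤ MonoidHom.ker ρ)
      (derivedSeries_antitone P (by omega : 1 ≤ k + 1) hd)
    rw [MonoidHom.mem_ker, commutatorElement_def, map_mul, map_mul, map_mul, hZ.ge (mem_top b) a trivial,
      mul_assoc (ρ b), ← map_mul, mul_inv_cancel, map_one, mul_one, ← map_mul, mul_inv_cancel, map_one]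
  obtain ⟨x, x1, x2, x3⟩ := exists_central hP _ hZ
  have sc : ∀ g, ∃ c : K, ρ x * ρ g = c • (ρ g * ρ x) := fun g => by
    obtain ⟨c, hc⟩ := Module.End.exists_eigenvalue (ρ ⁅x, g⁆)
    have := (hi (Module.End.eigenspace (ρ ⁅x, g⁆) c) fun h v hv => by
      rw [Submodule.mem_comap, Module.End.mem_eigenspace_iff, ← Module.End.mul_apply, ← x3 g h trivial,
        Module.End.mul_apply, Module.End.mem_eigenspace_iff.1 hv, map_smul]).resolve_left hc
    refine ⟨c, LinearMap.ext fun v => ?_⟩
    rw [LinearMap.smul_apply, ← Module.End.mem_eigenspace_iff.1 (this.ge Submodule.mem_top), ← Module.End.mul_apply,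
      ← map_mul, ← map_mul, ← map_mul]
    congr 2
    simp [commutatorElement_def, mul_assoc]
  have sc' : ∀ g (c : K), ρ x * ρ g = c • (ρ g * ρ x) → ρ g⁻¹ * ρ x = c • (ρ x * ρ g⁻¹) := fun g c h => by
    calc ρ g⁻¹ * ρ x = ρ g⁻¹ * (ρ x * ρ g) * ρ g⁻¹ := by
          rw [mul_assoc, mul_assoc, ← map_mul ρ g, mul_inv_cancel, map_one, mul_one]
      _ = _ := by
          rw [h, mul_smul_comm, smul_mul_assoc, ← mul_assoc, ← map_mul ρ g⁻¹ g, inv_mul_cancel, map_one, one_mul]
  have hH : commutator P ≤ cen ρ {x} := commutator_le.2 fun a _ b _ y hy => by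
    obtain rfl : y = x := hy
    obtain ⟨c, hc⟩ := sc a
    obtain ⟨e, he⟩ := sc b
    simp only [commutatorElement_def, map_mul]
    rw [← mul_assoc, ← mul_assoc, ← mul_assoc, hc, mul_assoc _ (ρ b⁻¹) (ρ y), sc' b e he, mul_smul_comm,
      ← mul_assoc _ (ρ y), mul_assoc _ (ρ a⁻¹) (ρ y), sc' a c hc, smul_mul_assoc, mul_assoc (ρ a) (ρ y), he]
    simp only [mul_smul_comm, smul_mul_assoc, mul_assoc]
    rw [smul_comm]
  obtain ⟨t, ht⟩ : ∃ t, ρ t * ρ x ≠ ρ x * ρ t := by
    by_contra h
    exact x1 fun t _ => by_contra fun e => h ⟨t, e⟩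
  obtain ⟨ζ, hζ⟩ := sc t
  have mv : ∀ (g) (c μ : K), ρ x * ρ g = c • (ρ g * ρ x) → ∀ v ∈ Module.End.eigenspace (ρ x) μ,
      ρ g v ∈ Module.End.eigenspace (ρ x) (c * μ) := fun g c μ h v hv => by
    rw [Module.End.mem_eigenspace_iff, ← Module.End.mul_apply, h, LinearMap.smul_apply, Module.End.mul_apply,
      Module.End.mem_eigenspace_iff.1 hv, map_smul, mul_smul]
  have inj : ∀ g, Function.Injective (ρ g) := fun g a b e => by
    simpa [← Module.End.mul_apply, ← map_mul] using congrArg (ρ g⁻¹) e
  have oζ : orderOf ζ = p := by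
    refine orderOf_eq_prime ?_ fun e => ht (by rw [hζ, e, one_smul])
    have h1 : ∀ j : ℕ, ρ (x ^ j) * ρ t = ζ ^ j • (ρ t * ρ (x ^ j)) := fun j => by
      induction j with
      | zero => simp
      | succ j ih =>
        rw [pow_succ' x, map_mul, mul_assoc, ih, mul_smul_comm, ← mul_assoc, hζ, smul_mul_assoc, smul_smul,
          pow_succ, mul_assoc]
    obtain ⟨v, hv⟩ := exists_ne (0 : V)
    have h2 := LinearMap.congr_fun ((x2 t trivial).trans (h1 p)) v
    rw [LinearMap.smul_apply, ← map_mul, ← sub_eq_zero, ← one_smul K (ρ _ v), smul_smul, ← sub_smul, mul_one,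
      smul_eq_zero] at h2
    exact (sub_eq_zero.1 (h2.resolve_right fun e => hv (inj _ (by rw [e, map_zero])))).symm
  have small : ∀ μ, finrank K (Module.End.eigenspace (ρ x) μ) < p ^ k := fun μ => by
    by_cases hμ : μ = 0
    · rw [hμ, Module.End.eigenspace_zero, LinearMap.ker_eq_bot.2 (inj x), finrank_bot]
      exact pow_pos hp.out.pos _
    have h1 : ∀ i : ℕ, finrank K (Module.End.eigenspace (ρ x) μ) ≤ finrank K (Module.End.eigenspace (ρ x) (ζ ^ i * μ)) := fun i => by
      induction i with
      | zero => rw [pow_zero, one_mul]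
      | succ i ih =>
        rw [pow_succ', mul_assoc]
        exact ih.trans (LinearMap.finrank_le_finrank_of_injective (f := (ρ t).restrict (mv t ζ _ hζ))
          fun a b e => Subtype.ext (inj t (congrArg Subtype.val e)))
    have h2 := ((Module.End.eigenspaces_iSupIndep (ρ x)).comp (f := fun i : Fin p => ζ ^ (i : ℕ) * μ) fun i j e =>
      Fin.ext (pow_injOn_Iio_orderOf (oζ ▸ i.2) (oζ ▸ j.2) (mul_right_cancel₀ hμ e))).dfinsupp_lsum_injective
    have h3 := LinearMap.finrank_le_finrank_of_injective h2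
    have h4 := Module.finrank_directSum (R := K) fun i : Fin p => Module.End.eigenspace (ρ x) (ζ ^ (i : ℕ) * μ)
    have h5 := Finset.sum_le_sum (s := Finset.univ) fun (i : Fin p) _ => h1 i
    rw [← h4, Finset.sum_const, Finset.card_univ, Fintype.card_fin, smul_eq_mul] at h5
    exact Nat.lt_of_mul_lt_mul_left (((h5.trans h3).trans_lt hV).trans_eq (pow_succ' _ _))
  have top := (hi (⨆ μ, Module.End.eigenspace (ρ x) μ) fun g => iSup_le fun μ v hv => by
    obtain ⟨c, hc⟩ := sc g
    exact Submodule.mem_iSup_of_mem _ (mv g c μ hc v hv)).resolve_left fun e => by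
      obtain ⟨c, hc⟩ := Module.End.exists_eigenvalue (ρ x)
      exact hc (le_bot_iff.1 ((le_iSup _ c).trans e.le))
  obtain ⟨d, hd', rfl⟩ := der_succ_le hH k hd
  refine LinearMap.ext fun v => (top.ge.trans (iSup_le fun μ w hw => ?_ : _ ≤ LinearMap.eqLocus (ρ d) 1))
    Submodule.mem_top
  have := ih (cen ρ {x}) (hP.to_subgroup _) d hd' _ (Representation.subrepresentation (ρ.comp (cen ρ {x}).subtype)
    (Module.End.eigenspace (ρ x) μ) fun g v hv => by
      simpa using mv g 1 μ (by rw [one_smul]; exact g.2 x rfl) v hv) (small μ)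
  exact congrArg Subtype.val (LinearMap.congr_fun this ⟨w, hw⟩)

theorem field [Fact p.Prime] (h0 : (p : K) ≠ 0) {k : ℕ} {P : Type u} [Group P] [Finite P] (hP : IsPGroup p P)
    {d : P} (hd : d ∈ derivedSeries P k) {V : Type v} [AddCommGroup V] [Module K V] [FiniteDimensional K V]
    (ρ : Representation K P V) (h : finrank K V < p ^ k) : ρ d = 1 := by
  let L := AlgebraicClosure K
  let b := Module.finBasis K V
  let φ : Module.End K V →* Module.End L (Fin (finrank K V) → L) :=
    (Matrix.toLinAlgEquiv' (R := L)).toMonoidHom.comp ((algebraMap K L).mapMatrix.toMonoidHom.comp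
      (LinearMap.toMatrixAlgEquiv b).toMonoidHom)
  have inj : Function.Injective φ := (Matrix.toLinAlgEquiv' (R := L)).injective.comp
    ((Matrix.map_injective (algebraMap K L).injective).comp (LinearMap.toMatrixAlgEquiv b).injective)
  exact inj ((closed (K := L) (by simpa using (map_ne_zero (algebraMap K L)).2 h0) k P hP d hd _ (φ.comp ρ)
    (by simpa using h)).trans (map_one φ).symm)

theorem exists_inv [Fact p.Prime] [CharP K p] {P : Type u} [Group P] [Finite P] (hP : IsPGroup p P) {V : Type v}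
    [AddCommGroup V] [Module K V] [FiniteDimensional K V] (ρ : Representation K P V) {m : ℕ}
    (hm : m ≤ finrank K V) : ∃ W : Submodule K V, (∀ g, W ≤ W.comap (ρ g)) ∧ finrank K W = m := by
  induction m with
  | zero => exact ⟨⊥, fun _ => bot_le, finrank_bot _ _⟩
  | succ m ih =>
  obtain ⟨W, hW, e⟩ := ih (by omega)
  obtain ⟨w, -, w0, hw⟩ := H16.exists_fixed_vector hP (ρ.quotient W hW) ⊤ (fun _ _ _ => Submodule.mem_top) fun h => by
    have : W = ⊤ := Submodule.Quotient.subsingleton_iff.1 (subsingleton_of_forall_eq 0 fun y =>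
      h.le (Submodule.mem_top (x := y)))
    rw [this, finrank_top] at e
    omega
  obtain ⟨w, rfl⟩ := Submodule.Quotient.mk_surjective W w
  have w1 : w ∉ W := fun h => w0 ((Submodule.Quotient.mk_eq_zero W).2 h)
  refine ⟨W ⊔ K ∙ w, fun g => sup_le ((hW g).trans (Submodule.comap_mono le_sup_left)) ?_, ?_⟩
  · rw [Submodule.span_singleton_le_iff_mem, Submodule.mem_comap, ← sub_add_cancel (ρ g w) w]
    exact Submodule.add_mem_sup ((Submodule.Quotient.eq W).1 (hw g)) (Submodule.mem_span_singleton_self w)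
  · have := Submodule.finrank_sup_add_finrank_inf_eq W (K ∙ w)
    rw [((Submodule.disjoint_span_singleton_of_notMem w1)).eq_bot, finrank_bot,
      finrank_span_singleton (by rintro rfl; exact w1 W.zero_mem)] at this
    omega

theorem modular [Fact p.Prime] [CharP K p] {P : Type u} [Group P] [Finite P] (hP : IsPGroup p P) (k : ℕ) :
    ∀ (V : Type v) [AddCommGroup V] [Module K V] [FiniteDimensional K V] (ρ : Representation K P V),
      finrank K V ≤ 2 ^ k → ∀ d ∈ derivedSeries P k, ρ d = 1 := by
  induction k with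
  | zero =>
    intro V _ _ _ ρ h d _
    rcases subsingleton_or_nontrivial V with _ | _
    · exact Subsingleton.elim _ _
    obtain ⟨w, -, w0, hw⟩ := H16.exists_fixed_vector hP ρ ⊤ (fun _ _ _ => Submodule.mem_top) top_ne_bot
    ext v
    obtain ⟨c, rfl⟩ := (finrank_eq_one_iff_of_nonzero' w w0).1 (le_antisymm h finrank_pos) v
    simp [hw]
  | succ k ih =>
  intro V _ _ _ ρ h
  obtain ⟨W, hW, e⟩ := exists_inv hP ρ (m := finrank K V / 2) (by omega)
  have := W.finrank_quotient_add_finrank
  have h1 := ih _ (ρ.subrepresentation W hW) (by omega)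
  have h2 := ih _ (ρ.quotient W hW) (by omega)
  refine (commutator_le.2 fun a ha b hb => ?_ : ⁅derivedSeries P k, derivedSeries P k⁆ ≤ MonoidHom.ker ρ)
  have h3 : ρ a * ρ b = ρ b * ρ a := by
    have e1 := mul_eq_zero_of_triv ρ W hW (h1 a ha) (h2 b hb)
    have e2 := mul_eq_zero_of_triv ρ W hW (h1 b hb) (h2 a ha)
    rw [← sub_eq_zero, ← sub_zero 0, ← e1, e1.trans e2.symm]
    nth_rw 1 [← e1.trans e2.symm]
    noncomm_ring
  rw [MonoidHom.mem_ker, commutatorElement_def, map_mul, map_mul, map_mul, h3,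
    mul_assoc (ρ b), ← map_mul, mul_inv_cancel, map_one, mul_one, ← map_mul, mul_inv_cancel, map_one]

theorem finite [Finite K] [hp : Fact p.Prime] (h0 : (p : K) ≠ 0) {k : ℕ} {P : Type u} [Group P] [Finite P]
    (hP : IsPGroup p P) {d : P} (hd : d ∈ derivedSeries P k) {V : Type v} [AddCommGroup V] [Module K V]
    [FiniteDimensional K V] (ρ : Representation K P V)
    (h : finrank K V < orderOf (Nat.card K : ZMod p) * p ^ k) : ρ d = 1 := by
  refine of_irr h0 hP d _ (fun V _ _ _ _ ρ hV hi => ?_) V ρ h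
  by_cases hZ : MonoidHom.ker ρ = ⊤
  · exact hZ.ge (mem_top d)
  obtain ⟨x, x1, x2, x3⟩ := exists_central hP _ hZ
  have : Finite V := Module.finite_of_finite K
  have : Finite (Module.End K V) := Finite.of_injective _ DFunLike.coe_injective
  let E := Subalgebra.centralizer K (Set.range ρ)
  have : NoZeroDivisors E := ⟨fun {a b} e => by
    refine (hi (LinearMap.ker a.1) fun g v hv => ?_).symm.imp
      (fun h => Subtype.ext (LinearMap.ker_eq_top.1 h)) fun h => Subtype.ext (LinearMap.ext fun v => ?_)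
    · rw [Submodule.mem_comap, LinearMap.mem_ker, ← Module.End.mul_apply, ← a.2 _ ⟨g, rfl⟩, Module.End.mul_apply,
        LinearMap.mem_ker.1 hv, map_zero]
    · exact h.le (LinearMap.congr_fun (congrArg Subtype.val e) v)⟩
  have : IsDomain E := NoZeroDivisors.to_isDomain E
  letI : Field E := (Finite.isDomain_to_isField E).toField
  let z : E := ⟨ρ x, by
    rintro _ ⟨g, rfl⟩
    rw [← map_mul, ← map_mul, ← one_mul (ρ (g * x)), ← x3 g, ← map_mul]
    simp [commutatorElement_def, mul_assoc]⟩
  have oz : orderOf z = p := orderOf_eq_prime (Subtype.ext ((map_pow ρ x p).symm.trans x2))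
    fun e => x1 (congrArg Subtype.val e)
  have z0 : z ≠ 0 := fun e => by simp [e, hp.out.ne_zero.symm] at oz
  have d1 : p ∣ Nat.card E - 1 := by
    rw [← Nat.card_units, ← oz]
    exact (orderOf_units (y := Units.mk0 z z0)).dvd.trans (orderOf_dvd_natCard _)
  have c1 := Module.natCard_eq_pow_finrank (K := K) (V := E)
  have c2 := Module.natCard_eq_pow_finrank (K := E) (V := V)
  have c3 := Module.natCard_eq_pow_finrank (K := K) (V := V)
  have d2 : orderOf (Nat.card K : ZMod p) ∣ finrank K E := orderOf_dvd_of_pow_eq_one (by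
    rw [← Nat.cast_pow, ← c1, ← Nat.sub_add_cancel (Nat.card_pos (α := E)), Nat.cast_add,
      (ZMod.natCast_eq_zero_iff _ _).2 d1, zero_add, Nat.cast_one])
  rw [c2, c1, ← pow_mul, Nat.pow_right_inj Finite.one_lt_card] at c3
  have : Module.Finite E V := Module.Finite.of_finite
  let ρ' : Representation E P V :=
    { toFun := fun g =>
        { toFun := ρ g, map_add' := map_add _
          map_smul' := fun a v => LinearMap.congr_fun (a.2 _ ⟨g, rfl⟩) v }
      map_one' := LinearMap.ext fun v => LinearMap.congr_fun (map_one ρ) v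
      map_mul' := fun a b => LinearMap.ext fun v => LinearMap.congr_fun (map_mul ρ a b) v }
  have := field (K := E) (by simpa using (map_ne_zero (algebraMap K E)).2 h0) hP hd ρ'
    (Nat.lt_of_mul_lt_mul_left (((Nat.mul_le_mul_right _ (Nat.le_of_dvd finrank_pos d2)).trans c3.le).trans_lt hV))
  exact LinearMap.ext fun v => LinearMap.congr_fun this v

theorem exists_long [Fintype K] [hp : Fact p.Prime] {e : ℕ} (he : p ∣ Nat.card (GL (Fin e) K)) (k : ℕ) :
    ∃ (Q : Type w) (_ : Group Q) (_ : Finite Q) (V : Type w) (_ : AddCommGroup V) (_ : Module K V)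
      (_ : FiniteDimensional K V) (ρ : Representation K Q V), IsPGroup p Q ∧ derivedSeries Q k ≠ ⊥ ∧
      Function.Injective ρ ∧ finrank K V = e * p ^ k := by
  classical
  induction k with
  | zero =>
    obtain ⟨g, hg⟩ := exists_prime_orderOf_dvd_card' p he
    refine ⟨zpowers g, inferInstance, inferInstance, Fin e → K, inferInstance, inferInstance, inferInstance,
      ((Matrix.toLinAlgEquiv' (R := K)).toMonoidHom.comp (Units.coeHom _)).comp (zpowers g).subtype,
      IsPGroup.of_card (n := 1) (by rw [Nat.card_zpowers, hg, pow_one]), fun h => hp.out.ne_one ?_,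
      ((Matrix.toLinAlgEquiv' (R := K)).injective.comp Units.val_injective).comp Subtype.val_injective, by simp⟩
    rw [← hg, ← Nat.card_zpowers, ← card_top, ← derivedSeries_zero, h, card_bot]
  | succ k ih =>
  obtain ⟨Q, _, _, V, _, _, _, ρ, hQ, hd, inj, hV⟩ := ih
  let C := Multiplicative (ZMod p)
  have cC : Nat.card C = p := Nat.card_zmod p
  let ρ' : Representation K (Q ≀ᵣ C) (C → V) :=
    { toFun := fun w => LinearMap.pi fun x => ρ (w.left x) ∘ₗ LinearMap.proj (w.right⁻¹ * x)
      map_one' := by ext v x; simp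
      map_mul' := fun a b => by ext v x; simp [mul_inv_rev a.right, mul_assoc] }
  have : Nontrivial V := by
    by_contra h
    rw [not_nontrivial_iff_subsingleton] at h
    exact hd (eq_bot_iff.2 fun a _ => inj (Subsingleton.elim _ _))
  refine ⟨Q ≀ᵣ C, inferInstance, inferInstance, C → V, inferInstance, inferInstance, inferInstance, ρ', ?_, ?_,
    (injective_iff_map_eq_one _).2 fun w hw => ?_, ?_⟩
  · obtain ⟨n, hn⟩ := hQ.exists_card_eq
    exact IsPGroup.of_card (n := n * p + 1) (by rw [RegularWreathProduct.card, hn, cC, pow_succ, pow_mul])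
  · let B := commutator (Q ≀ᵣ C) ⊓ RegularWreathProduct.rightHom.ker
    let π : B →* Q :=
      { toFun := fun b => b.1.left 1
        map_one' := rfl
        map_mul' := fun a b => by
          have : a.1.right = 1 := a.2.2
          simp [this] }
    have hπ : Function.Surjective π := fun a => by
      obtain ⟨g, hg⟩ := exists_ne (1 : C)
      refine ⟨⟨⁅(⟨Pi.mulSingle 1 a, 1⟩ : Q ≀ᵣ C), RegularWreathProduct.inl g⁆,
        commutator_mem_commutator (mem_top _) (mem_top _), ?_⟩, ?_⟩
      · simp [commutatorElement_def]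
      · simp [π, commutatorElement_def, hg]
    intro h
    have h1 := map_der_le (H := B) inf_le_left k
    rw [h, le_bot_iff, map_eq_bot_iff_of_injective _ B.subtype_injective] at h1
    exact hd (by rw [← map_derivedSeries_eq hπ, h1, Subgroup.map_bot])
  · have h1 : ∀ (v : C → V) x, ρ (w.left x) (v (w.right⁻¹ * x)) = v x := fun v x => congrFun (LinearMap.congr_fun hw v) x
    have h2 : w.right = 1 := by
      by_contra h
      obtain ⟨v, hv⟩ := exists_ne (0 : V)
      have := h1 (Pi.single 1 v) 1
      rw [mul_one, Pi.single_eq_of_ne (by simpa using h), map_zero, Pi.single_eq_same] at this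
      exact hv this.symm
    refine RegularWreathProduct.ext (funext fun x => inj (LinearMap.ext fun v => ?_)) h2
    simpa using h1 (fun _ => v) x
  · rw [Module.finrank_pi_fintype, Finset.sum_const, Finset.card_univ, ← Nat.card_eq_fintype_card, cC, hV,
      smul_eq_mul]
    ring

theorem exists_GL {Q V : Type*} [Group Q] [AddCommGroup V] [Module K V] [FiniteDimensional K V]
    (ρ : Representation K Q V) (inj : Function.Injective ρ) {n : ℕ} (h : finrank K V ≤ n) :
    ∃ f : Q →* GL (Fin n) K, Function.Injective f := by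
  let W := V × (Fin (n - finrank K V) → K)
  let b : Basis (Fin n) K W := finBasisOfFinrankEq _ _ (by
    simp only [W, finrank_prod, finrank_fin_fun]; omega)
  let τ : Q →* Module.End K W :=
    { toFun := fun g => (ρ g).prodMap LinearMap.id
      map_one' := by rw [map_one]; exact LinearMap.ext fun _ => rfl
      map_mul' := fun _ _ => by rw [map_mul]; exact LinearMap.ext fun _ => rfl }
  refine ⟨((LinearMap.toMatrixAlgEquiv b).toMonoidHom.comp τ).toHomUnits, fun σ σ' h => inj ?_⟩
  have h1 : τ σ = τ σ' := (LinearMap.toMatrixAlgEquiv b).injective (congrArg Units.val h)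
  ext v
  exact congrArg (fun f : Module.End K W => (f (v, 0)).1) h1

/-- the natural representation of a group of matrices -/
def nat {P : Type*} [Group P] {n : ℕ} (f : P →* GL (Fin n) K) : Representation K P (Fin n → K) :=
  ((Matrix.toLinAlgEquiv' (R := K)).toMonoidHom.comp (Units.coeHom _)).comp f

theorem nat_inj {P : Type*} [Group P] {n : ℕ} {f : P →* GL (Fin n) K} (h : Function.Injective f) :
    Function.Injective (nat f) :=
  ((Matrix.toLinAlgEquiv' (R := K)).injective.comp Units.val_injective).comp h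

theorem finite_GL [Fintype K] [hp : Fact p.Prime] (h : ¬p ∣ Fintype.card K) {n b : ℕ} (hb : 1 < b) (hbp : b ≤ p)
    (P : Subgroup (GL (Fin n) K)) (hP : IsPGroup p P) :
    derivedSeries P (Nat.log b (n / orderOf (Fintype.card K : ZMod p)) + 1) = ⊥ := by
  have h0 : (p : K) ≠ 0 := fun e => h (by
    have := (CharP.charP_iff_prime_eq_zero hp.out).2 e
    exact (CharP.cast_eq_zero_iff K p _).1 (FiniteField.cast_card_eq_zero K))
  have h1 : 0 < orderOf (Fintype.card K : ZMod p) := orderOf_pos_iff.2 (isOfFinOrder_iff_pow_eq_one.2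
    ⟨p - 1, Nat.sub_pos_of_lt hp.out.one_lt, ZMod.pow_card_sub_one_eq_one fun e =>
      h ((ZMod.natCast_eq_zero_iff _ _).1 e)⟩)
  refine eq_bot_iff.2 fun d hd => nat_inj P.subtype_injective ((finite h0 hP hd _ ?_).trans (map_one _).symm)
  rw [finrank_fin_fun, Nat.card_eq_fintype_card, mul_comm, ← Nat.div_lt_iff_lt_mul h1]
  exact (Nat.lt_pow_succ_log_self hb _).trans_le (Nat.pow_le_pow_left hbp _)

end H3.DL
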