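import Cfsg.Agent.H3.MaxCl3

/-! Blackburn's theorem on `p`-groups of maximal class: the two-step centralizers `tsc j`, `2 ≤ j ≤ n - 3`, coincide
(`MX.blackburn`), and in the exceptional case `n` is even (`MX.blk_core`). Lie calculus `Blk.π`. -/

set_option autoImplicit false

namespace H3.Blk

open Subgroup Cfsg H18 H3
open scoped commutatorElement

variable {G : Type*} [Group G] {p n d i j k l : ℕ} {a b c g x y : G}

instance normal_gam (i : ℕ) : (gam (⊤ : Subgroup G) i).Normal := (gam_nml i).normal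

/-- the projection modulo `γ_{d+1}` -/
def π (d : ℕ) : G →* G ⧸ gam (⊤ : Subgroup G) (d + 1) := QuotientGroup.mk' _

theorem π_eq_one : π d a = 1 ↔ a ∈ gam ⊤ (d + 1) := QuotientGroup.eq_one_iff a

theorem π_eq : π d a = π d b ↔ a⁻¹ * b ∈ gam ⊤ (d + 1) := QuotientGroup.eq

theorem br_zero (ha : a ∈ gam ⊤ i) (hb : b ∈ gam ⊤ j) (h : d + 1 ≤ i + j) : π d ⁅a, b⁆ = 1 :=
  π_eq_one.2 (gam_anti h (comm_mem_gam ha hb))

theorem cen (ha : a ∈ gam ⊤ d) (g : G) : Commute (π d a) (π d g) := by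
  rw [← commutatorElement_eq_one_iff_commute, ← map_commutatorElement]
  exact br_zero (j := 1) ha (mem_top g) le_rfl

theorem π_conj (ha : a ∈ gam ⊤ d) (g : G) : π d (g * a * g⁻¹) = π d a := by
  rw [map_mul, map_mul, map_inv, ← (cen ha g).eq, mul_inv_cancel_right]

theorem br_mul_left (ha : a ∈ gam ⊤ i) (hb : b ∈ gam ⊤ i) (hc : c ∈ gam ⊤ j) (h : d ≤ i + j) :
    π d ⁅a * b, c⁆ = π d ⁅a, c⁆ * π d ⁅b, c⁆ := by
  rw [comm_mul_left', map_mul, π_conj (gam_anti h (comm_mem_gam hb hc)), (cen (gam_anti h (comm_mem_gam ha hc)) _).eq]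

theorem br_mul_right (ha : a ∈ gam ⊤ i) (hc : c ∈ gam ⊤ j) (h : d ≤ i + j) (b : G) :
    π d ⁅a, b * c⁆ = π d ⁅a, b⁆ * π d ⁅a, c⁆ := by
  rw [show ⁅a, b * c⁆ = ⁅a, b⁆ * (b * ⁅a, c⁆ * b⁻¹) by simp only [commutatorElement_def]; group, map_mul,
    π_conj (gam_anti h (comm_mem_gam ha hc))]

theorem br_zpow_left (ha : a ∈ gam ⊤ i) (hc : c ∈ gam ⊤ j) (h : d ≤ i + j) (m : ℤ) :
    π d ⁅a ^ m, c⁆ = π d ⁅a, c⁆ ^ m :=
  map_zpow (MonoidHom.mk' (fun a : gam (⊤ : Subgroup G) i => π d ⁅(a : G), c⁆) fun a b => br_mul_left a.2 b.2 hc h)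
    ⟨a, ha⟩ m

theorem br_zpow_right (ha : a ∈ gam ⊤ i) (hc : c ∈ gam ⊤ j) (h : d ≤ i + j) (m : ℤ) :
    π d ⁅a, c ^ m⁆ = π d ⁅a, c⁆ ^ m :=
  map_zpow (MonoidHom.mk' (fun c : gam (⊤ : Subgroup G) j => π d ⁅a, (c : G)⁆) fun b c => br_mul_right ha c.2 h b)
    ⟨c, hc⟩ m

/-- congruences are carried through a bracket -/
theorem br_congr {a' g' : G} {m m' : ℤ} (ha : a ∈ gam ⊤ i) (h1 : π i a' = π i a ^ m) (h2 : π 1 g' = π 1 g ^ m') :
    π (i + 1) ⁅a', g'⁆ = π (i + 1) ⁅a, g⁆ ^ (m * m') := by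
  rw [eq_comm, ← map_zpow, π_eq] at h1 h2
  obtain ⟨u, rfl⟩ : ∃ u, a' = a ^ m * u := ⟨(a ^ m)⁻¹ * a', by group⟩
  obtain ⟨v, rfl⟩ : ∃ v, g' = g ^ m' * v := ⟨(g ^ m')⁻¹ * g', by group⟩
  rw [inv_mul_cancel_left] at h1 h2
  have h3 := mul_mem (zpow_mem ha m) (gam_anti (Nat.le_succ i) h1)
  rw [br_mul_right h3 h2 (by omega), br_zero h3 h2 (by omega), mul_one, br_mul_left (j := 1) (zpow_mem ha m)
    (gam_anti (Nat.le_succ i) h1) (mem_top _) le_rfl, br_zero (j := 1) h1 (mem_top _) le_rfl, mul_one,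
    br_zpow_left (j := 1) ha (mem_top _) le_rfl, br_zpow_right (j := 1) ha (mem_top _) le_rfl, ← zpow_mul, mul_comm]

theorem br_conj (ha : a ∈ gam ⊤ i) (hb : b ∈ gam ⊤ j) (hc : c ∈ gam ⊤ l) (hj : 1 ≤ j) (h : d ≤ i + j + l) :
    π d ⁅⁅a, b⁆, b * c * b⁻¹⁆ = π d ⁅⁅a, b⁆, c⁆ := by
  have h1 := comm_mem_gam ha hb
  rw [show b * c * b⁻¹ = ⁅b, c⁆ * c by rw [commutatorElement_def]; group, br_mul_right h1 hc h,
    br_zero h1 (comm_mem_gam hb hc) (by omega), one_mul]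

theorem jacobi (ha : a ∈ gam ⊤ i) (hb : b ∈ gam ⊤ j) (hc : c ∈ gam ⊤ l) (hi : 1 ≤ i) (hj : 1 ≤ j) (hl : 1 ≤ l)
    (h : d ≤ i + j + l) : π d ⁅⁅a, b⁆, c⁆ * π d ⁅⁅b, c⁆, a⁆ * π d ⁅⁅c, a⁆, b⁆ = 1 := by
  rw [← br_conj ha hb hc hj h, ← br_conj hb hc ha hl (by omega), ← br_conj hc ha hb hi (by omega), ← map_mul,
    ← map_mul, show ⁅⁅a, b⁆, b * c * b⁻¹⁆ * ⁅⁅b, c⁆, c * a * c⁻¹⁆ * ⁅⁅c, a⁆, a * b * a⁻¹⁆ = 1 by
      simp only [commutatorElement_def]; group, map_one]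

theorem der (ha : a ∈ gam ⊤ i) (hb : b ∈ gam ⊤ j) (hi : 1 ≤ i) (hj : 1 ≤ j) (h : d ≤ i + j + 1) (x : G) :
    π d ⁅⁅a, b⁆, x⁆ = π d ⁅⁅a, x⁆, b⁆ * π d ⁅a, ⁅b, x⁆⁆ := by
  have h1 := jacobi (l := 1) ha hb (mem_top x) hi hj le_rfl h
  have h2 := br_zpow_left (d := d) (comm_mem_gam (j := 1) ha (mem_top x)) hb (by omega) (-1)
  rw [zpow_neg_one, zpow_neg_one, commutatorElement_inv] at h2
  rw [h2, ← commutatorElement_inv a ⁅b, x⁆, map_inv, mul_inv_eq_one, mul_inv_eq_iff_eq_mul] at h1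
  exact h1

/-- the chain `y, [y, x], [y, x, x], …` -/
def w (x y : G) : ℕ → G
  | 0 => y
  | j + 1 => ⁅w x y j, x⁆

theorem w_mem (j : ℕ) : w x y j ∈ gam ⊤ (j + 1) := by
  induction j with
  | zero => exact mem_top _
  | succ j ih => exact comm_mem_gam (j := 1) ih (mem_top x)

theorem w_der (s t : ℕ) (h : d ≤ s + t + 3) : π d ⁅⁅w x y s, w x y t⁆, x⁆ =
    π d ⁅w x y (s + 1), w x y t⁆ * π d ⁅w x y s, w x y (t + 1)⁆ :=
  der (w_mem s) (w_mem t) (by omega) (by omega) (by omega) x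

section
variable {m : ℕ} (hy : ∀ j, 2 ≤ j → j ≤ m → y ∈ tsc ⊤ j)
include hy

theorem w_one (t : ℕ) : ∀ s, s + t + 1 ≤ m → ⁅w x y s, w x y t⁆ ∈ gam ⊤ (s + t + 3) := by
  induction t with
  | zero =>
    rintro (_ | s) h
    · simp
    · exact (hy (s + 2) (by omega) (by omega)).2 _ (w_mem _)
  | succ t ih =>
    intro s h
    have e := w_der (x := x) (y := y) (d := s + t + 3) s t le_rfl
    rw [br_zero (j := 1) (ih s (by omega)) (mem_top x) le_rfl, π_eq_one.2 (by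
      have := ih (s + 1) (by omega); rwa [add_right_comm s 1 t] at this), one_mul] at e
    exact π_eq_one.1 e.symm

theorem w_two (t : ℕ) : ∀ s, s + t = m → π (m + 2) ⁅w x y s, w x y t⁆ = π (m + 2) ⁅w x y m, y⁆ ^ ((-1 : ℤ) ^ t) := by
  induction t with
  | zero => rintro s rfl; simp [w]
  | succ t ih =>
    intro s h
    have e := w_der (x := x) (y := y) (d := m + 2) s t (by omega)
    rw [br_zero (j := 1) (w_one hy t s (by omega)) (mem_top x) (by omega), ih _ (by omega), eq_comm,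
      mul_eq_one_iff_eq_inv'] at e
    rw [e, pow_succ, mul_neg_one, zpow_neg]

theorem w_three (h0 : π (m + 3) ⁅w x y (m + 1), y⁆ = 1) (t : ℕ) : ∀ s, s + t = m + 1 →
    π (m + 3) ⁅w x y s, w x y t⁆ = π (m + 3) ⁅⁅w x y m, y⁆, x⁆ ^ ((-1 : ℤ) ^ (t + 1) * t) := by
  induction t with
  | zero => rintro s rfl; simpa [w] using h0
  | succ t ih =>
    intro s h
    have e := w_der (x := x) (y := y) (d := m + 3) s t (by omega)
    rw [br_congr (m' := 1) (comm_mem_gam (j := 1) (w_mem m) (mem_top y)) (w_two hy t s (by omega)) (zpow_one _).symm,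
      ih _ (by omega), eq_comm, ← eq_inv_mul_iff_mul_eq, ← zpow_neg, ← zpow_add] at e
    rw [e]; congr 1; push_cast; ring

end

variable [Finite G]

theorem w_not_mem (h : MX p n (⊤ : Subgroup G)) (hu : ∀ j, 1 ≤ j → j ≤ n - 2 → x ∉ tsc ⊤ j)
    (h1 : ⁅y, x⁆ ∉ gam ⊤ 3) (j : ℕ) (hj : j + 3 ≤ n) : w x y (j + 1) ∉ gam ⊤ (j + 3) := by
  induction j with
  | zero => exact h1
  | succ j ih => exact fun e => ih (by omega) (h.un (j := j + 2) (by omega) (mem_top x) (hu _ (by omega) (by omega))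
      (w_mem _) e)

theorem eq_one_of_zpow (h : MX p n (⊤ : Subgroup G)) (hi : 2 ≤ i) (ha : a ∈ gam ⊤ i) {m : ℤ} (e : π i a ^ m = 1)
    (hm : ¬ (p : ℤ) ∣ m) : a ∈ gam ⊤ (i + 1) := by
  have h1 : π i a ^ p = 1 := by
    rw [← map_pow, π_eq_one]
    by_cases h2 : p = 2
    · subst h2; exact h.pow_mem hi ha
    · have := h.prime.two_le; exact gam_anti (by omega) (h.pow_mem hi ha)
  rcases (Nat.dvd_prime h.prime).1 (orderOf_dvd_of_pow_eq_one h1) with k | k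
  · exact π_eq_one.1 (orderOf_eq_one_iff.1 k)
  · exact (hm (k ▸ orderOf_dvd_iff_zpow_eq_one.2 e)).elim

theorem not_dvd_two (hp : p.Prime) (h2 : p ≠ 2) : ¬ (p : ℤ) ∣ 2 := fun e =>
  h2 ((Nat.prime_dvd_prime_iff_eq hp Nat.prime_two).1 (by exact_mod_cast e))

end H3.Blk

namespace H3.MX

open Subgroup Cfsg H18 H3 Blk
open scoped commutatorElement

variable {G : Type*} [Group G] [Finite G] {p n m j : ℕ}

theorem exists_tsc_two (h : MX p n (⊤ : Subgroup G)) (hn : 4 ≤ n) : ∃ y ∈ tsc (⊤ : Subgroup G) 2, y ∉ gam ⊤ 2 := by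
  by_contra! k
  have := relIndex_dvd_left (H := ⊤) (show tsc ⊤ 2 ≤ gam (⊤ : Subgroup G) 2 from k)
  rw [h.tsc_idx le_rfl hn, gam_two, h.relIndex_der] at this
  have := Nat.le_of_dvd h.prime.pos this
  have := h.prime.one_lt
  nlinarith

theorem blk_core (h : MX p n (⊤ : Subgroup G)) (h2 : p ≠ 2) (hm : 2 ≤ m) (hn : m + 3 ≤ n)
    (e : ∀ j, 2 ≤ j → j ≤ m → tsc (⊤ : Subgroup G) j = tsc ⊤ 2) (ne : tsc (⊤ : Subgroup G) (m + 1) ≠ tsc ⊤ 2) :
    Odd m ∧ ¬ ⁅gam (⊤ : Subgroup G) m, gam (⊤ : Subgroup G) 2⁆ ≤ gam (⊤ : Subgroup G) (m + 3) ∧ (m + 4 ≤ n → p ∣ m + 1) := by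
  obtain ⟨x, -, hu⟩ := h.exists_unif
  obtain ⟨y, y1, y2⟩ := h.exists_tsc_two (by omega)
  have hy : ∀ j, 2 ≤ j → j ≤ m → y ∈ tsc ⊤ j := fun j h1 h2 => e j h1 h2 ▸ y1
  have y3 : y ∉ tsc ⊤ (m + 1) := fun k => ne (h.tsc_eq_of_le le_rfl (by omega) (by omega) (by omega) (by
    rw [← h.exists_tsc (by omega) y1 y2]; exact sup_le gam_le_tsc (zpowers_le.2 k)))
  have w1 : ⁅y, x⁆ ∉ gam ⊤ 3 := by
    have := h.dl_not_mem (by omega) (mem_top x) (hu 2 (by omega) (by omega)) (inv_mem y1) (mt inv_mem_iff.1 y2)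
    rwa [dl_eq, inv_inv] at this
  obtain ⟨m, rfl⟩ := Nat.exists_eq_add_of_le' (show 1 ≤ m by omega)
  have u0 := comm_mem_gam (j := 1) (w_mem (x := x) (y := y) (m + 1)) (mem_top y)
  have u1 : ⁅w x y (m + 1), y⁆ ∉ gam ⊤ (m + 1 + 2 + 1) := fun k =>
    w_not_mem h hu w1 m (by omega) (h.un (j := m + 2) (by omega) (mem_top y) y3 (w_mem _) k)
  have c1 : ⁅w x y m, w x y 1⁆ ∉ gam ⊤ (m + 1 + 2 + 1) := fun k => by
    have := w_two (x := x) hy 1 m rfl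
    rw [π_eq_one.2 k, _root_.pow_one, zpow_neg_one, eq_comm, inv_eq_one] at this
    exact u1 (π_eq_one.1 this)
  refine ⟨Nat.not_even_iff_odd.1 fun k => u1 (eq_one_of_zpow h (by omega) u0 ?_ (not_dvd_two h.prime h2)),
    fun k => c1 (k (commutator_mem_commutator (w_mem m) (w_mem 1))), fun hn => ?_⟩
  · have := w_two (x := x) hy (m + 1) 0 (zero_add _)
    rw [k.neg_one_pow, zpow_one, show w x y 0 = y from rfl, ← commutatorElement_inv, map_inv,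
      inv_eq_iff_mul_eq_one] at this
    rw [zpow_two, this]
  have y4 : y ∈ tsc ⊤ (m + 3) := by_contra fun k => c1 (h.un (j := m + 3) (by omega) (mem_top y) k
    (comm_mem_gam (i := m + 1) (j := 2) (w_mem m) (w_mem 1)) (by
      have := jacobi (d := m + 4) (l := 1) (w_mem (x := x) (y := y) m) (w_mem (x := x) (y := y) 1) (mem_top y)
        (by omega) (by omega) le_rfl (by omega)
      have a1 : ⁅w x y 1, y⁆ ∈ gam ⊤ 4 := w_one (x := x) hy 0 1 (by omega)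
      have a2 : ⁅y, w x y m⁆ ∈ gam ⊤ (0 + m + 3) := w_one (x := x) hy m 0 (by omega)
      rw [br_zero a1 (w_mem m) (by omega), br_zero a2 (w_mem 1) (by omega), mul_one, mul_one] at this
      exact π_eq_one.1 this))
  have h0 : π (m + 1 + 3) ⁅w x y (m + 1 + 1), y⁆ = 1 := π_eq_one.2 (y4.2 _ (w_mem _))
  have := w_three hy h0 (m + 1 + 1) 0 (zero_add _)
  rw [show w x y 0 = y from rfl, ← commutatorElement_inv, map_inv, h0, inv_one] at this
  by_contra k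
  refine u1 (h.un (j := m + 3) (by omega) (mem_top x) (hu _ (by omega) (by omega)) u0 (eq_one_of_zpow h (by omega)
    (comm_mem_gam (j := 1) u0 (mem_top x)) this.symm fun e => k ?_))
  exact_mod_cast (IsUnit.dvd_mul_left (isUnit_neg_one.pow _)).1 e

theorem blackburn (h : MX p n (⊤ : Subgroup G)) (h2 : p ≠ 2) (j : ℕ) :
    2 ≤ j → j + 3 ≤ n → tsc (⊤ : Subgroup G) j = tsc ⊤ 2 := by
  obtain ⟨s, hs, hu⟩ := h.exists_unif
  induction j using Nat.strong_induction_on with | _ j ih =>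
  intro h1 hn
  by_contra ne
  obtain ⟨m, rfl⟩ := Nat.exists_eq_add_of_le' (show 1 ≤ j by omega)
  have m2 : 2 ≤ m := by
    by_contra k
    exact ne (by rw [show m = 1 by omega])
  obtain ⟨c1, -, c2⟩ := h.blk_core h2 m2 (by omega) (fun j a b => ih j (by omega) a (by omega)) ne
  obtain ⟨r, hr⟩ := c2 (by omega)
  have p3 := three_le h.prime h2
  have r2 : 2 ≤ r := by
    rcases r with _ | _ | r
    · omega
    · obtain ⟨a, ha⟩ := h.prime.odd_of_ne_two h2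
      obtain ⟨b, hb⟩ := c1
      omega
    · omega
  have : 2 * p ≤ m + 1 := by rw [hr]; nlinarith
  refine ne ?_
  rw [← ih (m + 2 - p) (by omega) (by omega) (by omega)]
  refine (h.tsc_eq_of_le h1 (by omega) (by omega) (by omega) ?_).symm
  have := h.tsc_step hs hu (j := m + 2 - p) (by omega) (by omega)
  rwa [show m + 2 - p + p - 1 = m + 1 by omega] at this

end H3.MX
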