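import Cfsg.Agent.H1.Harv3

/-! S4373 and S4621 from the statement `St` of S4372 (base size two for coprime solvable actions):
`s4373`, `s4621`. -/

set_option autoImplicit false
set_option linter.unusedSectionVars false

namespace H3.BsP
open H18 H1 Subgroup Cfsg
open scoped Pointwise

universe u v

/-- the statement of S4372 -/
def St : Prop := ∀ (A : Type u) (K : Type v) [Group A] [Finite A] [Group K] [Finite K]
  [MulDistribMulAction A K] [FaithfulSMul A K], Group.IsSolvable A → (Nat.card A).Coprime (Nat.card K) →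
    ∃ x y : K, ∀ a : A, a • x = x → a • y = y → a = 1

theorem s4621 (h : St.{u, v}) {F : Type*} [Field F] {V : Type v} [AddCommGroup V] [Module F V] [Finite V]
    {G : Type u} [Group G] [Finite G] [Group.IsSolvable G] (ρ : Representation F G V)
    (hfaith : Function.Injective ρ) (hcop : (Nat.card G).Coprime (Nat.card V)) :
    ∃ x y : V, ∀ g : G, ρ g x = x → ρ g y = y → g = 1 := by
  let _ : MulDistribMulAction G (Multiplicative V) :=
    { smul := fun g v => Multiplicative.ofAdd (ρ g v.toAdd)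
      one_smul := fun v => by
        change Multiplicative.ofAdd (ρ 1 v.toAdd) = v
        simp
      mul_smul := fun a b v => by
        change Multiplicative.ofAdd (ρ (a * b) v.toAdd) =
          Multiplicative.ofAdd (ρ a (Multiplicative.ofAdd (ρ b v.toAdd)).toAdd)
        simp
      smul_mul := fun a v w => by
        change Multiplicative.ofAdd (ρ a (v * w).toAdd) =
          Multiplicative.ofAdd (ρ a v.toAdd) * Multiplicative.ofAdd (ρ a w.toAdd)
        simp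
      smul_one := fun a => by
        change Multiplicative.ofAdd (ρ a (1 : Multiplicative V).toAdd) = 1
        simp }
  have : FaithfulSMul G (Multiplicative V) := ⟨fun {a b} e => hfaith (LinearMap.ext fun v =>
    Multiplicative.ofAdd.injective (e (Multiplicative.ofAdd v)))⟩
  obtain ⟨x, y, e⟩ := h G (Multiplicative V) inferInstance hcop
  exact ⟨x.toAdd, y.toAdd, fun g h1 h2 => e g (congrArg Multiplicative.ofAdd h1) (congrArg Multiplicative.ofAdd h2)⟩

variable {G : Type u} [Group G] [Finite G] {π : Set ℕ} {H L : Subgroup G}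

theorem core (h : St.{u, u}) (hs : PiSep π L) (hO : O[π](L) = ⊥) (hH : Hall π H L) (sH : Solv H) :
    ∃ x ∈ L, ∃ y ∈ L, H ⊓ cj x H ⊓ cj y H = ⊥ := by
  set K := O[πᶜ](L) with hK
  have nK : K ⊴ L := pcore_nml
  have hn : H ≤ N(K) := hH.le.trans nK.norm
  have cK : L ⊓ C(K) ≤ K := hs.compl.cent_pcore_le (by rwa [compl_compl])
  have d : H ⊓ K = ⊥ := hH.pi.inf_eq_bot pcore_pi
  let _ : MulDistribMulAction H K :=
    MulDistribMulAction.compHom K (K.normalizerMonoidHom.comp (inclusion hn))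
  have sm : ∀ (a : H) (k : K), ((a • k : K) : G) = a * k * (a : G)⁻¹ := fun _ _ => rfl
  have : FaithfulSMul H K := ⟨fun {a b} e => by
    have c : ((b⁻¹ * a : H) : G) ∈ C(K) := mem_C.2 fun k hk => by
      have := congrArg Subtype.val (e ⟨k, hk⟩)
      rw [sm, sm] at this
      change k * ((b : G)⁻¹ * a) = (b : G)⁻¹ * a * k
      rw [show (b : G)⁻¹ * a * k = (b : G)⁻¹ * (a * k * (a : G)⁻¹) * a by group, this]; group
    have : ((b⁻¹ * a : H) : G) ∈ H ⊓ K := ⟨(b⁻¹ * a).2, cK ⟨hH.le (b⁻¹ * a).2, c⟩⟩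
    rw [d, mem_bot] at this
    exact (inv_mul_eq_one.1 (Subtype.ext this)).symm⟩
  obtain ⟨x, y, e⟩ := h H K sH (hH.pi.coprime pcore_pi)
  have key : ∀ (z : K) (g : H), (g : G) ∈ cj (z : G) H → g • z = z := fun z g hg => by
    have m : (g : G)⁻¹ * ((z : G)⁻¹ * g * z) ∈ H ⊓ K := mem_inf.2 ⟨mul_mem (inv_mem g.2) (mem_cj.1 hg), by
      rw [show (g : G)⁻¹ * ((z : G)⁻¹ * g * z) = (g : G)⁻¹ * (z : G)⁻¹ * (g : G)⁻¹⁻¹ * z by group]
      exact mul_mem (conj_mem_N (inv_mem (hn g.2)) (inv_mem z.2)) z.2⟩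
    rw [d, mem_bot] at m
    refine Subtype.ext ?_
    rw [sm, show (g : G) * z * (g : G)⁻¹ = z * g * ((g : G)⁻¹ * ((z : G)⁻¹ * g * z)) * (g : G)⁻¹ by group, m]
    group
  refine ⟨x, nK.le x.2, y, nK.le y.2, eq_bot_iff.2 fun g hg => mem_bot.2 ?_⟩
  exact congrArg Subtype.val (e ⟨g, hg.1.1⟩ (key x _ hg.1.2) (key y _ hg.2))

theorem solv_of_chain {n : ℕ} (N : Fin (n + 1) → Subgroup G) (h0 : N 0 = ⊥) (h1 : N (Fin.last n) = ⊤)
    (hm : Monotone N) (hn : ∀ i, (N i).Normal)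
    (h : ∀ i : Fin n, (∃ p ∈ π, p.Prime ∧ ∃ k : ℕ, (N i.castSucc).relIndex (N i.succ) = p ^ k) ∨
        (∀ q : ℕ, q.Prime → q ∣ (N i.castSucc).relIndex (N i.succ) → q ∉ π)) (hH : PiGrp π H) : Solv H := by
  have : ∀ i, Solv (H ⊓ N i) := fun i => by
    induction i using Fin.induction with
    | zero => rw [h0, inf_bot_eq]; exact solv_bot
    | succ i ih =>
      have := hn i.castSucc
      have nm : H ⊓ N i.succ ≤ N(H ⊓ N i.castSucc) := inf_le_left.trans (nml_inf_of_norm norm_of_normal).norm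
      have d : (H ⊓ N i.castSucc).relIndex (H ⊓ N i.succ) ∣ (N i.castSucc).relIndex (N i.succ) := by
        have e : H ⊓ N i.castSucc = (H ⊓ N i.succ) ⊓ N i.castSucc := by
          rw [inf_assoc, inf_eq_right.2 (hm i.castSucc_lt_succ.le)]
        rw [e, relIndex_inf_left]
        exact Nml.relIndex_dvd ⟨hm i.castSucc_lt_succ.le, norm_of_normal⟩ inf_le_right
      refine solv_of_quo nm ?_ ih
      rcases h i with ⟨p, -, hp, k, e⟩ | e
      · exact PiGrp.solv (p := p) ((piGrp_quo_iff nm).2 ((piNat_pow_self hp k).of_dvd (e ▸ d)))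
      · have a : PiGrp πᶜ ((H ⊓ N i.succ) ⫽ (H ⊓ N i.castSucc)) :=
          (piGrp_quo_iff nm).2 (PiNat.of_dvd (π := πᶜ) e d)
        rw [(hH.inf_left (B := N i.succ)).mim.eq_bot a]
        exact solv_bot
  simpa [h1] using this (Fin.last n)

theorem s4373 (h : St.{u, u}) (π : Set ℕ)
    (hsolv : (∃ (n : ℕ) (N : Fin (n + 1) → Subgroup G), N 0 = ⊥ ∧ N (Fin.last n) = ⊤ ∧ Monotone N ∧
      (∀ i, (N i).Normal) ∧
      ∀ i : Fin n, (∃ p ∈ π, p.Prime ∧ ∃ k : ℕ, (N i.castSucc).relIndex (N i.succ) = p ^ k) ∨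
        (∀ q : ℕ, q.Prime → q ∣ (N i.castSucc).relIndex (N i.succ) → q ∉ π))) (H : Subgroup G)
    (hH : Cfsg.IsPiHall π H) :
    ∃ x y : G, H ⊓ MulAut.conj x • H ⊓ MulAut.conj y • H = Cfsg.piCore π G := by
  obtain ⟨n, N, h0, h1, hm, hn, hc⟩ := hsolv
  have hH' : Hall π H ⊤ := hall_top_iff.2 hH
  have sH := solv_of_chain N h0 h1 hm hn hc hH'.pi
  have sp : PiSep π (⊤ : Subgroup G) := piSep_of_chain N h0 h1 hm hn fun i =>
    (hc i).imp (fun ⟨p, hp, pp, k, e⟩ => e ▸ (piNat_pow_self pp k).of_p hp) id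
  have nO : ∀ g : G, g ∈ N(O[π]((⊤ : Subgroup G))) := fun g => pcore_nml.norm (mem_top g)
  obtain ⟨x', hx, y', hy, e⟩ := core h (L := ⊤ ⫽ O[π]((⊤ : Subgroup G))) (H := H ⫽ O[π]((⊤ : Subgroup G)))
    sp.mim pcore_quo_pcore (hH'.mim pcore_nml.norm) sH.mim
  obtain ⟨x, -, rfl⟩ := (mem_quo pcore_nml.norm).1 hx
  obtain ⟨y, -, rfl⟩ := (mem_quo pcore_nml.norm).1 hy
  refine ⟨x, y, ?_⟩
  change H ⊓ cj x H ⊓ cj y H = _
  rw [← pcore_top]
  refine le_antisymm (fun g hg => (cs_eq_one_iff (nO g)).1 (mem_bot.1 (e ▸ ?_)))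
    (le_inf (le_inf hH'.pcore_le (hH'.cj_top x).pcore_le) (hH'.cj_top y).pcore_le)
  rw [← mim_cj (nO x), ← mim_cj (nO y)]
  exact ⟨⟨mfun_mem_mim hg.1.1, mfun_mem_mim hg.1.2⟩, mfun_mem_mim hg.2⟩

end H3.BsP
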