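import Cfsg.Agent.H22.SubCount
import Cfsg.Agent.H22.Miller
import Cfsg.Agent.H3.PGrpBasic
import Cfsg.Agent.H3.PG
import Mathlib.GroupTheory.FiniteAbelian.Duality
import Mathlib.RingTheory.RootsOfUnity.AlgebraicallyClosed
import Mathlib.Analysis.Complex.Polynomial.Basic

/-! Counting subgroups modulo `p ^ 2`: `Kul.sc` (subgroups of given order), `Kul.oc` (overgroups of
given index), `Kul.oc_prime` (number of maximal subgroups), `Kul.hall` (Hall's enumeration principle
modulo `p ^ 2`), `Kul.sc_sylow` (reduction to a Sylow subgroup). -/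

set_option autoImplicit false

namespace H3.Kul
open Subgroup

universe u
variable {G : Type u} [Group G] [Finite G] {p : ℕ}

/-- number of subgroups of `M` of order `n` -/
noncomputable def sc (M : Subgroup G) (n : ℕ) : ℕ :=
  {H : Subgroup G | H ≤ M ∧ Nat.card H = n}.ncard
/-- number of overgroups of `K` of index `n` -/
noncomputable def oc (K : Subgroup G) (n : ℕ) : ℕ :=
  {M : Subgroup G | K ≤ M ∧ M.index = n}.ncard

omit [Finite G] in
theorem sc_eq (M : Subgroup G) (n : ℕ) : sc M n = Nat.card {H : Subgroup M // Nat.card H = n} := by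
  rw [sc, ← Nat.card_coe_set_eq]
  refine (Nat.card_congr (Equiv.ofBijective (fun H => ⟨H.1.map M.subtype, map_subtype_le _,
    (Subgroup.card_subtype _ _).trans H.2⟩) ⟨fun H K e => Subtype.ext
      (map_injective M.subtype_injective (congrArg Subtype.val e)), ?_⟩)).symm
  rintro ⟨H, h1, h2⟩
  exact ⟨⟨H.subgroupOf M, (Nat.card_congr (subgroupOfEquivOfLe h1).toEquiv).trans h2⟩,
    Subtype.ext (map_subgroupOf_eq_of_le h1)⟩

omit [Finite G] in
theorem sc_top (n : ℕ) : sc (⊤ : Subgroup G) n = Nat.card {H : Subgroup G // Nat.card H = n} := by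
  rw [sc, ← Nat.card_coe_set_eq]
  exact Nat.card_congr (Equiv.subtypeEquivRight fun H => and_iff_right le_top)

omit [Finite G] in
theorem oc_quo (K : Subgroup G) [K.Normal] (n : ℕ) (Q : Subgroup (G ⧸ K) → Prop) :
    {M : Subgroup G | (K ≤ M ∧ M.index = n) ∧ Q (M.map (QuotientGroup.mk' K))}.ncard =
      Nat.card {M : Subgroup (G ⧸ K) // M.index = n ∧ Q M} := by
  rw [← Nat.card_coe_set_eq]
  have hs := QuotientGroup.mk'_surjective K
  refine (Nat.card_congr (Equiv.ofBijective (fun M => ⟨M.1.comap (QuotientGroup.mk' K),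
    ⟨QuotientGroup.le_comap_mk' _ _, (index_comap_of_surjective _ hs).trans M.2.1⟩, by
      rw [map_comap_eq_self_of_surjective hs]; exact M.2.2⟩) ⟨fun H K e => Subtype.ext
      (comap_injective hs (congrArg Subtype.val e)), ?_⟩)).symm
  rintro ⟨M, ⟨h1, h2⟩, h3⟩
  have h4 : (QuotientGroup.mk' K).ker ≤ M := by rwa [QuotientGroup.ker_mk']
  exact ⟨⟨M.map _, (index_map_eq _ hs h4).trans h2, h3⟩, Subtype.ext (comap_map_eq_self h4)⟩

omit [Finite G] in
theorem oc_eq (K : Subgroup G) [K.Normal] (n : ℕ) :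
    oc K n = Nat.card {M : Subgroup (G ⧸ K) // M.index = n} := by
  have := oc_quo K n fun _ => True
  simp only [and_true] at this
  exact this

theorem sc_modEq [Fact p.Prime] {M : Subgroup G} {k : ℕ} (h : p ^ k ∣ Nat.card M) :
    sc M (p ^ k) ≡ 1 [MOD p] := sc_eq M _ ▸ H22.card_sub_modEq h

theorem idx_modEq [hp : Fact p.Prime] (hG : IsPGroup p G) {j : ℕ} (h : p ^ j ∣ Nat.card G) :
    Nat.card {M : Subgroup G // M.index = p ^ j} ≡ 1 [MOD p] := by
  obtain ⟨m, hm⟩ := hG.exists_card_eq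
  rw [hm, Nat.pow_dvd_pow_iff_le_right hp.out.one_lt] at h
  obtain ⟨i, rfl⟩ := Nat.exists_eq_add_of_le h
  rw [Nat.card_congr (Equiv.subtypeEquivRight (q := fun M : Subgroup G => Nat.card M = p ^ i)
    fun M => ?_)]
  · exact H22.card_sub_modEq (by rw [hm]; exact pow_dvd_pow p (by omega))
  have := M.card_mul_index
  rw [hm, pow_add, mul_comm (p ^ j)] at this
  exact ⟨fun e => Nat.eq_of_mul_eq_mul_right (pow_pos hp.out.pos j) (e ▸ this :),
    fun e => Nat.eq_of_mul_eq_mul_left (pow_pos hp.out.pos i) (e ▸ this :)⟩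

theorem oc_modEq [Fact p.Prime] (hG : IsPGroup p G) (K : Subgroup G) [K.Normal] {j : ℕ}
    (h : p ^ j ∣ K.index) : oc K (p ^ j) ≡ 1 [MOD p] :=
  oc_eq K _ ▸ idx_modEq (hG.to_quotient K) h

theorem card_idx_eq {Q : Type*} [CommGroup Q] [Finite Q] (n : ℕ) :
    Nat.card {M : Subgroup Q // M.index = n} = Nat.card {M : Subgroup Q // Nat.card M = n} := by
  have : NeZero (Monoid.exponent Q : ℂ) := ⟨Nat.cast_ne_zero.2 Monoid.exponent_ne_zero_of_finite⟩
  obtain ⟨e⟩ := CommGroup.monoidHom_mulEquiv_of_hasEnoughRootsOfUnity Q ℂ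
  refine Nat.card_congr (Equiv.subtypeEquiv
    (((CommGroup.subgroupOrderIsoSubgroupMonoidHom Q ℂ).toEquiv.trans OrderDual.ofDual).trans
      e.mapSubgroup.toEquiv) fun M => ?_)
  have h1 := CommGroup.card_subgroupOrderIsoSubgroupMonoidHom ℂ M
  rw [index_eq_card, ← h1, ← card_map_of_injective (f := e.toMonoidHom) e.injective]
  rfl

theorem card_prime_sub [hp : Fact p.Prime] (h : ∀ x : G, x ^ p = 1) {e : ℕ} (hc : Nat.card G = p ^ e) :
    Nat.card {M : Subgroup G // Nat.card M = p} = ∑ i ∈ Finset.range e, p ^ i := by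
  have h1 := H22.gen_count (G := G) {1}ᶜ p (fun a ha => orderOf_eq_prime (h a) ha)
    fun a ha b e hb => ha (zpowers_eq_bot.1 (e ▸ zpowers_eq_bot.2 hb))
  have h2 : (fun a : G => zpowers a) '' {1}ᶜ = {M : Subgroup G | Nat.card M = p} := by
    ext M
    constructor
    · rintro ⟨a, ha, rfl⟩
      exact (Nat.card_zpowers a).trans (orderOf_eq_prime (h a) ha)
    · intro hM
      have hM : Nat.card M = p := hM
      obtain ⟨⟨a, ha⟩, h1⟩ := (Subgroup.ne_bot_iff_exists_ne_one).1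
        ((one_lt_card_iff_ne_bot M).1 (hM ▸ hp.out.one_lt))
      have h1 : a ≠ 1 := fun e => h1 (Subtype.ext e)
      exact ⟨a, h1, eq_of_le_of_card_ge (zpowers_le.2 ha) (by
        rw [hM, Nat.card_zpowers, orderOf_eq_prime (h a) h1])⟩
  rw [h2, Nat.totient_prime hp.out, Nat.card_coe_set_eq, Set.ncard_compl, Set.ncard_singleton,
    hc] at h1
  rw [Nat.geomSum_eq hp.out.two_le, h1, Nat.mul_div_cancel_left _ (by have := hp.out.two_le; omega)]
  rfl

omit [Finite G] in
theorem frat_le [Fact p.Prime] {M : Subgroup G} (h : M.index = p) :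
    frattini G ≤ M := by
  refine frattini_le_coatom ⟨fun e => ?_, fun K hK => ?_⟩
  · rw [e, index_top] at h; exact (Fact.out : p.Prime).one_lt.ne h
  have h1 := relIndex_mul_index hK.le
  rw [h] at h1
  rcases (Nat.dvd_prime Fact.out).1 (Dvd.intro_left _ h1) with h2 | h2
  · exact index_eq_one.1 h2
  · rw [h2] at h1
    have := Nat.eq_of_mul_eq_mul_right (Fact.out : p.Prime).pos (h1.trans (one_mul p).symm)
    exact absurd (relIndex_eq_one.1 this) hK.not_ge

theorem normal_sup_frat [Fact p.Prime] (hG : IsPGroup p G) (H : Subgroup G) :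
    (H ⊔ frattini G).Normal :=
  Subgroup.Normal.of_commutator_le G ((commutator_le_frattini hG).trans le_sup_right)

theorem oc_prime [hp : Fact p.Prime] (hG : IsPGroup p G) (H : Subgroup G) {e : ℕ}
    (he : (H ⊔ frattini G).index = p ^ e) : oc H p = ∑ i ∈ Finset.range e, p ^ i := by
  have := normal_sup_frat hG H
  have h1 : oc H p = oc (H ⊔ frattini G) p := by
    unfold oc
    congr 1
    ext M
    exact ⟨fun h => ⟨sup_le h.1 (frat_le h.2), h.2⟩, fun h => ⟨le_sup_left.trans h.1, h.2⟩⟩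
  have h2 : IsMulCommutative (G ⧸ (H ⊔ frattini G)) :=
    (Subgroup.Normal.quotient_commutative_iff_commutator_le).2
      ((commutator_le_frattini hG).trans le_sup_right)
  let _ : CommGroup (G ⧸ (H ⊔ frattini G)) :=
    { (inferInstance : Group _) with mul_comm := h2.is_comm.comm }
  rw [h1, oc_eq, card_idx_eq]
  refine card_prime_sub (fun x => ?_) he
  obtain ⟨x, rfl⟩ := QuotientGroup.mk_surjective x
  exact (QuotientGroup.eq_one_iff _).2 (mem_sup_right (pow_mem_frattini hG x))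

theorem geom_modEq (p e : ℕ) : ∑ i ∈ Finset.range (e + 2), p ^ i ≡ 1 + p [MOD p ^ 2] := by
  rw [Finset.sum_range_succ', Finset.sum_range_succ', add_assoc, add_comm (p ^ (0 + 1))]
  simp only [zero_add, pow_one, pow_zero]
  have := ((Nat.modEq_zero_iff_dvd).2 (Finset.dvd_sum (s := Finset.range e)
    fun i _ => pow_dvd_pow p (show 2 ≤ i + 1 + 1 by omega))).add_right (1 + p)
  rwa [zero_add] at this

theorem oc_point [hp : Fact p.Prime] (hG : IsPGroup p G) {H : Subgroup G} (h : H ≠ ⊤) :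
    oc H p ≡ 1 + p * oc (H ⊔ frattini G) (p ^ 2) [MOD p ^ 2] := by
  have := normal_sup_frat hG H
  obtain ⟨e, he⟩ := hG.index (H ⊔ frattini G)
  rw [oc_prime hG H he]
  match e with
  | 0 => exact absurd (frattini_nongenerating (index_eq_one.1 he)) h
  | 1 =>
    have : oc (H ⊔ frattini G) (p ^ 2) = 0 := by
      rw [oc, Set.ncard_eq_zero, Set.eq_empty_iff_forall_notMem]
      rintro M ⟨h1, h2⟩
      have := index_dvd_of_le h1
      rw [h2, he, Nat.pow_dvd_pow_iff_le_right hp.out.one_lt] at this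
      omega
    rw [this]; simp [Nat.ModEq]
  | e + 2 =>
    refine (geom_modEq p e).trans (Nat.ModEq.add_left 1 ?_)
    have := (oc_modEq hG (H ⊔ frattini G) (j := 2) (he ▸ pow_dvd_pow p (by omega))).mul_left' p
    rw [mul_one, ← sq] at this
    exact this.symm

theorem sq_dvd_frat [hp : Fact p.Prime] (hG : IsPGroup p G) (hnc : ¬ IsCyclic G) :
    p ^ 2 ∣ (frattini G).index := by
  obtain ⟨e, he⟩ := hG.index (frattini G)
  rw [he]
  refine pow_dvd_pow p (not_lt.1 fun h => hnc ?_)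
  have : IsCyclic (G ⧸ frattini G) := isCyclic_of_card_dvd_prime (p := p) (by
    rw [← index_eq_card, he]
    exact (pow_dvd_pow p (by omega)).trans (pow_one p).dvd)
  exact isCyclic_of_isCyclic_quotient_frattini

theorem oc_bot [hp : Fact p.Prime] (hG : IsPGroup p G) (hnc : ¬ IsCyclic G) :
    oc (⊥ : Subgroup G) p ≡ 1 + p [MOD p ^ 2] := by
  obtain ⟨e, he⟩ := hG.index (frattini G)
  have := sq_dvd_frat hG hnc
  rw [he, Nat.pow_dvd_pow_iff_le_right hp.out.one_lt] at this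
  obtain ⟨e, rfl⟩ := Nat.exists_eq_add_of_le' this
  rw [oc_prime hG ⊥ (by rwa [bot_sup_eq])]
  exact geom_modEq p e

omit [Finite G] in
theorem double (S T : Subgroup G → Prop) [Fintype (Subgroup G)] [DecidablePred S] [DecidablePred T] :
    ∑ M ∈ Finset.univ.filter T, {H | H ≤ M ∧ S H}.ncard =
      ∑ H ∈ Finset.univ.filter S, {M | H ≤ M ∧ T M}.ncard := by
  classical
  have k := Finset.sum_card_bipartiteAbove_eq_sum_card_bipartiteBelow
    (s := Finset.univ.filter S) (t := Finset.univ.filter T) fun H M => H ≤ M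
  refine (Finset.sum_congr rfl fun M _ => ?_).trans (k.symm.trans (Finset.sum_congr rfl fun H _ => ?_))
  · rw [← Set.ncard_coe_finset]; congr 1; ext; simp [and_comm]
  · rw [← Set.ncard_coe_finset]; congr 1; ext; simp [and_comm]

theorem modEq_sum {ι : Type*} (s : Finset ι) {f g : ι → ℕ} {n : ℕ} (h : ∀ i ∈ s, f i ≡ g i [MOD n]) :
    ∑ i ∈ s, f i ≡ ∑ i ∈ s, g i [MOD n] := by
  rw [Nat.ModEq, Finset.sum_nat_mod, Finset.sum_congr rfl h, ← Finset.sum_nat_mod]

open Classical in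
theorem hall [hp : Fact p.Prime] [Fintype (Subgroup G)] (hG : IsPGroup p G) (hnc : ¬ IsCyclic G)
    {k : ℕ} (hk : p ^ (k + 2) ∣ Nat.card G) :
    ∑ M ∈ Finset.univ.filter (fun M : Subgroup G => M.index = p), sc M (p ^ k) ≡
      sc (⊤ : Subgroup G) (p ^ k) + p [MOD p ^ 2] := by
  have d1 := double (G := G) (fun H => Nat.card H = p ^ k) (fun M => M.index = p)
  have d2 := double (G := G) (fun H => Nat.card H = p ^ k)
    (fun M => frattini G ≤ M ∧ M.index = p ^ 2)
  have h1 : ∑ M ∈ Finset.univ.filter (fun M : Subgroup G => frattini G ≤ M ∧ M.index = p ^ 2),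
      sc M (p ^ k) ≡ 1 [MOD p] := by
    refine (modEq_sum _ (g := fun _ => 1) fun M hM => sc_modEq ?_).trans ?_
    · have := M.card_mul_index
      rw [(Finset.mem_filter.1 hM).2.2] at this
      rw [← this, pow_add] at hk
      exact Nat.dvd_of_mul_dvd_mul_right (pow_pos hp.out.pos 2) hk
    · rw [← Finset.card_eq_sum_ones, ← Set.ncard_coe_finset]
      convert oc_modEq hG (frattini G) (sq_dvd_frat hG hnc)
      simp [oc]
  have h2 := h1.mul_left' p
  rw [mul_one, ← sq] at h2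
  refine Nat.ModEq.trans ?_ (h2.add_left _)
  unfold sc
  rw [d1, d2, Finset.mul_sum]
  have h3 : {H : Subgroup G | H ≤ ⊤ ∧ Nat.card H = p ^ k}.ncard =
      ∑ H ∈ Finset.univ.filter (fun H : Subgroup G => Nat.card H = p ^ k), 1 := by
    rw [← Finset.card_eq_sum_ones, ← Set.ncard_coe_finset]; congr 1; ext; simp
  rw [h3, ← Finset.sum_add_distrib]
  refine modEq_sum _ fun H hH => ?_
  have h4 : H ≠ ⊤ := by
    rintro rfl
    rw [← card_top, (Finset.mem_filter.1 hH).2, Nat.pow_dvd_pow_iff_le_right hp.out.one_lt] at hk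
    omega
  have := oc_point hG h4
  simp only [oc, sup_le_iff, and_assoc] at this
  exact this

section sylow
open H18

theorem dvd_ncard_cj (P : Subgroup G) (S : Set (Subgroup G)) (d : ℕ)
    (h1 : ∀ H ∈ S, ∀ g ∈ P, cj g H ∈ S) (h2 : ∀ H ∈ S, d ∣ N(H).relIndex P) : d ∣ S.ncard := by
  let _ : MulAction P (Subgroup G) :=
    { smul := fun g H => cj g H
      one_smul := fun H => cj_one
      mul_smul := fun a b H => cj_mul }
  rw [← Nat.card_coe_set_eq]
  refine H22.dvd_card_of_fibers (fun H => MulAction.orbit P H) S d fun H hH => ?_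
  have e1 : Nat.card {x // x ∈ S ∧ MulAction.orbit P x = MulAction.orbit P H} =
      (MulAction.orbit P H).ncard := by
    rw [← Nat.card_coe_set_eq]
    refine Nat.card_congr (Equiv.subtypeEquivRight fun K => ?_)
    rw [MulAction.orbit_eq_iff]
    exact and_iff_right_of_imp fun ⟨g, hg⟩ => hg ▸ h1 H hH g g.2
  have e2 : MulAction.stabilizer P H = N(H).subgroupOf P := by
    ext g; exact mem_N_iff_cj.symm
  rw [e1, ← MulAction.index_stabilizer, e2]
  exact h2 H hH

theorem dvd_relIndex [hp : Fact p.Prime] {P K : Subgroup G} (hP : IsPGroup p P) (h : ¬ P ≤ K) :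
    p ∣ K.relIndex P := by
  obtain ⟨e, he⟩ := hP.index (K.subgroupOf P)
  rw [relIndex, he]
  refine dvd_pow_self p fun h0 => h (relIndex_eq_one.1 ?_)
  rw [relIndex, he, h0, pow_zero]

theorem nc_modEq [hp : Fact p.Prime] {Q K : Subgroup G} (hQ : IsPGroup p Q) (hK : Q ≤ N(K)) {a : ℕ}
    (ha : p ^ a ∣ Nat.card K) :
    {H : Subgroup G | (H ≤ K ∧ Nat.card H = p ^ a) ∧ Q ≤ N(H)}.ncard ≡ 1 [MOD p] := by
  have h1 := dvd_ncard_cj Q {H : Subgroup G | (H ≤ K ∧ Nat.card H = p ^ a) ∧ ¬ Q ≤ N(H)} p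
    (fun H hH g hg => ⟨⟨cj_le_of_mem_N hH.1.1 (hK hg), card_cj.trans hH.1.2⟩, fun h => hH.2 (by
      rwa [← cj_eq_self_of_mem hg, cj_norm_iff] at h)⟩) fun H hH => dvd_relIndex hQ hH.2
  have h2 := Set.ncard_inter_add_ncard_sdiff_eq_ncard
    {H : Subgroup G | H ≤ K ∧ Nat.card H = p ^ a} {H | Q ≤ N(H)}
  refine Nat.ModEq.trans ?_ (sc_modEq ha)
  rw [sc, ← h2]
  exact (((Nat.modEq_zero_iff_dvd).2 h1).add_left _).symm

theorem sc_max [hp : Fact p.Prime] {P : Subgroup G} (hPp : IsPGroup p P)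
    (hmax : ∀ Q : Subgroup G, IsPGroup p Q → Nat.card Q ≤ Nat.card P) {a : ℕ}
    (hd1 : p ^ (a + 1) ∣ Nat.card P) :
    sc (⊤ : Subgroup G) (p ^ a) ≡ sc P (p ^ a) [MOD p ^ 2] := by
  classical
  have := Fintype.ofFinite (Subgroup G)
  set X := {H : Subgroup G | Nat.card H = p ^ a ∧ ¬ H ≤ P}
  have hle : ∀ H : Subgroup G, IsPGroup p H → P ≤ N(H) → H ≤ P := fun H hH h =>
    le_sup_right.trans (eq_of_le_of_card_ge le_sup_left
      (hmax _ (hPp.to_sup_of_normal_right' hH h))).ge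
  have h0 : sc (⊤ : Subgroup G) (p ^ a) = sc P (p ^ a) + X.ncard := by
    rw [sc, ← Set.ncard_inter_add_ncard_sdiff_eq_ncard _ {H | H ≤ P}]
    congr 2
    · ext; simp [and_comm]
    · ext; simp [X]
  have hX : ∀ H ∈ X, ∀ g ∈ P, cj g H ∈ X := fun H hH g hg =>
    ⟨card_cj.trans hH.1, fun h => hH.2 (by rwa [← cj_eq_self_of_mem hg, cj_le_cj] at h)⟩
  have hri : ∀ H : Subgroup G, ∀ g ∈ P,
      N(cj g H).relIndex P = N(H).relIndex P := fun H g hg => by
    rw [← cj_N, ← relIndex_cj (g := g) (A := N(H)), cj_eq_self_of_mem hg]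
  have h1 : p ^ 2 ∣ (X ∩ {H | p ^ 2 ∣ N(H).relIndex P}).ncard :=
    dvd_ncard_cj P _ _ (fun H hH g hg => ⟨hX H hH.1 g hg, by
      rw [Set.mem_ofPred_eq, hri H g hg]; exact hH.2⟩) fun H hH => by exact hH.2
  let Y := Finset.univ.filter fun Q : Subgroup G =>
    Nat.card Q = Nat.card P ∧ Q.relIndex P = p
  let F : Subgroup G → Set (Subgroup G) := fun Q =>
    {H | ((H ≤ Q ∧ Nat.card H = p ^ a) ∧ Q ≤ N(H)) ∧ ¬ H ≤ P}
  obtain ⟨m, hm⟩ := hPp.exists_card_eq
  have hcQ : ∀ Q ∈ Y, Nat.card (Q ⊓ P : Subgroup G) * p = Nat.card P := fun Q hQ => by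
    rw [← (Finset.mem_filter.1 hQ).2.2, card_mul_relIndex']
  have hQp : ∀ Q ∈ Y, IsPGroup p Q := fun Q hQ =>
    IsPGroup.of_card ((Finset.mem_filter.1 hQ).2.1.trans hm)
  have hQi : ∀ Q ∈ Y, (Q ⊓ P).relIndex Q = p := fun Q hQ => by
    have h2 := card_mul_relIndex (inf_le_left : Q ⊓ P ≤ Q)
    rw [(Finset.mem_filter.1 hQ).2.1, ← hcQ Q hQ] at h2
    exact Nat.eq_of_mul_eq_mul_left Nat.card_pos h2
  have key : ∀ Q ∈ Y, ∀ H ∈ F Q, N(H).relIndex P = p ∧ Q = H ⊔ (N(H) ⊓ P) := by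
    intro Q hQ H hH
    have h2 : Q ⊓ P ≤ N(H) ⊓ P := inf_le_inf_right _ hH.1.2
    have h3 : N(H).relIndex P ∣ p := by
      rw [← (Finset.mem_filter.1 hQ).2.2]
      exact relIndex_dvd_of_le_left _ hH.1.2
    have h4 := ((Nat.dvd_prime hp.out).1 h3).resolve_left fun e =>
      hH.2 (hle H (IsPGroup.of_card hH.1.1.2) (relIndex_eq_one.1 e))
    have h5 : Q ⊓ P = N(H) ⊓ P := eq_of_le_of_card_ge h2 (Nat.le_of_mul_le_mul_right (by
      rw [hcQ Q hQ, ← h4, card_mul_relIndex']) hp.out.pos)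
    refine ⟨h4, ?_⟩
    rw [← h5]
    refine ((eq_or_eq_of_prime_relIndex (hQi Q hQ ▸ hp.out) le_sup_right
      (sup_le hH.1.1.1 inf_le_left)).resolve_left fun e => hH.2 ?_).symm
    exact le_sup_left.trans (e.le.trans inf_le_right)
  have h2 : (X \ {H | p ^ 2 ∣ N(H).relIndex P}).ncard = ∑ Q ∈ Y, (F Q).ncard := by
    rw [Set.ncard_eq_toFinset_card', Finset.card_eq_sum_card_fiberwise
      (f := fun H => H ⊔ (N(H) ⊓ P)) (t := Y)]
    · refine Finset.sum_congr rfl fun Q hQ => ?_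
      rw [← Set.ncard_coe_finset]
      congr 1
      ext H
      simp only [Finset.coe_filter, Set.mem_toFinset, Set.mem_ofPred_eq, Set.mem_sdiff]
      constructor
      · rintro ⟨⟨h3, -⟩, rfl⟩
        exact ⟨⟨⟨le_sup_left, h3.1⟩, sup_le le_N inf_le_left⟩, h3.2⟩
      · intro h
        obtain ⟨h3, h4⟩ := key Q hQ H h
        refine ⟨⟨⟨h.1.1.2, h.2⟩, fun h5 => ?_⟩, h4.symm⟩
        rw [h3, sq] at h5
        exact absurd (Nat.le_of_dvd hp.out.pos h5) (by have := hp.out.one_lt; nlinarith)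
    · intro H hH
      simp only [Set.coe_toFinset, Set.mem_sdiff, Set.mem_ofPred_eq] at hH
      obtain ⟨⟨h3, h4⟩, h5⟩ := hH
      have hHp : IsPGroup p H := IsPGroup.of_card h3
      obtain ⟨e, he⟩ := hPp.index (N(H).subgroupOf P)
      have h6 : N(H).relIndex P = p := by
        have h7 := dvd_relIndex hPp fun h => h4 (hle H hHp h)
        rw [relIndex, he] at h5 h7 ⊢
        rw [Nat.pow_dvd_pow_iff_le_right hp.out.one_lt] at h5
        have : e ≠ 0 := by rintro rfl; exact hp.out.one_lt.ne' (by simpa using h7)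
        rw [show e = 1 by omega, pow_one]
      have h8 : IsPGroup p (H ⊔ (N(H) ⊓ P) : Subgroup G) :=
        hHp.to_sup_of_normal_left' (hPp.to_inf_right) inf_le_left
      have h9 := card_mul_relIndex' (A := N(H)) (B := P)
      have h10 : Nat.card (H ⊔ (N(H) ⊓ P) : Subgroup G) = Nat.card P := by
        refine le_antisymm (hmax _ h8) ?_
        rw [← h9, h6, ← card_mul_relIndex (le_sup_right : N(H) ⊓ P ≤ H ⊔ (N(H) ⊓ P))]
        exact Nat.mul_le_mul_left _ (Nat.le_of_dvd relIndex_pos (dvd_relIndex h8 fun h =>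
          h4 (le_sup_left.trans (h.trans inf_le_right))))
      simp only [Y, Finset.coe_filter, Finset.mem_univ, true_and, Set.mem_ofPred_eq]
      refine ⟨h10, ((Nat.dvd_prime hp.out).1 ?_).resolve_left fun e => h4 ?_⟩
      · rw [← h6, ← inf_relIndex_right N(H)]
        exact relIndex_dvd_of_le_left _ le_sup_right
      · exact le_sup_left.trans (eq_of_le_of_card_ge (relIndex_eq_one.1 e) h10.le).ge
  have h3 : ∀ Q ∈ Y, p ∣ (F Q).ncard := fun Q hQ => by
    have a1 := nc_modEq (hQp Q hQ) le_N (a := a) (by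
      rw [(Finset.mem_filter.1 hQ).2.1]; exact (pow_dvd_pow p a.le_succ).trans hd1)
    have a2 := nc_modEq (hQp Q hQ) (nml_of_relIndex_prime hp.out
      (piGrp_of_isPGroup hp.out (hQp Q hQ)) inf_le_left (hQi Q hQ)).norm (a := a) (by
        rw [← hcQ Q hQ, pow_succ] at hd1
        exact Nat.dvd_of_mul_dvd_mul_right hp.out.pos hd1)
    rw [← Set.ncard_inter_add_ncard_sdiff_eq_ncard _ {H | H ≤ P}] at a1
    have e : {H : Subgroup G | (H ≤ Q ∧ Nat.card H = p ^ a) ∧ Q ≤ N(H)} ∩ {H | H ≤ P} =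
        {H : Subgroup G | (H ≤ Q ⊓ P ∧ Nat.card H = p ^ a) ∧ Q ≤ N(H)} := by
      ext; simp only [Set.mem_inter_iff, Set.mem_ofPred_eq, le_inf_iff]; tauto
    rw [e] at a1
    exact (Nat.modEq_zero_iff_dvd).1 (Nat.ModEq.add_left_cancel a2 a1)
  have h4 : p ^ 2 ∣ ∑ Q ∈ Y, (F Q).ncard := by
    rw [Finset.sum_comp (fun c => c) fun Q => (F Q).ncard]
    refine Finset.dvd_sum fun c hc => ?_
    obtain ⟨Q, hQ, rfl⟩ := Finset.mem_image.1 hc
    rw [smul_eq_mul, sq, ← Set.ncard_coe_finset]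
    refine Nat.mul_dvd_mul (dvd_ncard_cj P _ _ (fun R hR g hg => ?_) fun R hR => ?_) (h3 Q hQ)
    · simp only [Y, Finset.coe_filter, Finset.mem_filter, Finset.mem_univ, true_and,
        Set.mem_ofPred_eq] at hR ⊢
      refine ⟨⟨card_cj.trans hR.1.1, by rw [← hR.1.2, ← relIndex_cj (g := g) (A := R),
        cj_eq_self_of_mem hg]⟩, ?_⟩
      rw [← hR.2, ← Set.ncard_image_of_injective (F R) (f := cj g) fun _ _ => cj_inj.1]
      congr 1
      ext H
      obtain ⟨H, rfl⟩ : ∃ K, H = cj g K := ⟨cj g⁻¹ H, cj_cj_inv.symm⟩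
      rw [Function.Injective.mem_set_image fun _ _ => cj_inj.1]
      simp only [F, Set.mem_ofPred_eq, cj_le_cj, card_cj, cj_norm_iff]
      rw [← cj_le_cj (g := g) (A := H) (B := P), cj_eq_self_of_mem hg]
    · have hR := (Finset.mem_filter.1 hR).1
      refine dvd_relIndex hPp fun h => ?_
      have h5 := eq_of_le_of_card_ge (hle R (hQp R hR) h) (Finset.mem_filter.1 hR).2.1.ge
      have h6 := (Finset.mem_filter.1 hR).2.2
      rw [h5, relIndex_self] at h6
      exact hp.out.one_lt.ne h6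
  rw [h0, ← Set.ncard_inter_add_ncard_sdiff_eq_ncard X {H | p ^ 2 ∣ N(H).relIndex P}, h2]
  exact ((Nat.modEq_zero_iff_dvd).2 (dvd_add h1 h4)).add_left _

theorem sc_sylow [hp : Fact p.Prime] (P : Sylow p G) {a : ℕ} (hd : p ^ (a + 1) ∣ Nat.card G) :
    sc (⊤ : Subgroup G) (p ^ a) ≡ sc (P : Subgroup G) (p ^ a) [MOD p ^ 2] :=
  sc_max P.isPGroup' (fun Q hQ => by
    obtain ⟨R, hR⟩ := hQ.exists_le_sylow
    exact (card_le_of_le hR).trans (by rw [Sylow.card_eq_multiplicity, Sylow.card_eq_multiplicity]))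
    (P.pow_dvd_card_of_pow_dvd_card hd)

end sylow

end H3.Kul
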