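import Cfsg.Agent.H3.K1
import Cfsg.Agent.H3.MaxCl
import Cfsg.Agent.H9.MaxClass
import Cfsg.Agent.S3807

/-! Kulakoff's theorem (`Kul.kulakoff`): the number of subgroups of order `p ^ k` of a `p`-group modulo
`p ^ 2`; counts of cyclic maximal subgroups and of maximal subgroups of maximal class. -/

set_option autoImplicit false

namespace H3.Kul
open Subgroup H18 H9
open scoped commutatorElement

universe u
variable {G : Type u} [Group G] [Finite G] {p : ℕ}

theorem exists_abel_four (hp : p.Prime) (hG : IsPGroup p G) (h : Nat.card G = p ^ 4) :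
    ∃ A : Subgroup G, IsMulCommutative A ∧ A.index = p := by
  have hpi : PiGrp {p} (⊤ : Subgroup G) := piGrp_of_isPGroup hp (hG.to_subgroup ⊤)
  obtain ⟨E, -, hE, hc⟩ := H3.exists_nml_card (n := 2) hp hpi Nml.rfl
    (by rw [card_top, h]; exact Nat.pow_le_pow_right hp.pos (by norm_num))
  have h3 := H3.relIndex_C_le_of_card_sq hp hpi hE.norm hc.dvd
  have h4 : p ^ 3 * p ≤ Nat.card (⊤ ⊓ C(E) : Subgroup G) * p := by
    rw [← pow_succ, ← h, ← card_top, ← card_mul_relIndex' (A := C(E)), inf_comm]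
    exact Nat.mul_le_mul_left _ h3
  obtain ⟨M, m1, m2, -, m3⟩ := H3.exists_nml_between hp hpi hE hE.cent
    (le_inf le_top (abel_of_card_sq hp hc)) 1
    (by rw [hc, ← pow_add]; exact Nat.le_of_mul_le_mul_right h4 hp.pos)
  refine ⟨M, (H18.abel_of_relIndex_prime (cent_symm (m2.trans inf_le_right))
    (by rwa [relIndex_eq_of_mul m1 m3, pow_one])).comm, ?_⟩
  have := M.card_mul_index
  rw [m3, hc, h, ← pow_add, pow_succ p 3] at this
  exact Nat.eq_of_mul_eq_mul_left (pow_pos hp.pos 3) this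

theorem sc_cyc [Fact p.Prime] {M : Subgroup G} (h : IsCyclic M) {k : ℕ} (hk : p ^ k ∣ Nat.card M) :
    sc M (p ^ k) = 1 := by
  obtain ⟨H, hH⟩ := Sylow.exists_subgroup_card_pow_prime p hk
  refine Set.ncard_eq_one.2 ⟨H.map M.subtype, Set.eq_singleton_iff_unique_mem.2
    ⟨⟨map_subtype_le _, (Subgroup.card_subtype _ _).trans hH⟩, fun K hK =>
      Cyc.eq_of_card_eq h hK.1 (map_subtype_le _) ?_⟩⟩
  rw [hK.2, Subgroup.card_subtype, hH]

theorem gam_modEq [Fact p.Prime] (hG : IsPGroup p G) (h : p ∣ Nat.card G) :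
    {M : Subgroup G | M.index = p}.ncard ≡ 1 [MOD p] := by
  have := idx_modEq hG (j := 1) (by rwa [pow_one])
  rwa [pow_one] at this

omit [Finite G] in
theorem index_iff (hp : p.Prime) {s : ℕ} (h : Nat.card G = p ^ (s + 1)) {M : Subgroup G} :
    M.index = p ↔ Nat.card M = p ^ s := by
  have := M.card_mul_index
  rw [h, pow_succ] at this
  exact ⟨fun e => Nat.eq_of_mul_eq_mul_right hp.pos (e ▸ this :),
    fun e => Nat.eq_of_mul_eq_mul_left (pow_pos hp.pos s) (e ▸ this :)⟩

theorem cyc_odd [hp : Fact p.Prime] (h2 : p ≠ 2) (hnc : ¬ IsCyclic G) {s : ℕ}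
    (h : Nat.card G = p ^ (s + 2 + 1)) :
    p ∣ {M : Subgroup G | M.index = p ∧ IsCyclic M}.ncard := by
  have h1 := H22.miller_pgroup h2 (IsPGroup.of_card h) hnc (s := s + 2) (by omega)
  rw [H22.gen_count {g : G | orderOf g = p ^ (s + 2)} (p ^ (s + 2)) (fun a ha => ha) fun a ha b e => by
    rw [Set.mem_ofPred_eq, ← Nat.card_zpowers, e, Nat.card_zpowers]; exact ha,
    Nat.totient_prime_pow_succ hp.out, pow_succ, mul_assoc,
    Nat.mul_dvd_mul_iff_left (pow_pos hp.out.pos _), Nat.card_coe_set_eq] at h1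
  have h3 := (hp.out.dvd_mul.1 h1).resolve_left fun e => by
    have := hp.out.two_le
    have := Nat.le_of_dvd (by omega) e
    omega
  convert h3 using 2
  ext M
  constructor
  · rintro ⟨a, b⟩
    obtain ⟨x, rfl⟩ := (Subgroup.isCyclic_iff_exists_zpowers_eq_top M).1 b
    exact ⟨x, (Nat.card_zpowers x).symm.trans ((index_iff hp.out h).1 a), rfl⟩
  · rintro ⟨x, hx, rfl⟩
    exact ⟨(index_iff hp.out h).2 ((Nat.card_zpowers x).trans hx), inferInstance⟩

theorem cyc_two (hnc : ¬ IsCyclic G) (hm : ¬ ∃ j x, MC (⊤ : Subgroup G) j x) {s : ℕ}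
    (h : Nat.card G = 2 ^ (s + 2 + 1)) :
    2 ∣ {M : Subgroup G | M.index = 2 ∧ IsCyclic M}.ncard := by
  rcases Set.eq_empty_or_nonempty {M : Subgroup G | M.index = 2 ∧ IsCyclic M} with e | ⟨M, hM, hc⟩
  · rw [e]; simp
  obtain ⟨x, rfl⟩ := (Subgroup.isCyclic_iff_exists_zpowers_eq_top M).1 hc
  have hx : orderOf x = 2 ^ (s + 2) := (Nat.card_zpowers x).symm.trans ((index_iff Nat.prime_two h).1 hM)
  have hu : x ^ 2 ^ (s + 1) * x ^ 2 ^ (s + 1) = 1 := by
    rw [← pow_add, ← two_mul, ← pow_succ', ← hx, pow_orderOf_eq_one]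
  have hu1 : x ^ 2 ^ (s + 1) ≠ 1 := pow_ne_one_of_lt_orderOf (by positivity) (by
    rw [hx]; exact Nat.pow_lt_pow_right one_lt_two (by omega))
  obtain ⟨b, hb, hb2, hxb⟩ : ∃ b, b ∉ zpowers x ∧ b * b = 1 ∧ (x * b) ^ 2 ^ (s + 1) = x ^ 2 ^ (s + 1) := by
    by_cases ha : IsMulCommutative (⊤ : Subgroup G)
    · have hcm : ∀ a b : G, Commute a b := fun a b =>
        H1.isMulCommutative_iff.1 ha a (mem_top a) b (mem_top b)
      obtain ⟨g, -, hg⟩ := exists_notMem_of_relIndex_two ((relIndex_top_right _).trans hM)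
      obtain ⟨i, hi⟩ := mem_zpowers_iff.1 (sq_mem_of_index_two hM g)
      obtain ⟨l, rfl | rfl⟩ := Int.even_or_odd' i
      · have e : g * x ^ (-l) * (g * x ^ (-l)) = 1 := by
          rw [← sq, (hcm _ _).mul_pow, ← hi, ← zpow_natCast, ← zpow_mul, ← zpow_add]
          simp [mul_comm]
        refine ⟨g * x ^ (-l), fun e => hg ((mul_mem_cancel_right (zpow_mem (mem_zpowers x) _)).1 e), e, ?_⟩
        rw [(hcm _ _).mul_pow, pow_succ' 2 s, pow_mul (g * x ^ (-l)), sq, e, one_pow, mul_one]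
      · exfalso
        have h1 : x ∈ zpowers (x ^ (2 * l + 1)) := by
          rw [mem_zpowers_zpow_iff, hx]
          exact Nat.Coprime.pow_right _ (Int.natAbs_odd.2 (odd_two_mul_add_one l)).coprime_two_right
        have h2 : zpowers x ≤ zpowers g := by
          rw [hi] at h1
          exact zpowers_le.2 (zpowers_le.2 (npow_mem_zpowers g 2) h1)
        have h3 := (eq_or_eq_of_prime_relIndex (((relIndex_top_right _).trans hM) ▸ Nat.prime_two)
          h2 le_top).resolve_left fun e => hg (e ▸ mem_zpowers g)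
        exact hnc ⟨g, fun y => by change y ∈ zpowers g; rw [h3]; trivial⟩
    · obtain ⟨b, hb⟩ := (mc_or_mod hx (mem_top x) ((relIndex_top_right _).trans hM) ha).resolve_left
        fun e => hm ⟨_, _, e⟩
      refine ⟨b, hb.bnot, hb.bsq, ?_⟩
      have e : (x * b) ^ 2 = x ^ 2 * x ^ 2 ^ (s + 1) := by
        calc (x * b) ^ 2 = x * (b * x * b⁻¹) * (b * b) := by rw [sq]; group
          _ = _ := by rw [hb.act, hb.bsq, sq]; group
      obtain ⟨t, rfl⟩ : ∃ t, s = t + 1 := ⟨s - 1, by have := hb.pos; omega⟩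
      rw [pow_succ' 2 (t + 1), pow_mul, e, ← pow_succ', ((Commute.refl x).pow_pow _ _).mul_pow,
        ← pow_mul, ← pow_succ', pow_succ' 2 t, pow_mul (x ^ 2 ^ (t + 1 + 1)), sq, hu, one_pow, mul_one]
  have hb1 : b ≠ 1 := fun e => hb (e ▸ one_mem _)
  have ho : orderOf (x * b) = 2 ^ (s + 2) := orderOf_eq_prime_pow (hxb ▸ hu1) (by
    rw [pow_succ 2 (s + 1), pow_mul, hxb, sq, hu])
  have hM' : (zpowers (x * b)).index = 2 :=
    (index_iff Nat.prime_two h).2 ((Nat.card_zpowers _).trans ho)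
  have hne : zpowers x ≠ zpowers (x * b) := fun e =>
    hb ((mul_mem_cancel_left (mem_zpowers x)).1 (e ▸ mem_zpowers (x * b)))
  have : {M : Subgroup G | M.index = 2 ∧ IsCyclic M} = {zpowers x, zpowers (x * b)} := by
    ext N
    constructor
    · rintro ⟨h1, h2⟩
      have hN := (index_iff Nat.prime_two h).1 h1
      have huN : x ^ 2 ^ (s + 1) ∈ N := by
        rw [pow_succ' 2 s, pow_mul]; exact pow_mem (sq_mem_of_index_two h1 x) _
      have hbN : b ∉ N := fun e => by
        have := Cyc.eq_of_card_eq h2 (zpowers_le.2 e) (zpowers_le.2 huN) (by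
          rw [Nat.card_zpowers, Nat.card_zpowers, orderOf_eq_prime ((sq b).trans hb2) hb1,
            orderOf_eq_prime ((sq _).trans hu) hu1])
        exact hb (zpowers_le.2 (npow_mem_zpowers x _) (this ▸ mem_zpowers b))
      by_cases hxN : x ∈ N
      · exact Or.inl (eq_of_le_of_card_ge (zpowers_le.2 hxN) (by rw [hN, Nat.card_zpowers, hx])).symm
      · exact Or.inr (eq_of_le_of_card_ge (zpowers_le.2 ((mul_mem_iff_of_index_two h1).2
          (iff_of_false hxN hbN))) (by rw [hN, Nat.card_zpowers, ho])).symm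
    · rintro (rfl | rfl)
      exacts [⟨hM, inferInstance⟩, ⟨hM', inferInstance⟩]
  rw [this, Set.ncard_pair hne]

theorem cyc_mc {j : ℕ} {x : G} (h : MC (⊤ : Subgroup G) j x) :
    {M : Subgroup G | M.index = 2 ∧ IsCyclic M}.ncard ≡ 1 [MOD 2] := by
  have hc : Nat.card G = 2 ^ (j + 2 + 1) := by rw [← card_top, h.card_eq]
  have hx : (zpowers x).index = 2 := (relIndex_top_right _).symm.trans h.idx
  by_cases h1 : ∀ M : Subgroup G, M.index = 2 → IsCyclic M → M = zpowers x
  · have : {M : Subgroup G | M.index = 2 ∧ IsCyclic M} = {zpowers x} :=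
      Set.eq_singleton_iff_unique_mem.2 ⟨⟨hx, inferInstance⟩, fun M hM => h1 M hM.1 hM.2⟩
    rw [this, Set.ncard_singleton]
  push Not at h1
  obtain ⟨M, hM, hcy, hne⟩ := h1
  have key : ∀ N : Subgroup G, N.index = 2 → N ≤ zpowers x → N = zpowers x := fun N h1 h2 =>
    eq_of_le_of_card_ge h2 (by
      rw [(index_iff Nat.prime_two hc).1 h1, (index_iff Nat.prime_two hc).1 hx])
  obtain ⟨y, rfl⟩ := (Subgroup.isCyclic_iff_exists_zpowers_eq_top M).1 hcy
  have hy : y ∉ zpowers x := fun e => hne (key _ hM (zpowers_le.2 e))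
  have hyo : orderOf y = 2 ^ (j + 2) :=
    (Nat.card_zpowers y).symm.trans ((index_iff Nat.prime_two hc).1 hM)
  have hj : j = 0 := by
    have := orderOf_dvd_of_pow_eq_one (h.pow_four (mem_top y) hy)
    rw [hyo, show 4 = 2 ^ 2 from rfl, Nat.pow_dvd_pow_iff_le_right one_lt_two] at this
    omega
  subst hj
  have h4 : ∀ g, g ∉ zpowers x → orderOf g = 4 := by
    rcases h.cases with h1 | h1 | h1
    · have := orderOf_dvd_of_pow_eq_one ((sq y).trans (h1 y trivial hy))
      rw [hyo] at this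
      exact absurd this (by decide)
    · exact fun g hg => ((h.orderOf_out trivial hg).resolve_left fun e =>
        h.u_ne_one ((h1 g trivial hg).symm.trans e.1)).2
    · exact absurd h1.1 (by decide)
  have : {M : Subgroup G | M.index = 2 ∧ IsCyclic M} = {M : Subgroup G | M.index = 2} := by
    ext N
    refine and_iff_left_of_imp fun hN => ?_
    by_cases e : N ≤ zpowers x
    · exact Cyc.of_le inferInstance e
    obtain ⟨g, hg, hg'⟩ := SetLike.not_le_iff_exists.1 e
    rw [← eq_of_le_of_card_ge (zpowers_le.2 hg) (by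
      rw [(index_iff Nat.prime_two hc).1 hN, Nat.card_zpowers, h4 g hg']; rfl)]
    infer_instance
  rw [this]
  exact gam_modEq (IsPGroup.of_card hc) (hc ▸ dvd_pow_self 2 (by omega))

theorem mc_all {j : ℕ} {x : G} (h : MC (⊤ : Subgroup G) j x) {M : Subgroup G} (h8 : 8 ∣ Nat.card M) :
    IsCyclic M ∨ ∃ j x, MC M j x := by
  rcases h.sub_cases (le_top (a := M)) with h1 | ⟨g, -, -, h1⟩ | ⟨j, a, h1, -⟩
  · exact Or.inl (Cyc.of_le inferInstance h1)
  · exfalso
    have h2 : (M : Set G) ⊆ {1, x ^ 2 ^ (j + 1), g, x ^ 2 ^ (j + 1) * g} := h1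
    have h3 := (Set.ncard_le_ncard h2).trans ((Set.ncard_insert_le _ _).trans (Nat.succ_le_succ
      ((Set.ncard_insert_le _ _).trans (Nat.succ_le_succ (Set.ncard_insert_le _ _)))))
    rw [Set.ncard_singleton, ← Nat.card_coe_set_eq] at h3
    exact absurd ((Nat.le_of_dvd Nat.card_pos h8).trans h3) (by decide)
  · exact Or.inr ⟨j, a, h1⟩

theorem mc_even (hG : IsPGroup 2 G) (hm : ¬ ∃ j x, MC (⊤ : Subgroup G) j x) :
    2 ∣ {M : Subgroup G | M.index = 2 ∧ ∃ j x, MC M j x}.ncard := by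
  rcases Set.eq_empty_or_nonempty {M : Subgroup G | M.index = 2 ∧ ∃ j x, MC M j x} with
    e | ⟨M, hM, j, x, hx⟩
  · rw [e]; simp
  have hc : Nat.card G = 2 ^ (j + 3 + 1) := by rw [← M.card_mul_index, hM, hx.card_eq, pow_succ 2 (j + 3)]
  have hna : ¬ IsMulCommutative (⊤ : Subgroup G) := fun e =>
    hx.not_comm ((abel_of_comm e).mono le_top).comm
  have c1 : Nat.card (zpowers (x ^ 2)) = 2 ^ (j + 1) := by rw [Nat.card_zpowers, hx.orderOf_sq]
  have l1 : zpowers (x ^ 2) ≤ ⁅(⊤ : Subgroup G), ⊤⁆ := hx.commutator_eq ▸ commutator_mono le_top le_top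
  have hd : ⁅(⊤ : Subgroup G), ⊤⁆ = zpowers (x ^ 2) := by
    refine (eq_of_le_of_card_ge l1 ?_).symm
    have h1 := four_dvd_relIndex_commutator (hG.to_subgroup ⊤) (not_isCyclic_of_not_comm hna)
    have h2 := mt (fun e => taussky_sub (hG.to_subgroup ⊤) e hna) hm
    have h3 := card_mul_relIndex (le_top : ⁅(⊤ : Subgroup G), (⊤ : Subgroup G)⁆ ≤ ⊤)
    obtain ⟨c, hc'⟩ := h1
    rw [card_top, hc, hc'] at h3
    rw [c1]
    have : 2 ≤ c := by omega
    have e : 2 ^ (j + 3 + 1) = 2 ^ (j + 1) * 8 := by ring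
    nlinarith
  have c2 : Nat.card (zpowers ((x ^ 2) ^ 2)) = 2 ^ j := by
    rw [Nat.card_zpowers, H9.orderOf_sq hx.orderOf_sq]
  set D := zpowers ((x ^ 2) ^ 2)
  have l2 : D ≤ zpowers (x ^ 2) := zpowers_le.2 (npow_mem_zpowers _ 2)
  have hDn : D.Normal := (Cyc.nml_sub inferInstance l2 (hd ▸ nml_der)).normal
  have hder : ∀ N : Subgroup G, ⁅N, N⁆ ≤ zpowers (x ^ 2) := fun N =>
    hd ▸ commutator_mono le_top le_top
  have key : ∀ N : Subgroup G, N.index = 2 → ((∃ j x, MC N j x) ↔ ¬ ⁅N, N⁆ ≤ D) := by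
    intro N hN
    have h1 := card_mul_relIndex (der_le (H := N))
    rw [(index_iff Nat.prime_two hc).1 hN] at h1
    constructor
    · rintro ⟨i, y, hy⟩ h2
      have h3 := card_le_of_le h2
      rw [hy.index_commutator] at h1
      have e : 2 ^ (j + 3) = 2 ^ j * 8 := by ring
      have := Nat.two_pow_pos j
      omega
    · intro h2
      have h3 := (Cyc.total inferInstance (piGrp_of_isPGroup Nat.prime_two (hG.to_subgroup _))
        (hder N) l2).resolve_left h2
      have h5 : D.relIndex (zpowers (x ^ 2)) = 2 := relIndex_eq_of_mul l2 (by rw [c1, c2, pow_succ 2 j])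
      have h4 := (eq_or_eq_of_prime_relIndex (by rw [h5]; exact Nat.prime_two) h3
        (hder N)).resolve_left fun e => h2 e.le
      refine taussky_sub (hG.to_subgroup N) ?_ fun e => h2 ((abel_of_comm e).der ▸ bot_le)
      rw [h4, c1, show 2 ^ (j + 3) = 2 ^ (j + 1) * 4 by ring, ← h4] at h1
      exact (Nat.eq_of_mul_eq_mul_left (by positivity) h1).le
  have hq : ∀ N : Subgroup G, IsMulCommutative (N.map (QuotientGroup.mk' D)) ↔ ⁅N, N⁆ ≤ D := fun N => by
    rw [← abel_iff, abel_iff_der, ← map_commutator, Subgroup.map_eq_bot_iff, QuotientGroup.ker_mk']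
  have h1 := oc_quo D 2 fun B => IsMulCommutative B
  have h16 : Nat.card (G ⧸ D) = 2 ^ 4 := by
    have := card_eq_card_quotient_mul_card_subgroup D
    rw [hc, c2, show 2 ^ (j + 3 + 1) = 2 ^ 4 * 2 ^ j by ring] at this
    exact (Nat.eq_of_mul_eq_mul_right (by positivity) this).symm
  obtain ⟨A, hA, hAi⟩ := exists_abel_four Nat.prime_two (hG.to_quotient D) h16
  have h2 : Nat.card {B : Subgroup (G ⧸ D) // B.index = 2 ∧ IsMulCommutative B} ≡ 1 [MOD 2] := by
    rcases (Cfsg.Agent.S3807.result 2 (hG.to_quotient D) (fun e =>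
      (key M hM).1 ⟨j, x, hx⟩ ((hq M).1 inferInstance)) A hA hAi).2 with ⟨-, -, -, h⟩ | ⟨-, h⟩
    · rw [Nat.card_congr (Equiv.subtypeEquivRight fun _ => and_comm), h]; decide
    · rw [Nat.card_eq_one_iff_exists.2 ⟨⟨A, hAi, hA⟩, fun B => Subtype.ext (h B.1 B.2.2 B.2.1)⟩]
  have h3 := gam_modEq hG (hc ▸ dvd_pow_self 2 (by omega))
  rw [← Set.ncard_inter_add_ncard_sdiff_eq_ncard _ {N : Subgroup G | ⁅N, N⁆ ≤ D}] at h3
  have e1 : {N : Subgroup G | N.index = 2} ∩ {N : Subgroup G | ⁅N, N⁆ ≤ D} =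
      {N : Subgroup G | (D ≤ N ∧ N.index = 2) ∧ IsMulCommutative (N.map (QuotientGroup.mk' D))} := by
    ext N
    simp only [Set.mem_inter_iff, Set.mem_ofPred_eq, hq]
    exact and_congr_left' (and_iff_right_of_imp fun h => l2.trans (l1.trans
      ((commutator_le_frattini hG).trans (frat_le h)))).symm
  have e2 : {N : Subgroup G | N.index = 2} \ {N : Subgroup G | ⁅N, N⁆ ≤ D} =
      {M : Subgroup G | M.index = 2 ∧ ∃ j x, MC M j x} := by
    ext N
    exact and_congr_right fun h => (key N h).symm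
  rw [e1, e2, h1] at h3
  exact (Nat.modEq_zero_iff_dvd).1 (Nat.ModEq.add_left_cancel h2 h3)

/-- the exceptional case of Kulakoff's theorem -/
def Exc (p k : ℕ) (M : Subgroup G) : Prop :=
  IsCyclic M ∨ (p = 2 ∧ (∃ j x, MC M j x) ∧ p ^ (k + 2) ∣ Nat.card M)

omit [Finite G] in
theorem exc_top {k : ℕ} {M : Subgroup G} : Exc p k (⊤ : Subgroup M) ↔ Exc p k M := by
  refine or_congr topEquiv.isCyclic (and_congr_right' (and_congr ?_ (by rw [card_top])))
  exact ⟨fun ⟨j, x, h⟩ => ⟨j, x, h.of_top⟩, fun ⟨j, x, h⟩ => ⟨j, _, h.top⟩⟩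

theorem kulakoff [hp : Fact p.Prime] {k : ℕ} (hk : 1 ≤ k) (G : Type u) [Group G] [Finite G] :
    IsPGroup p G → p ^ (k + 1) ∣ Nat.card G →
      (Exc p k (⊤ : Subgroup G) → sc (⊤ : Subgroup G) (p ^ k) ≡ 1 [MOD p ^ 2]) ∧
      (¬ Exc p k (⊤ : Subgroup G) → sc (⊤ : Subgroup G) (p ^ k) ≡ 1 + p [MOD p ^ 2]) := by
  refine H1.card_induction (P := fun G _ _ => IsPGroup p G → p ^ (k + 1) ∣ Nat.card G →
      (Exc p k (⊤ : Subgroup G) → sc (⊤ : Subgroup G) (p ^ k) ≡ 1 [MOD p ^ 2]) ∧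
      (¬ Exc p k (⊤ : Subgroup G) → sc (⊤ : Subgroup G) (p ^ k) ≡ 1 + p [MOD p ^ 2]))
    (fun G _ _ ih hG hd => ?_) G
  classical
  by_cases hc : IsCyclic G
  · have hc' : IsCyclic (⊤ : Subgroup G) := inferInstance
    exact ⟨fun _ => by rw [sc_cyc hc' (by rw [card_top]; exact (pow_dvd_pow p k.le_succ).trans hd)],
      fun h => absurd (Or.inl hc') h⟩
  have hc' : ¬ IsCyclic (⊤ : Subgroup G) := fun h => hc (topEquiv.isCyclic.1 h)
  obtain ⟨m, hm⟩ := hG.exists_card_eq
  have hkm := hd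
  rw [hm, Nat.pow_dvd_pow_iff_le_right hp.out.one_lt] at hkm
  rcases hkm.eq_or_lt with rfl | hkm
  · refine ⟨fun h => absurd (h.resolve_left hc').2.2 (by
      rw [card_top, hm, Nat.pow_dvd_pow_iff_le_right hp.out.one_lt]; omega), fun _ => ?_⟩
    convert oc_bot hG hc using 1
    simp only [sc, oc, le_top, bot_le, true_and, index_iff hp.out hm]
  have := Fintype.ofFinite (Subgroup G)
  have hd2 : p ^ (k + 2) ∣ Nat.card G := hm ▸ pow_dvd_pow p hkm
  obtain ⟨s, rfl⟩ : ∃ s, m = s + 2 + 1 := ⟨m - 3, by omega⟩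
  have h1 := hall hG hc hd2
  set T := Finset.univ.filter fun M : Subgroup G => M.index = p
  have h2 : ∑ M ∈ T, (sc M (p ^ k) + p * if Exc p k M then 1 else 0) ≡ ∑ M ∈ T, (1 + p) [MOD p ^ 2] := by
    refine modEq_sum _ fun M hM => ?_
    have h3 := (index_iff hp.out hm).1 (Finset.mem_filter.1 hM).2
    have h4 := ih M (by rw [h3, hm]; exact Nat.pow_lt_pow_right hp.out.one_lt (by omega))
      (hG.to_subgroup M) (h3 ▸ pow_dvd_pow p (by omega))
    rw [exc_top, sc_top, ← sc_eq] at h4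
    split_ifs with h
    · rw [mul_one]; exact (h4.1 h).add_right p
    · exact h4.2 h
  have h3 : T.card ≡ 1 + p [MOD p ^ 2] := by
    convert oc_bot hG hc using 1
    rw [oc, ← Set.ncard_coe_finset]; congr 1; ext; simp [T]
  have h4 : (∑ M ∈ T, if Exc p k M then 1 else 0) = {M : Subgroup G | M.index = p ∧ Exc p k M}.ncard := by
    rw [← Finset.card_filter, ← Set.ncard_coe_finset]; congr 1; ext; simp [T]
  rw [Finset.sum_add_distrib, ← Finset.mul_sum, h4, Finset.sum_const, smul_eq_mul] at h2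
  set E := {M : Subgroup G | M.index = p ∧ Exc p k M}.ncard
  have h5 : sc (⊤ : Subgroup G) (p ^ k) + p * E + p ≡ 1 + p + p [MOD p ^ 2] := by
    rw [add_right_comm]
    refine ((h1.symm.add_right _).trans h2).trans ((h3.mul_right _).trans ?_)
    rw [show (1 + p) * (1 + p) = 1 + p + p + p ^ 2 by ring]
    exact Nat.add_mod_right _ _
  have h6 := h5.add_right_cancel' p
  refine ⟨fun h => ?_, fun h => ?_⟩
  · obtain ⟨rfl, ⟨j, x, hx⟩, -⟩ := h.resolve_left hc'
    have h7 : E ≡ 1 [MOD 2] := by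
      by_cases h8 : k + 2 ≤ s + 2
      · convert gam_modEq hG (hm ▸ dvd_pow_self 2 (by omega)) using 2
        ext M
        refine and_iff_left_of_imp fun hM => ?_
        have h9 := (index_iff hp.out hm).1 hM
        exact (mc_all hx (h9 ▸ pow_dvd_pow 2 (show 3 ≤ s + 2 by omega))).imp_right
          fun e => ⟨rfl, e, h9 ▸ pow_dvd_pow 2 h8⟩
      · convert cyc_mc hx using 2
        ext M
        refine and_congr_right fun hM => or_iff_left fun e => h8 ?_
        have := e.2.2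
        rwa [(index_iff hp.out hm).1 hM, Nat.pow_dvd_pow_iff_le_right one_lt_two] at this
    exact Nat.ModEq.add_right_cancel (h7.mul_left' 2) h6
  · have h7 : p ∣ E := by
      by_cases h2 : p = 2
      swap
      · convert cyc_odd h2 hc hm using 2
        ext M
        exact and_congr_right' (or_iff_left fun e => h2 e.1)
      subst h2
      have hmc : ¬ ∃ j x, MC (⊤ : Subgroup G) j x := fun e => h (Or.inr ⟨rfl, e, by rwa [card_top]⟩)
      by_cases h8 : k + 2 ≤ s + 2
      · have e : {M : Subgroup G | M.index = 2 ∧ Exc 2 k M} = {M : Subgroup G | M.index = 2 ∧ IsCyclic M} ∪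
            {M : Subgroup G | M.index = 2 ∧ ∃ j x, MC M j x} := by
          ext M
          simp only [Set.mem_union, Set.mem_ofPred_eq, ← and_or_left]
          exact and_congr_right fun hM => or_congr_right ⟨fun e => e.2.1, fun e =>
            ⟨rfl, e, (index_iff hp.out hm).1 hM ▸ pow_dvd_pow 2 h8⟩⟩
        rw [show E = _ from congrArg Set.ncard e, Set.ncard_union_eq
          (Set.disjoint_left.2 ?_)]
        swap
        · exact fun M a ⟨_, _, _, b⟩ => not_isCyclic_of_not_comm b.not_comm a.2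
        exact dvd_add (cyc_two hc hmc hm) (mc_even hG hmc)
      · convert cyc_two hc hmc hm using 2
        ext M
        refine and_congr_right fun hM => or_iff_left fun e => h8 ?_
        have := e.2.2
        rwa [(index_iff hp.out hm).1 hM, Nat.pow_dvd_pow_iff_le_right one_lt_two] at this
    have h8 : p * E ≡ 0 [MOD p ^ 2] := (Nat.modEq_zero_iff_dvd).2 (sq p ▸ Nat.mul_dvd_mul_left p h7)
    exact (h8.add_left _).symm.trans h6

end H3.Kul
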