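import Cfsg.Agent.H15.Kl0
import Cfsg.Agent.H1.Coprime

/-! Piece `PF` of S4606: `H3.KlF.pF`. -/
set_option autoImplicit false
namespace H3.KlF
open Subgroup Cfsg
open scoped commutatorElement
universe u

theorem pF : H15.Kl.PF.{u} := by
  intro G _ _ p hp h Q g x hQ hg hd hx h1 hc
  have := hQ.isNilpotent
  by_contra! n
  obtain ⟨y, hy, n⟩ := n
  set R := Q ⊓ centralizer ({g} : Set G) with hR
  have m : ∀ {z : G}, z ∈ R ↔ z ∈ Q ∧ Commute z g := by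
    intro z
    simp [hR, mem_centralizer_singleton_iff, commute_iff_eq]
  have lt : R < Q := lt_of_le_of_ne inf_le_left fun e => n (m.1 (e.ge hy)).2
  obtain ⟨t, ht, tn⟩ := SetLike.exists_of_lt (H1.lt_inf_normalizer_of_isNilpotent lt)
  have tQ : t ∈ Q := ht.1
  have tN : t ∈ normalizer (R : Set G) := ht.2
  have ne : R ≠ ⊥ := fun e => h1 (mem_bot.1 (e.le (m.2 ⟨hx, hc⟩)))
  have := H1.inf_centralizer_ne_bot_of_isPGroup (p := p) (P := zpowers t) (U := R)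
    (hQ.to_le (zpowers_le.2 tQ)) (hQ.to_le inf_le_left) (zpowers_le.2 tN) ne
  obtain ⟨⟨z, zR, zc⟩, z1⟩ := (ne_bot_iff_exists_ne_one).1 this
  have z1 : z ≠ 1 := fun e => z1 (Subtype.ext e)
  obtain ⟨k, hk⟩ := hQ ⟨z, (m.1 zR).1⟩
  have nd := h z g t z1 ⟨k, congrArg Subtype.val hk⟩ (m.1 zR).2 (zc t (mem_zpowers t)).symm hd
  have cQ : ⁅g, t⁆ ∈ Q := by
    rw [commutatorElement_def]
    exact mul_mem ((mem_normalizer_iff.1 hg t).1 tQ) (inv_mem tQ)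
  obtain ⟨j, hj⟩ := hQ ⟨_, cQ⟩
  obtain ⟨i, -, e⟩ := (Nat.dvd_prime_pow hp.out).1 (orderOf_dvd_of_pow_eq_one (congrArg Subtype.val hj))
  have e : orderOf ⁅g, t⁆ = p ^ i := e
  rcases i with _ | i
  · exact tn (m.2 ⟨tQ, (commutatorElement_eq_one_iff_commute.1 (orderOf_eq_one_iff.1 (by simpa using e))).symm⟩)
  · exact nd (e ▸ dvd_pow_self p i.succ_ne_zero)

end H3.KlF
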