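import Cfsg.Agent.H9.Lf0
import Cfsg.Agent.H16.Wal

/-! Piece `PT` of S3297: a non-abelian simple group whose Sylow `2`-normalizer controls fusion and whose
involution centralizers have normal `2`-complements has elementary abelian Sylow `2`-subgroups with one class of
involutions, or is a Suzuki group (`pT`). -/

set_option autoImplicit false
set_option linter.unusedSectionVars false

namespace H3.LfT
open H18 H22 H1 Subgroup Cfsg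
open scoped commutatorElement

universe u

variable {G : Type u} [Group G] [Finite G] {S : Subgroup G}

theorem four [IsSimpleGroup G] (h : AbS S ⊤) (hG : ¬ IsMulCommutative G) (sq : ∀ x ∈ S, x * x = 1)
    (c : Nat.card S = 4) {x y : G} (hx : x ∈ S) (hy : y ∈ S) (x1 : x ≠ 1) (y1 : y ≠ 1) :
    ∃ g : G, g * x * g⁻¹ = y := by
  by_cases e : y = x
  · exact ⟨1, by simp [e]⟩
  have x2 : orderOf x = 2 := ord2.2 ⟨sq x hx, x1⟩
  have y2 : orderOf y = 2 := ord2.2 ⟨sq y hy, y1⟩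
  have cm := h.comm hx hy
  have eV : V4 x y = S := eq_of_card_ge (H22.V4_le hx hy) (by rw [H22.card_V4 x2 y2 cm e, c])
  have mem : ∀ z ∈ S, z = 1 ∨ z = x ∨ z = y ∨ z = x * y := fun z hz =>
    (H22.mem_V4 (sq x hx) (sq y hy) cm).1 (eV ▸ hz)
  have mv : ∀ a ∈ S, orderOf a = 2 → ∃ n : G, n * a * n⁻¹ ∈ S ∧ n * a * n⁻¹ ≠ a ∧ n * a * n⁻¹ ≠ 1 :=
    fun a ha a2 => by
      obtain ⟨n, hn, e⟩ := SetLike.not_le_iff_exists.1 (h.not_fix hG ha a2)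
      exact ⟨n, conj_mem_N hn ha, fun e' => e (mem_C1.2 (mul_inv_eq_iff_eq_mul.1 e')), ne1 (ord2_conj a2 n)⟩
  obtain ⟨n, n1, n2, n3⟩ := mv x hx x2
  obtain ⟨m, m1, m2, m3⟩ := mv y hy y2
  rcases mem _ n1 with a | a | a | a
  · exact (n3 a).elim
  · exact (n2 a).elim
  · exact ⟨n, a⟩
  rcases mem _ m1 with b | b | b | b
  · exact (m3 b).elim
  · exact ⟨m⁻¹, by rw [← b]; group⟩
  · exact (m2 b).elim
  · refine ⟨m⁻¹ * n, ?_⟩
    rw [show m⁻¹ * n * x * (m⁻¹ * n)⁻¹ = m⁻¹ * (n * x * n⁻¹) * m by group, a, ← b]; group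

theorem se_case [IsSimpleGroup G] (hS : Hall {2} S ⊤) (hB : H9.Lf.HB 2 S) {H : Subgroup G}
    (hH : IsStronglyEmbedded H) :
    (IsElementaryAbelian 2 S ∧ ∀ x ∈ S, ∀ y ∈ S, x ≠ 1 → y ≠ 1 → ∃ g : G, g * x * g⁻¹ = y) ∨
      Lie.IsoSuzuki G := by
  obtain ⟨Q, t, h1, h2⟩ := H9.bender_simple hH
  obtain ⟨g, -, e⟩ := sylow_conj Nat.prime_two (h1.sylow (hall_self h2)) hS
  have h := h1.conj g
  rw [cj_top, ← e] at h
  obtain ⟨K, V, W, Q₀, s, h'⟩ := h.exists_suz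
  have lt := H19.two_lt_of_simple h'
  obtain ⟨c, ⟨a, -⟩ | ⟨a, b, d⟩ | ⟨-, -, -, ω, hω, ζ, hζ, ne, -⟩⟩ := H19.concl h' lt
  · have eQ : Q₀ = S := eq_of_le_of_card_ge h'.leQ₀ a.le
    refine Or.inl ⟨⟨(eQ ▸ h'.elem₀.abel).comm, fun x hx => by rw [sq, h'.sq₀ (eQ ▸ hx)]⟩, fun x hx y hy x1 y1 => ?_⟩
    obtain ⟨k, -, e⟩ := h'.trans' (eQ ▸ hx) x1 (eQ ▸ hy) y1
    exact ⟨k, e⟩
  · have := H19.isoSuzuki_of H19.pillarA h' lt c b a d
    rw [h.gen_of_simple] at this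
    obtain ⟨F, _, _, m, h1, h2, ⟨f⟩⟩ := this
    exact Or.inr ⟨F, _, _, m, h1, h2, ⟨topEquiv.symm.trans f⟩⟩
  · exfalso
    have hO := (hasNormalPComplement_iff Nat.prime_two).1 (hB s h'.sQ (ord2.2 ⟨h'.ss, h'.s_ne⟩))
    have z1 : ζ ∈ C1(s) := h'.V_le_C1s (h'.leW hζ)
    have w1 : ω ∈ C1(s) := mem_C1.2 (mem_C.1 (h'.Q₀_cent h'.sQ₀) ω hω)
    have z2 : ζ ∈ O[{2}ᶜ](C1(s)) :=
      PiElt.mem_of_nml (H5.piNat_two_compl.2 (h'.oddD (h'.leWD hζ))) z1 pcore_nml hO.idx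
    have k1 : ζ * ω * ζ⁻¹ * ω⁻¹ ∈ S := mul_mem (H18.conj_mem h'.nQD (h'.leWD hζ) hω) (inv_mem hω)
    have k2 : ζ * ω * ζ⁻¹ * ω⁻¹ ∈ O[{2}ᶜ](C1(s)) := by
      rw [show ζ * ω * ζ⁻¹ * ω⁻¹ = ζ * (ω * ζ⁻¹ * ω⁻¹) by group]
      exact mul_mem z2 (H18.conj_mem pcore_nml.norm w1 (inv_mem z2))
    have k3 : ζ * ω * ζ⁻¹ * ω⁻¹ = 1 := mem_bot.1 (hS.pi.inf_eq_bot pcore_pi ▸ mem_inf.2 ⟨k1, k2⟩)
    exact ne (by rw [mul_inv_eq_one, mul_inv_eq_iff_eq_mul] at k3; exact k3)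

theorem pT : H9.Lf.PT.{u} := by
  intro G _ _ _ P hG hA hB
  have hS : Hall {2} (P : Subgroup G) ⊤ := hall_sylow_top Nat.prime_two P
  generalize (P : Subgroup G) = S at *
  let A : Subgroup G :=
    { carrier := {a | a ∈ S ∧ a * a = 1 ∧ ∀ y ∈ S, a * y = y * a}
      one_mem' := ⟨one_mem _, mul_one _, fun y _ => by simp⟩
      mul_mem' := fun {a b} ha hb => ⟨mul_mem ha.1 hb.1, by
        rw [mul_assoc, ← mul_assoc b, ← ha.2.2 b hb.1, mul_assoc, hb.2.1, mul_one, ha.2.1], fun y hy => by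
        rw [mul_assoc, hb.2.2 y hy, ← mul_assoc, ha.2.2 y hy, mul_assoc]⟩
      inv_mem' := fun {a} ha => by rw [Set.mem_ofPred_eq, inv_of_sq ha.2.1]; exact ha }
  have S0 : S ≠ ⊥ := fun e => not_solv_top hG (solv_of_two' (by
    have := hS.idx
    rwa [e, relIndex_bot_left] at this))
  have Z0 : S ⊓ C(S) ≠ ⊥ := hS.pi.meet_cent hS.pi le_normalizer S0
  obtain ⟨z, hz, z2⟩ := exists_inv (hS.pi.inf_left.dvd_card Z0)
  have zA : z ∈ A := ⟨hz.1, sq1 z2, fun y hy => (mem_C.1 hz.2 y hy).symm⟩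
  rcases H4.Gs.goldschmidt (A := A) (H16.not_abel_top hG) (H16.isSyl17 hS) (ne_bot_of_mem zA (ne1 z2))
    (cent_iff.2 fun a ha b hb => ha.2.2 b hb.1)
    ⟨fun _ e => e.1, fun x hx g e => by
      obtain ⟨n, -, hn, e'⟩ := hA x hx.1 _ e ⟨g, mem_top g, rfl⟩
      rw [← e']
      refine ⟨conj_mem_N hn hx.1, by rw [conj_mul, hx.2.1, mul_one, mul_inv_cancel], fun y hy => ?_⟩
      have := hx.2.2 _ (conj_mem_N (inv_mem hn) hy)
      rw [show n * x * n⁻¹ * y = n * (x * (n⁻¹ * y * n⁻¹⁻¹)) * n⁻¹ by group, this]; group⟩ with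
    ⟨H, hH⟩ | ⟨e, c⟩
  · exact se_case hS hB hH
  have ab : AbS S ⊤ := ⟨hS, e.abel⟩
  have sq' : ∀ x ∈ S, x * x = 1 := fun x hx => (sq x).symm.trans (e.2 x hx)
  refine Or.inl ⟨⟨e.abel.comm, fun x hx => e.2 x hx⟩, fun x hx y hy x1 y1 => ?_⟩
  rcases c with c | c
  · exact four ab hG sq' c hx hy x1 y1
  · obtain ⟨n, -, e⟩ := E8.trans ⟨ab, sq', c⟩ hG hx x1 hy y1
    exact ⟨n, e⟩

end H3.LfT
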