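import Cfsg.Agent.H3.FS3
import Cfsg.Agent.H3.TV1
import Cfsg.Agent.H3.Blk

/-! Transvections on an elementary abelian essential subgroup, in the model: the automizer has Sylow subgroups of
order `p` and contains the central involution of `SL₂(p)` (`Mcf.loc`). -/

set_option autoImplicit false

namespace H3.Mcf

open Subgroup Cfsg H18 H3
open scoped commutatorElement

variable {G : Type*} [Group G] {p : ℕ} {E M P T U V : Subgroup G} {a b c c' e g t t' x y : G}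

/-- the elements normalizing `V` and centralizing `U` modulo `V` -/
def stb (U V : Subgroup G) : Subgroup G where
  carrier := {g | g ∈ N(V) ∧ ∀ u ∈ U, ⁅g, u⁆ ∈ V}
  one_mem' := ⟨one_mem _, fun _ _ => by simp⟩
  mul_mem' {a b} ha hb := ⟨mul_mem ha.1 hb.1, fun u hu => by
    rw [comm_mul_left']; exact mul_mem (conj_mem_N ha.1 (hb.2 u hu)) (ha.2 u hu)⟩
  inv_mem' {a} ha := ⟨inv_mem ha.1, fun u hu => by
    convert conj_mem_N' ha.1 (inv_mem (ha.2 u hu)) using 1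
    simp only [commutatorElement_def]; group⟩

theorem tr_stb {K : Subgroup G} (h : K ≤ stb U V) : Tr p K U V := tr_of_comm (commutator_le.2 fun u hu k hk => by
  rw [← commutatorElement_inv]; exact inv_mem ((h hk).2 u hu))

/-- `t` is a transvection on `E` with center `c` -/
structure TVc (E : Subgroup G) (t c : G) : Prop where
  mem : c ∈ E
  comm : Commute t c
  tv : ∀ e ∈ E, ⁅t, e⁆ ∈ zpowers c

theorem TVc.conj [hE : E.Normal] (h : TVc E t c) (g : G) : TVc E (g * t * g⁻¹) (g * c * g⁻¹) :=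
  ⟨hE.conj_mem _ h.mem g, h.comm.conj g, fun e he => by
    obtain ⟨k, hk⟩ := h.tv _ (hE.conj_mem' e he g)
    refine ⟨k, ?_⟩
    simp only at hk ⊢
    rw [conj_zpow, hk]; simp only [commutatorElement_def]; group⟩

theorem TVc.comm' (h : TVc E t c) (ha : a ∈ zpowers c) : Commute t a := by
  obtain ⟨k, rfl⟩ := ha; exact h.comm.zpow_right k

theorem TVc.pow (h : TVc E t c) (he : e ∈ E) (i : ℕ) : t ^ i * e * (t ^ i)⁻¹ = ⁅t, e⁆ ^ i * e := by
  rw [← comm_pow_left (h.comm' (h.tv e he)), commutatorElement_def, inv_mul_cancel_right]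

theorem TVc.mul (h : TVc E t c) (hA : Abel E) (ha : a ∈ E) (hb : b ∈ E) : ⁅t, a * b⁆ = ⁅t, a⁆ * ⁅t, b⁆ := by
  have := hA (zpowers_le.2 h.mem (h.tv b hb)) a ha
  rw [show ⁅t, a * b⁆ = ⁅t, a⁆ * (a * ⁅t, b⁆ * a⁻¹) by simp only [commutatorElement_def]; group, this,
    mul_inv_cancel_right]

theorem TVc.pow' (h : TVc E t c) (hA : Abel E) (ha : a ∈ E) (i : ℕ) : ⁅t, a ^ i⁆ = ⁅t, a⁆ ^ i :=
  comm_pow_right (show Commute a _ from hA (zpowers_le.2 h.mem (h.tv a ha)) a ha) i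

variable [Finite G]

omit [Finite G] in
theorem exists_pow (hp : p.Prime) (hc : c ^ p = 1) (ha : a ∈ zpowers c) (h1 : a ≠ 1) (hb : b ∈ zpowers c) :
    ∃ k : ℕ, a ^ k = b := by
  have := Fact.mk hp
  exact exists_pow_of_prime (orderOf_eq_prime hc fun e => h1 (by simpa [e] using ha)) ha h1 hb

/-- one transvection moves every vector into the axis of another one -/
theorem TVc.exists (h : TVc E t c) (hp : p.Prime) (hA : Abel E) (he : ∀ x ∈ E, x ^ p = 1) (ha : a ∈ E)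
    (hn : ¬ Commute t a) (hb : b ∈ E) : ∃ i : ℕ, Commute t (a ^ i * b) := by
  obtain ⟨i, hi⟩ := exists_pow hp (he c h.mem) (h.tv a ha) (mt commutatorElement_eq_one_iff_commute.1 hn)
    (inv_mem (h.tv b hb))
  exact ⟨i, by rw [← commutatorElement_eq_one_iff_commute, h.mul hA (pow_mem ha i) hb, h.pow' hA ha, hi,
    inv_mul_cancel]⟩

theorem se1 (hp : p.Prime) (h : LE p E T M) (hP : PiGrp {p} P) (hx : x ∈ P) (hM : x ∈ M) (hE : x ∉ E) : P ≤ M := by
  have := h.nml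
  have e0 : E ≤ M := h.le.trans h.T_le
  have hQ : PiGrp {p} (P ⊔ E : Subgroup G) := hP.sup_norm h.pi le_normalizer_of_normal
  by_contra k
  obtain ⟨m, m1, m2⟩ := sylow_le_cj hp (h.syl.of_le h.T_le le_top) (hQ.of_le (inf_le_left (b := M))) inf_le_right
  have _ := Fact.mk hp
  obtain ⟨u, u1, u2, u3⟩ := H20.exists_normalizer_gt (p := p) hQ.isPGroup (inf_le_left (b := M))
    fun l => k (le_sup_left.trans (l.trans inf_le_right))
  have l : E < cj m ((P ⊔ E) ⊓ M) := lt_of_le_of_ne (fun y hy => mem_cj.2 ⟨mem_sup_right (this.conj_mem' y hy m),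
    e0 (this.conj_mem' y hy m)⟩) fun l => hE (by
      simpa [mul_assoc] using this.conj_mem' _ (l ▸ conj_mem_cj ⟨mem_sup_left hx, hM⟩ : m * x * m⁻¹ ∈ E) m)
  have := h.emb _ l m2 (show m * u * m⁻¹ ∈ _ by rw [← cj_N]; exact conj_mem_cj u3)
  exact u2 ⟨u1, by simpa [mul_assoc] using mul_mem (mul_mem (inv_mem m1) this) m1⟩

theorem se2 (hp : p.Prime) (h : LE p E T M) (hx : PiElt {p} x) (hE : x ∉ E) (hM : x ∈ M) (hg : g * x * g⁻¹ ∈ M) :
    g ∈ M := by
  have := h.nml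
  have s1 := h.syl.of_le h.T_le le_top
  obtain ⟨m, m1, m2⟩ := sylow_le_cj' hp s1 hx.zpowers (zpowers_le.2 hM)
  have s2 : Hall {p} (cj g (cj m T)) ⊤ := (h.syl.cj_top m).cj_top g
  obtain ⟨k, k1, k2⟩ := sylow_conj hp (s2.of_le (se1 hp h s2.pi (conj_mem_cj (m2 (mem_zpowers x))) hg fun e => hE
    (by simpa [mul_assoc] using this.conj_mem' _ e g)) le_top) s1
  rw [← cj_mul, ← cj_mul] at k2
  simpa [mul_assoc] using mul_mem (mul_mem (inv_mem k1) (h.emb T h.lt le_rfl (mem_N_iff_cj.2 k2.symm))) (inv_mem m1)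

theorem TVc.pi (h : LM p E T) (h1 : TVc E t c) (h2 : TVc E t' c') (hc : Commute t c') :
    PiGrp {p} (zpowers t ⊔ zpowers t' : Subgroup G) := by
  have := h.nml
  have c1 : zpowers c' ≤ E ⊓ C(zpowers t) := zpowers_le.2 ⟨h2.mem, by rw [C_zpowers]; exact mem_centralizer_singleton_iff.2 hc.symm⟩
  have c2 : zpowers c ≤ E ⊓ C(zpowers t) := zpowers_le.2 ⟨h1.mem, by rw [C_zpowers]; exact mem_centralizer_singleton_iff.2 h1.comm.symm⟩
  have c3 : ∀ w ∈ E ⊓ C(zpowers t), ⁅t, w⁆ = 1 := fun w hw =>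
    commutatorElement_eq_one_iff_mul_comm.2 (hw.2 t (mem_zpowers t))
  have nm : ∀ {V : Subgroup G} {g : G}, (∀ v ∈ V, ⁅g, v⁆ ∈ V) → g ∈ N(V) := fun h =>
    H20.mem_normalizer_of_conj fun v hv => by simpa [commutatorElement_def] using mul_mem (h v hv) hv
  have c4 : ∀ w ∈ zpowers c', ⁅t', w⁆ = 1 := fun w hw => commutatorElement_eq_one_iff_commute.2 (h2.comm' hw)
  have k1 : zpowers t ⊔ zpowers t' ≤ stb E (E ⊓ C(zpowers t)) := sup_le
    (zpowers_le.2 ⟨nm fun v hv => c3 v hv ▸ one_mem _, fun u hu => c2 (h1.tv u hu)⟩)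
    (zpowers_le.2 ⟨nm fun v hv => c1 (h2.tv v hv.1), fun u hu => c1 (h2.tv u hu)⟩)
  have k2 : zpowers t ⊔ zpowers t' ≤ stb (E ⊓ C(zpowers t)) (zpowers c') := sup_le
    (zpowers_le.2 ⟨nm fun v hv => c3 v (c1 hv) ▸ one_mem _, fun u hu => c3 u hu ▸ one_mem _⟩)
    (zpowers_le.2 ⟨nm fun v hv => c4 v hv ▸ one_mem _, fun u hu => h2.tv u hu.1⟩)
  have k3 : zpowers t ⊔ zpowers t' ≤ stb (zpowers c') ⊥ := sup_le
    (zpowers_le.2 ⟨nm (by simp), fun u hu => c3 u (c1 hu)⟩) (zpowers_le.2 ⟨nm (by simp), c4⟩)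
  exact h.pi_of_tr ((tr_stb k1).trans h.pi ((tr_stb k2).trans' (h.pi.of_le inf_le_left) (fun _ hk => (k1 hk).1)
    (tr_stb k3)))

theorem loc (hp : p.Prime) (h2 : p ≠ 2) (h : LE p E T M) (hA : Abel E) (he : ∀ x ∈ E, x ^ p = 1) (ht : t ∈ T)
    (hE : t ∉ E) (h1 : TVc E t c) : T ≤ E ⊔ zpowers t ∧ ∃ g, g * t * g⁻¹ * t⁻¹ ∈ E ∧
      (Commute t (g * t * g⁻¹ * t⁻¹) → g * t * g⁻¹ * t⁻¹ ∈ zpowers c) ∧ g * c * g⁻¹ = c⁻¹ ∧
      ∀ w ∈ E, Commute t w → g * w * g⁻¹ * w⁻¹ ∈ zpowers c := by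
  have := h.nml
  have tp := h.syl.pi.elt ht
  have X : ∀ g, Commute t (g * c * g⁻¹) ∨ Commute (g * t * g⁻¹) c → g ∈ M := fun g k => by
    refine se2 hp h tp hE (h.T_le ht) ?_
    rcases k with k | k
    · exact se1 hp h (h1.pi h.toLM (h1.conj g) k) (mem_sup_left (mem_zpowers t)) (h.T_le ht) hE
        (mem_sup_right (mem_zpowers _))
    · exact se1 hp h ((h1.conj g).pi h.toLM h1 k) (mem_sup_right (mem_zpowers t)) (h.T_le ht) hE
        (mem_sup_left (mem_zpowers _))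
  obtain ⟨g, hg⟩ : ∃ g, g ∉ M := by
    by_contra! k; exact h.ne (eq_top_iff.2 fun g _ => k g)
  have h3 := h1.conj g
  have n1 : ¬ Commute t (g * c * g⁻¹) := fun k => hg (X g (.inl k))
  have n2 : ¬ Commute (g * t * g⁻¹) c := fun k => hg (X g (.inr k))
  have ce := he c h1.mem
  refine ⟨fun u hu => ?_, ?_⟩
  · have h4 := h1.conj (u * g)
    have n3 : ⁅t, u * g * c * (u * g)⁻¹⁆ ≠ 1 := fun k => hg (by
      simpa using mul_mem (inv_mem (h.T_le hu)) (X _ (.inl (commutatorElement_eq_one_iff_commute.1 k))))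
    have a1 := h1.tv _ h4.mem
    obtain ⟨i, hi⟩ := h3.exists hp hA he (zpowers_le.2 h1.mem a1) (fun k => by
      obtain ⟨j, hj⟩ := exists_pow hp ce a1 n3 (mem_zpowers c)
      exact n2 (hj ▸ k.pow_right j)) h4.mem
    rw [← h1.pow h4.mem] at hi
    have m := X (g⁻¹ * (t ^ i * u) * g⁻¹⁻¹) (.inl (by
      convert hi.conj g⁻¹ using 1 <;> group))
    have v := mul_mem (pow_mem ht i) hu
    by_cases k : t ^ i * u ∈ E
    · simpa using mul_mem (mem_sup_right (inv_mem (pow_mem (mem_zpowers t) i))) (mem_sup_left (T := zpowers t) k)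
    · exact (hg (inv_mem_iff.1 (se2 hp h (h.syl.pi.elt v) k (h.T_le v) m))).elim
  generalize g * t * g⁻¹ = t' at h3 n2
  generalize g * c * g⁻¹ = c' at h3 n1
  have cc : c * c' = c' * c := hA h3.mem c h1.mem
  obtain ⟨i, hi⟩ := exists_pow hp ce (h1.tv _ h3.mem) (mt commutatorElement_eq_one_iff_commute.1 n1) (mem_zpowers c)
  obtain ⟨j, hj⟩ := exists_pow hp (he _ h3.mem) (h3.tv _ h1.mem) (mt commutatorElement_eq_one_iff_commute.1 n2)
    (inv_mem (mem_zpowers c'))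
  let φ : G →* MulAut G := MulAut.conj
  have a1 : φ (t ^ i) c' = c * c' := hi ▸ h1.pow h3.mem i
  have a2 : φ (t ^ i) c = c := (h1.comm.pow_left i).mul_inv_cancel
  have a3 : φ (t' ^ j) c = c'⁻¹ * c := hj ▸ h3.pow h1.mem j
  have a4 : φ (t' ^ j) c' = c' := (h3.comm.pow_left j).mul_inv_cancel
  have b1 : φ (t ^ i * t' ^ j * t ^ i) c = c'⁻¹ := by
    simp only [map_mul, MulAut.mul_apply, map_inv, a1, a2, a3]; group
  have b2 : φ (t ^ i * t' ^ j * t ^ i) c' = c := by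
    rw [map_mul, map_mul, MulAut.mul_apply, MulAut.mul_apply, a1, map_mul, a3, a4, mul_assoc, cc, inv_mul_cancel_left, a2]
  have b3 : ∀ q, Commute t q → Commute t' q → φ (t ^ i * t' ^ j * t ^ i) q = q := fun q k k' =>
    (((k.pow_left i).mul_left (k'.pow_left j)).mul_left (k.pow_left i)).mul_inv_cancel
  generalize t ^ i * t' ^ j * t ^ i = s at b1 b2 b3
  have d1 : φ (s * s) c = c⁻¹ := by simp only [map_mul, MulAut.mul_apply, b1, map_inv, b2]
  have d2 : φ (s * s) c' = c'⁻¹ := by simp only [map_mul, MulAut.mul_apply, b1, b2]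
  have d3 : ∀ q, Commute t q → Commute t' q → φ (s * s) q = q := fun q k k' => by
    simp only [map_mul, MulAut.mul_apply, b3 q k k']
  generalize s * s = τ at d1 d2 d3
  have f1 : ∀ w ∈ E, Commute t w → ∃ k : ℕ, φ τ (c ^ k * w) = c ^ k * w := fun w hw k => by
    obtain ⟨l, hl⟩ := h3.exists hp hA he h1.mem n2 hw
    exact ⟨l, d3 _ ((h1.comm.pow_right l).mul_right k) hl⟩
  have f2 : ∀ y : G, φ y c = c → φ y c' = c' → (∀ q, Commute t q → Commute t' q → φ y q = q) → y ∈ E :=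
    fun y k1 k2 k3 => h.cent fun w hw => by
      obtain ⟨l, hl⟩ := h1.exists hp hA he h3.mem n1 hw
      obtain ⟨l', hl'⟩ := h3.exists hp hA he h1.mem n2 (mul_mem (pow_mem h3.mem l) hw)
      have := k3 _ ((h1.comm.pow_right l').mul_right hl) hl'
      rw [map_mul, map_mul, map_pow, map_pow, k1, k2, mul_right_inj, mul_right_inj] at this
      exact (mul_inv_eq_iff_eq_mul.1 this).symm
  have f3 : ∀ w ∈ E, Commute t w → τ * w * τ⁻¹ * w⁻¹ ∈ zpowers c := fun w hw k => by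
    obtain ⟨l, hl⟩ := f1 w hw k
    rw [map_mul, map_pow, d1, ← eq_inv_mul_iff_mul_eq] at hl
    rw [show τ * w * τ⁻¹ = _ from hl, mul_assoc, mul_inv_cancel_right]
    exact mul_mem (inv_mem (pow_mem (inv_mem (mem_zpowers c)) l)) (pow_mem (mem_zpowers c) l)
  have inv : ∀ {y a b : G}, φ y a = b → φ y⁻¹ b = a := fun e => by rw [← e, map_inv]; simp
  have t1 : φ t c = c := h1.comm.mul_inv_cancel
  have f4 : τ * t * τ⁻¹ * t⁻¹ ∈ E := by
    obtain ⟨k, hk⟩ := h1.tv _ h3.mem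
    have t2 : φ t c' = c ^ k * c' := by
      rw [show c ^ k = _ from hk, commutatorElement_def, inv_mul_cancel_right]; rfl
    have t3 : φ t⁻¹ c' = (c ^ k)⁻¹ * c' := inv (by rw [map_mul, map_inv, map_zpow, t1, t2, inv_mul_cancel_left])
    have e1 : φ τ⁻¹ c = c⁻¹ := inv (by rw [map_inv, d1, inv_inv])
    have e2 : φ τ⁻¹ c' = c'⁻¹ := inv (by rw [map_inv, d2, inv_inv])
    have cc' : Commute c' (c ^ k) := (show Commute c c' from cc).symm.zpow_right k
    refine f2 _ ?_ ?_ fun q k k' => ?_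
    · simp only [map_mul, MulAut.mul_apply, inv t1, e1, map_inv (φ _), t1, d1, inv_inv]
    · simp only [map_mul, MulAut.mul_apply, t3, map_inv (φ _), map_zpow, e1, e2, t1, t2, d1, d2, inv_inv, inv_zpow,
        mul_inv_rev]
      rw [cc'.eq, inv_mul_cancel_left]
    · have q1 : φ t q = q := k.mul_inv_cancel
      simp only [map_mul, MulAut.mul_apply, inv q1, inv (d3 q k k'), q1, d3 q k k']
  refine ⟨τ, f4, fun k => ?_, d1, f3⟩
  have f5 : τ * τ ∈ E := f2 _ (by simp only [map_mul, MulAut.mul_apply, d1, map_inv, inv_inv])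
    (by simp only [map_mul, MulAut.mul_apply, d2, map_inv, inv_inv]) fun q k k' => by
      simp only [map_mul, MulAut.mul_apply, d3 q k k']
  refine mem_of_pow_mem (h.pi.elt f4) hp (n := 2) (fun e => h2 ((Nat.prime_dvd_prime_iff_eq hp Nat.prime_two).1 e)) ?_
  convert mul_mem (inv_mem (f3 _ f4 k)) (inv_mem (h1.tv _ f5)) using 1
  simp only [commutatorElement_def, sq]; group

end H3.Mcf
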