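import Cfsg.Agent.H3.Mcf1

/-! Sign computations for automorphisms of `p`-groups of maximal class acting on the third centre
(`Mcf.finA`, `Mcf.finB`). -/

set_option autoImplicit false

namespace H3.Mcf

open Subgroup Cfsg H18 H3 Blk
open H20 (HomOn)
open scoped commutatorElement

variable {G : Type*} [Group G] {p n m i j : ℕ} {K : Subgroup G} {τ : G → G} {c e s t x y : G}

theorem sgn (hτ : HomOn K τ) (hx : x ∈ K) (hy : y ∈ K) (h : y ∈ gam ⊤ i) {δ ε : ℤ} (h1 : π 1 (τ x) = π 1 x ^ δ)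
    (h2 : π i (τ y) = π i y ^ ε) (j : ℕ) : w x y j ∈ K ∧ w x y j ∈ gam ⊤ (i + j) ∧
      π (i + j) (τ (w x y j)) = π (i + j) (w x y j) ^ (ε * δ ^ j) := by
  induction j with
  | zero => exact ⟨hy, h, by simpa [w] using h2⟩
  | succ j ih =>
    refine ⟨K.mul_mem (K.mul_mem (K.mul_mem ih.1 hx) (K.inv_mem ih.1)) (K.inv_mem hx),
      comm_mem_gam (j := 1) ih.2.1 (mem_top x), ?_⟩
    rw [w, hτ.comm ih.1 hx, pow_succ, ← mul_assoc]
    exact br_congr ih.2.1 ih.2.2 h1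

variable [Finite G]

theorem w_ne (h : MX p n (⊤ : Subgroup G)) (hi : 2 ≤ i) (h1 : y ∈ gam ⊤ i) (h2 : y ∉ gam ⊤ (i + 1)) (j : ℕ)
    (hu : ∀ l, i ≤ l → l < i + j → x ∉ tsc ⊤ l) : w x y j ∈ gam ⊤ (i + j) ∧ w x y j ∉ gam ⊤ (i + j + 1) := by
  induction j with
  | zero => exact ⟨h1, h2⟩
  | succ j ih =>
    obtain ⟨a, b⟩ := ih fun l a b => hu l a (by omega)
    exact ⟨comm_mem_gam (j := 1) a (mem_top x), fun e => b (h.un (j := i + j) (by omega) (mem_top x)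
      (hu _ (by omega) (by omega)) a e)⟩

theorem sign_ne (h : MX p n (⊤ : Subgroup G)) (h2 : p ≠ 2) (hi : 2 ≤ i) (h1 : y ∈ gam ⊤ i)
    (e1 : π i x = π i y ^ (-1 : ℤ)) (e2 : y⁻¹ * x ∈ gam ⊤ (i + 1)) : y ∈ gam ⊤ (i + 1) := by
  refine eq_one_of_zpow h hi h1 ?_ (not_dvd_two h.prime h2)
  rw [← π_eq.2 e2, zpow_neg_one, eq_inv_iff_mul_eq_one] at e1
  rw [zpow_two, e1]

theorem mem_tsc (h : MX p n (⊤ : Subgroup G)) (hi : 2 ≤ i) (h1 : y ∈ gam ⊤ i) (h2 : y ∉ gam ⊤ (i + 1))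
    (e : π (i + 1) ⁅y, s⁆ = 1) : s ∈ tsc ⊤ i := by_contra fun k => h2 (h.un hi (mem_top s) k h1 (π_eq_one.1 e))

theorem inf_tsc (h : MX p n (⊤ : Subgroup G)) (hj : 2 ≤ j) (hn : j + 2 ≤ n) (ne : tsc (⊤ : Subgroup G) j ≠ tsc ⊤ 2)
    (h1 : y ∈ tsc ⊤ 2) (h2 : y ∈ tsc ⊤ j) : y ∈ gam ⊤ 2 := by_contra fun k =>
  ne (h.tsc_eq_of_le le_rfl (by omega) (by omega) hn (by
    rw [← h.exists_tsc (by omega) h1 k]; exact sup_le gam_le_tsc (zpowers_le.2 h2)))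

theorem exists_tsc' (h : MX p n (⊤ : Subgroup G)) (hj : 2 ≤ j) (hn : j + 2 ≤ n) :
    ∃ y ∈ tsc (⊤ : Subgroup G) j, y ∉ gam ⊤ 2 := by
  by_contra! k
  have := relIndex_dvd_left (H := ⊤) (show tsc ⊤ j ≤ gam (⊤ : Subgroup G) 2 from k)
  rw [h.tsc_idx hj hn, gam_two, h.relIndex_der] at this
  have := Nat.le_of_dvd h.prime.pos this
  have := h.prime.one_lt
  nlinarith

theorem last_eq (h : MX p (m + 5) (⊤ : Subgroup G)) (hc : c ∈ gam ⊤ (m + 4)) (h1 : c ≠ 1) :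
    zpowers c = gam ⊤ (m + 4) := by
  have := h.sup_eq (by omega) hc (by rwa [h.gam_eq_bot le_rfl])
  rwa [h.gam_eq_bot le_rfl, bot_sup_eq] at this

theorem finA (h : MX p (m + 5) (⊤ : Subgroup G)) (h2 : p ≠ 2) (hτ : HomOn ⊤ τ)
    (h3 : ∀ y ∈ gam (⊤ : Subgroup G) (m + 2), y⁻¹ * τ y ∈ gam ⊤ (m + 4)) (hc : c ∈ gam ⊤ (m + 4)) (h1 : c ≠ 1)
    (e : τ c = c⁻¹) : False := by
  have bl := h.blackburn h2
  obtain ⟨y, y1, y2⟩ := SetLike.exists_of_lt (h.gam_lt (i := m + 2) (by omega) (by omega))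
  obtain ⟨z, z1, z2⟩ := SetLike.exists_of_lt (h.gam_lt (i := m + 3) (by omega) (by omega))
  have A : ∀ g, g⁻¹ * τ g ∈ tsc ⊤ 2 := fun g => bl (m + 2) (by omega) (by omega) ▸ mem_tsc h (by omega) y1 y2 (by
    have a1 := comm_mem_gam (j := 1) y1 (mem_top g)
    have a2 := π_eq.2 (h3 _ (gam_anti (Nat.le_succ _) a1))
    have a3 := br_congr (m := 1) (m' := 1) (g := τ g) y1 (a' := τ y) (by
      rw [zpow_one, eq_comm, π_eq]; exact gam_anti (Nat.le_succ _) (h3 y y1)) (zpow_one _).symm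
    rw [mul_one, zpow_one, ← hτ.comm (mem_top _) (mem_top _)] at a3
    replace a2 := a2.trans a3
    rw [br_mul_right (j := 1) y1 (mem_top _) le_rfl, ← a2, ← br_mul_right (j := 1) y1 (mem_top _) le_rfl]; simp)
  have B : ∀ g, g * τ g ∈ tsc ⊤ (m + 3) := fun g => mem_tsc h (by omega) z1 z2 (by
    obtain ⟨k, hk⟩ : ⁅z, g⁆ ∈ zpowers c := last_eq h hc h1 ▸ comm_mem_gam (j := 1) z1 (mem_top g)
    have a2 : τ ⁅z, g⁆ = ⁅z, g⁆⁻¹ := by rw [← hk]; simp only; rw [hτ.zpow (mem_top c), e, inv_zpow]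
    have a3 := br_congr (m := 1) (m' := 1) (g := τ g) z1 (a' := τ z) (by
      rw [zpow_one, eq_comm, π_eq]; exact h3 z (gam_anti (Nat.le_succ _) z1)) (zpow_one _).symm
    rw [mul_one, zpow_one, ← hτ.comm (mem_top _) (mem_top _), a2] at a3
    rw [br_mul_right (j := 1) z1 (mem_top _) le_rfl, ← a3, map_inv, mul_inv_cancel])
  have ne : tsc (⊤ : Subgroup G) (m + 3) ≠ tsc ⊤ 2 := fun k => (h.tsc_lt (j := 2) (by omega) (by omega)).not_ge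
    fun g _ => mem_of_pow_mem (h.pi.elt (mem_top g)) h.prime (n := 2)
      (fun e => h2 ((Nat.prime_dvd_prime_iff_eq h.prime Nat.prime_two).1 e))
      (by convert mul_mem (k ▸ B g) (inv_mem (A g)) using 1; rw [sq]; group)
  have I := fun {y : G} => inf_tsc (y := y) h (j := m + 3) (by omega) le_rfl ne
  obtain ⟨x, x1, x2⟩ := exists_tsc' h (j := m + 3) (by omega) le_rfl
  obtain ⟨u, u1, u2⟩ := exists_tsc' h (j := 2) le_rfl (by omega)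
  have x3 : x ∉ tsc ⊤ 2 := fun k => x2 (I k x1)
  have s1 : π 1 (τ x) = π 1 x ^ (1 : ℤ) := by
    rw [zpow_one, eq_comm, π_eq]
    exact I (A x) (by simpa using mul_mem (inv_mem x1) (mul_mem (inv_mem x1) (B x)))
  have s2 : π 1 (τ u) = π 1 u ^ (-1 : ℤ) := by
    rw [zpow_neg_one, eq_comm, ← map_inv, π_eq, inv_inv]
    exact I (by simpa using mul_mem u1 (mul_mem u1 (A u))) (B u)
  have w1 : ⁅u, x⁆ ∉ gam ⊤ 3 := by
    have := h.dl_not_mem (by omega) (mem_top x) x3 (inv_mem u1) (mt inv_mem_iff.1 u2)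
    rwa [dl_eq, inv_inv] at this
  have w0 := comm_mem_gam (i := 1) (j := 1) (mem_top u) (mem_top x)
  obtain ⟨v1, v2⟩ := w_ne (x := x) h le_rfl w0 w1 m fun l a b => bl l a (by omega) ▸ x3
  have v3 := (sgn hτ (mem_top x) (mem_top _) w0 s1 (by
    rw [hτ.comm (mem_top _) (mem_top _)]; exact br_congr (i := 1) (mem_top u) s2 s1) m).2.2
  rw [one_pow, mul_one, mul_one] at v3
  exact v2 (sign_ne h h2 (by omega) v1 v3 (gam_anti (by omega) (h3 _ (add_comm 2 m ▸ v1))))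

theorem finB (h : MX p (m + 5) (⊤ : Subgroup G)) (h2 : p ≠ 2) (hτ : HomOn (tsc ⊤ (m + 3)) τ)
    (hK : ∀ k ∈ tsc (⊤ : Subgroup G) (m + 3), τ k ∈ tsc ⊤ (m + 3))
    (h3 : ∀ y ∈ gam (⊤ : Subgroup G) (m + 2), y⁻¹ * τ y ∈ zpowers c) (hc : c ∉ gam ⊤ (m + 4))
    (h1 : τ c = c⁻¹) (he : e ∈ tsc ⊤ (m + 3)) (ht : t ∈ gam ⊤ (m + 2)) (h4 : ⁅t, e⁆ = c) : False := by
  have bl := h.blackburn h2
  have b2 := bl (m + 2) (by omega) (by omega)
  have z0 := h.gam_eq_bot (i := m + 5) le_rfl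
  have cz : ∀ k ∈ tsc (⊤ : Subgroup G) (m + 3), ∀ z ∈ gam (⊤ : Subgroup G) (m + 3), Commute z k := fun k hk z hz =>
    commutatorElement_eq_one_iff_commute.1 (z0.le (hk.2 z hz))
  have e1 : e ∉ tsc ⊤ 2 := fun k => hc (h4 ▸ (b2 ▸ k : e ∈ tsc ⊤ (m + 2)).2 t ht)
  have ne : tsc (⊤ : Subgroup G) (m + 3) ≠ tsc ⊤ 2 := fun k => e1 (k ▸ he)
  obtain ⟨o1, o2, -⟩ := h.blk_core h2 (m := m + 2) (by omega) le_rfl (fun j a b => bl j a (by omega)) ne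
  have t1 : t ∉ gam ⊤ (m + 3) := fun k => hc (by
    rw [← h4, commutatorElement_eq_one_iff_commute.2 (cz e he t k)]; exact one_mem _)
  have c1 : zpowers c ≤ gam ⊤ (m + 3) := zpowers_le.2 (h4 ▸ comm_mem_gam (j := 1) ht (mem_top e))
  have tK : t ∈ tsc ⊤ (m + 3) := gam_le_tsc (gam_anti (by omega) ht)
  have θ1 : ∀ a ∈ tsc (⊤ : Subgroup G) (m + 3), ∀ b, ⁅t, a * b⁆ = ⁅t, a⁆ * ⁅t, b⁆ := fun a ha b => by
    rw [show ⁅t, a * b⁆ = ⁅t, a⁆ * (a * ⁅t, b⁆ * a⁻¹) by simp only [commutatorElement_def]; group,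
      (cz a ha _ (comm_mem_gam (j := 1) ht (mem_top b))).symm.mul_inv_cancel]
  have θ2 : ∀ a ∈ tsc (⊤ : Subgroup G) (m + 3), τ ⁅t, a⁆ = ⁅t, τ a⁆ := fun a ha => by
    rw [hτ.comm tK ha, show τ t = t * (t⁻¹ * τ t) by group, comm_mul_left',
      commutatorElement_eq_one_iff_commute.2 (cz _ (hK a ha) _ (c1 (h3 t ht)))]; group
  have θ3 : ∀ a ∈ tsc (⊤ : Subgroup G) (m + 3), ⁅t, a⁆ = 1 → a ∈ gam ⊤ 3 := fun a ha k => by_contra fun l => by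
    have a2 := inf_tsc h (by omega) le_rfl ne (b2 ▸ mem_tsc h (by omega) ht t1 (by rw [k, map_one])) ha
    refine o2 (commutator_le.2 fun u hu v hv => π_eq_one.1 ?_)
    obtain ⟨u, u1, i, rfl⟩ := h.dec (by omega) ht t1 hu
    obtain ⟨v, v1, j, rfl⟩ := h.dec le_rfl a2 l hv
    rw [br_mul_left (gam_anti (Nat.le_succ _) u1) (pow_mem ht i) hv le_rfl, br_zero u1 hv (by omega), one_mul,
      br_mul_right (pow_mem ht i) (pow_mem a2 j) le_rfl, br_zero (pow_mem ht i) v1 (by omega), one_mul,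
      commutatorElement_eq_one_iff_commute.2 ((commutatorElement_eq_one_iff_commute.1 k).pow_pow i j), map_one]
  have s1 : e * τ e ∈ gam ⊤ 3 := θ3 _ (mul_mem he (hK e he)) (by rw [θ1 e he, ← θ2 e he, h4, h1, mul_inv_cancel])
  obtain ⟨f, f1, f2⟩ := SetLike.exists_of_lt (h.gam_lt (i := 2) le_rfl (by omega))
  have fK : f ∈ tsc ⊤ (m + 3) := gam_le_tsc f1
  obtain ⟨k, hk⟩ := h3 _ (gam_anti (by omega) (comm_mem_gam ht f1))
  have s2 : (f * e ^ k)⁻¹ * τ f ∈ gam ⊤ 3 := θ3 _ (mul_mem (inv_mem (mul_mem fK (zpow_mem he k))) (hK f fK)) (by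
    let θ : tsc (⊤ : Subgroup G) (m + 3) →* G := MonoidHom.mk' (fun a => ⁅t, (a : G)⁆) fun a b => θ1 a a.2 b
    have a1 : ⁅t, (f * e ^ k)⁻¹⁆ = (⁅t, f⁆ * ⁅t, e⁆ ^ k)⁻¹ := by
      have := map_inv θ (⟨f, fK⟩ * ⟨e, he⟩ ^ k)
      rwa [map_mul, map_zpow] at this
    rw [θ1 _ (inv_mem (mul_mem fK (zpow_mem he k))), ← θ2 f fK, a1, h4, show c ^ k = _ from hk]; group)
  have v0 := comm_mem_gam (j := 1) f1 (mem_top e)
  have v1 : ⁅f, e⁆ ∉ gam ⊤ (3 + 1) := fun k => f2 (h.un le_rfl (mem_top e) e1 f1 k)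
  have s3 : π 3 (τ ⁅f, e⁆) = π 3 ⁅f, e⁆ ^ (-1 : ℤ) := by
    rw [hτ.comm fK he, show τ f = f * (e ^ k * ((f * e ^ k)⁻¹ * τ f)) by group, show τ e = e⁻¹ * (e * τ e) by group,
      br_mul_right (i := 1) (mem_top _) s1 (by omega), br_zero (i := 1) (mem_top _) s1 le_rfl, mul_one,
      comm_mul_left', comm_mul_left', commutatorElement_eq_one_iff_commute.2 ((Commute.refl e).zpow_left k).inv_right,
      ← zpow_neg_one e, mul_one, map_mul, br_zpow_right (j := 1) f1 (mem_top e) le_rfl, π_eq_one.2, one_mul]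
    exact (normal_gam 4).conj_mem _ ((normal_gam 4).conj_mem _ (comm_mem_gam (j := 1) s2 (mem_top _)) _) _
  obtain ⟨r, hr⟩ := o1
  obtain ⟨r, rfl⟩ : ∃ r, m = 2 * r + 1 := ⟨r - 1, by omega⟩
  obtain ⟨a1, a2⟩ := w_ne (x := e) h (i := 3) (by omega) v0 v1 (2 * r) fun l a b => bl l (by omega) (by omega) ▸ e1
  have a3 := (sgn (δ := -1) hτ he (gam_le_tsc (gam_anti (by omega) v0)) v0 (by
    rw [zpow_neg_one, eq_comm, ← map_inv, π_eq, inv_inv]; exact gam_anti (by omega) s1) s3 (2 * r)).2.2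
  rw [(even_two_mul r).neg_one_pow, mul_one] at a3
  exact a2 (sign_ne h h2 (by omega) a1 a3 (gam_anti (by omega) (c1 (h3 _ (gam_anti (by omega) a1)))))

end H3.Mcf
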