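import Cfsg.Agent.H3.Mcf2
import Cfsg.Agent.H3.LM5
import Cfsg.Agent.H20.Ext

/-! Fusion systems on `p`-groups of maximal class, `p` odd, `|S| ≥ p^5`: no essential subgroup is elementary abelian
of order `p³` (`Mcf.no_cube`); essential subgroups are carried by isomorphisms (`Mcf.iso_ess`). -/

set_option autoImplicit false

namespace H3.Mcf

open Subgroup Equiv Cfsg H18 H3 Blk
open H20 (HomOn img Mor AutF AutK Stab Triv cr Iso InjOn')
open scoped commutatorElement H20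

universe u

section
variable {Ω : Type u} [Group Ω] {S : Subgroup Ω} [Finite S] {F : FusionSystem S} {p : ℕ} [hp : Fact p.Prime]
  {E R U W X : Subgroup Ω} {c t : Ω} {σ : Perm Ω}

theorem iso_ess {Ω' : Type*} [Group Ω'] {S' : Subgroup Ω'} {F' : FusionSystem S'} {f : Ω → Ω'} (hS : IsPGroup p S)
    (hF : F.IsSaturated p) (h : Iso F F' f) (hE : F.IsEssential p E) : F'.IsEssential p (img E f) := by
  have := h.finite
  have le := hE.1.1
  by_contra k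
  have e := H20.ExtA_eq_of_not_ess (h.pgroup hS) (h.sat hS hF) ((h.fn_iff le).2 hE.2.1) (fun e =>
    (H20.ess_lt hS hF hE).ne ((h.inj.img_eq_iff le le_rfl).1 (e.trans h.surj.symm))) k
  refine H20.ess_ExtA hS hF hE (le_antisymm H20.ExtA_le ?_)
  rw [← (h.ind_inj le).img_le_iff le_rfl H20.ExtA_le, ← h.AutF_eq le, ← e]
  refine (closure_le _).2 ?_
  rintro α ⟨hα, Q, τ', h1, h2, e⟩
  obtain ⟨Q, hQ, rfl⟩ := h.exists_pre h2.le
  obtain ⟨τ, t1, t2⟩ := h.lift hQ h2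
  rw [h.AutF_eq le] at hα
  obtain ⟨β, hβ, rfl⟩ := (h.ind_inj le).hom.mem_img.1 hα
  have l : E ≤ Q := (h.inj.img_le_iff le hQ).1 h1.le
  refine H20.mem_img_of_mem _ (H20.mem_ExtA hβ (lt_of_le_of_ne l fun e => h1.ne (by rw [e])) t1 fun x hx => ?_)
  rw [← h.inj.eq_iff (t1.maps (l hx)) (le (H20.AutF_apply_mem hβ hx)), ← t2 x (l hx), e _ (H20.mem_img_of_mem f hx),
    H20.ind_rl (h.epi.mph.AutF_le_Indu le hβ) x hx]

theorem locF (hS : IsPGroup p S) (hF : F.IsSaturated p) (h2 : p ≠ 2) (hE : F.IsEssential p E) (e : Elem p E)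
    (ht : t ∈ nIn S E) (hn : t ∉ E) (h1 : TVc E t c) : nIn S E ≤ E ⊔ zpowers t ∧ ∃ σ, Mor F (nIn S E) σ ∧
      σ ∈ Stab (nIn S E) ∧ σ t * t⁻¹ ∈ E ∧ (Commute t (σ t * t⁻¹) → σ t * t⁻¹ ∈ zpowers c) ∧ σ c = c⁻¹ ∧
      ∀ w ∈ E, Commute t w → σ w * w⁻¹ ∈ zpowers c := by
  obtain ⟨G, _, _, f, M, m, l⟩ := exists_le hS hF hE
  have := l.nml
  have l0 := m.le'
  have hf := m.hom
  have c0 := l0 h1.mem
  have zc : img (zpowers c) f = zpowers (f c) := (hf.mono (zpowers_le.2 c0)).img_zpowers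
  have zt : img (E ⊔ zpowers t) f = img E f ⊔ zpowers (f t) := by
    rw [m.inj.img_sup l0 (zpowers_le.2 ht), (hf.mono (zpowers_le.2 ht)).img_zpowers]
  have cm : ∀ {a b}, a ∈ nIn S E → b ∈ nIn S E → Commute a b → Commute (f a) (f b) := fun ha hb k => by
    rw [Commute, SemiconjBy, ← hf.mul ha hb, ← hf.mul hb ha, k.eq]
  have e' := elem_of_equiv (m.equiv l0).symm e
  obtain ⟨k1, g, k2, k3, k4, k5⟩ := loc hp.out h2 l e'.abel e'.pow (H20.mem_img_of_mem f ht)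
    (mt (m.inj.mem_img_iff l0 ht).1 hn) (c := f c) ⟨H20.mem_img_of_mem f h1.mem, cm ht c0 h1.comm, fun y hy => by
      obtain ⟨z, hz, rfl⟩ := (m.mem_img l0).1 hy
      rw [← hf.comm ht (l0 hz), ← zc]; exact H20.mem_img_of_mem f (h1.tv z hz)⟩
  have k6 : cj g (img (nIn S E) f) ≤ img (nIn S E) f := (cj_mono k1).trans (by
    rw [cj_sup, cj_zpowers, cj_eq_self (le_normalizer_of_normal (mem_top g))]
    exact sup_le l.le (zpowers_le.2 (by simpa using mul_mem (l.le k2) (H20.mem_img_of_mem f ht))))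
  obtain ⟨σ, s1, s2⟩ := m.lift _ le_rfl g fun u hu => k6 (conj_mem_cj (H20.mem_img_of_mem f hu))
  have s3 : ∀ u ∈ nIn S E, σ u * u⁻¹ ∈ nIn S E ∧ f (σ u * u⁻¹) = g * f u * g⁻¹ * (f u)⁻¹ := fun u hu =>
    ⟨mul_mem (s2 u hu).1 (inv_mem hu), by rw [hf.mul (s2 u hu).1 (inv_mem hu), hf.inv hu, (s2 u hu).2]⟩
  have s4 : ∀ u ∈ nIn S E, g * f u * g⁻¹ * (f u)⁻¹ ∈ zpowers (f c) → σ u * u⁻¹ ∈ zpowers c := fun u hu k =>
    (m.inj.mem_img_iff (zpowers_le.2 c0) (s3 u hu).1).1 (by rwa [zc, (s3 u hu).2])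
  refine ⟨(m.inj.img_le_iff le_rfl (sup_le l0 (zpowers_le.2 ht))).1 (zt ▸ k1), σ, s1, s1.stab fun u hu => (s2 u hu).1,
    (m.inj.mem_img_iff l0 (s3 t ht).1).1 ((s3 t ht).2 ▸ k2), fun k => s4 t ht (k3 ((s3 t ht).2 ▸ cm ht (s3 t ht).1 k)),
    ?_, fun w hw k => s4 w (l0 hw) (k5 _ (H20.mem_img_of_mem f hw) (cm ht (l0 hw) k))⟩
  rw [← m.inj.eq_iff (s2 c c0).1 (inv_mem c0), (s2 c c0).2, k4, hf.inv c0]

theorem ext_chain (hS : IsPGroup p S) (hF : F.IsSaturated p) (hW : W ≤ S) (hX : X ≤ W) (hU : U ≤ X)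
    (n1 : S ≤ N(W)) (n2 : S ≤ N(X)) (n3 : S ≤ N(U)) (hσ : Mor F W σ) (s1 : σ ∈ Stab W) (s2 : σ ∈ Stab X)
    (s3 : σ ∈ Stab U) (hR : R ≤ S) (r1 : ⁅W, R⁆ ≤ X) (r2 : ⁅X, R⁆ ≤ U) (r3 : R ≤ C(U)) :
    ∃ τ, Mor F (W ⊔ R) τ ∧ ∀ x ∈ W, τ x = σ x := by
  have fn := H20.fn_of_normal (F := F) hW n1
  have nm : ∀ β ∈ AutF F W, β ∈ Stab X → β ∈ Stab U → ∀ a ∈ AutF F W ⊓ H20.Fix U ⊓ Triv X U ⊓ Triv W X,
      β * a * β⁻¹ ∈ AutF F W ⊓ H20.Fix U ⊓ Triv X U ⊓ Triv W X := fun β b1 b2 b3 a ha =>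
    ⟨⟨⟨(AutF F W).mul_mem ((AutF F W).mul_mem b1 ha.1.1.1) ((AutF F W).inv_mem b1), conj_mem_N (H20.Stab_le_normalizer_Fix b3) ha.1.1.2⟩,
      H20.conj_mem_Triv (H20.AutF_hom b1) hX b2 (fun _ _ h => H20.stab_mem b3 h) ha.1.2⟩,
      H20.conj_mem_Triv (H20.AutF_hom b1) le_rfl (H20.AutF_le_Stab b1) (fun _ _ h => H20.stab_mem b2 h) ha.2⟩
  have le := (H20.fn_syl hS hF fn).le_of_normal (inf_le_left.trans (inf_le_left.trans inf_le_left))
    (H20.pgroup_tri hS hW hX hU) (le_normalizer_iff.2 fun β hβ => by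
      obtain ⟨g, g1, g2, rfl⟩ := H20.mem_AutK'.1 hβ
      exact nm _ (H20.cr_mem_AutF F hW g1 g2) ((H20.cr_mem_Stab_iff hX g2).2 (n2 g1))
        ((H20.cr_mem_Stab_iff (hU.trans hX) g2).2 (n3 g1)))
  obtain ⟨τ, t1, t2⟩ := H20.ext_of_norm (H20.fn_rec hS hF fn) (hσ.res_mem s1) (R := R) (fun g hg => ⟨hR hg, n1 (hR hg)⟩)
    fun a ha => by
      obtain ⟨g, g1, g2, e⟩ := H20.mem_AutK'.1 (H20.mem_cjs.1 ha)
      have k : ∀ {A B : Subgroup Ω}, A ≤ W → ⁅A, R⁆ ≤ B → ∀ x ∈ A, x⁻¹ * cr W g x ∈ B := fun h1 h2 x hx => by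
        rw [H20.cr_apply g2 (h1 hx)]
        simpa [commutatorElement_def, mul_assoc] using h2 (commutator_mem_commutator (inv_mem hx) g1)
      have := le (nm _ (hσ.res_mem s1) (H20.res_mem_Stab_of hX s2 s1) (H20.res_mem_Stab_of (hU.trans hX) s3 s1) (cr W g)
        ⟨⟨⟨H20.cr_mem_AutF F hW (hR g1) g2, fun x hx => by
          rw [H20.cr_apply g2 (hX (hU hx)), ← r3 g1 x hx, mul_inv_cancel_right]⟩,
          (H20.cr_mem_Stab_iff hX g2).2 (n2 (hR g1)), k hX r2⟩, H20.cr_mem_Stab _ _, k le_rfl r1⟩)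
      simpa [e, mul_assoc] using this
  exact ⟨τ, t1, fun x hx => (t2 x hx).trans (H20.res_apply s1 hx)⟩

end

variable {G : Type u} [Group G] [Finite G] {F : FusionSystem (⊤ : Subgroup G)} {p m : ℕ} [hp : Fact p.Prime]
  {E : Subgroup G} {c t : G} {σ : Perm G}

theorem fin (h : MX p (m + 5) (⊤ : Subgroup G)) (h2 : p ≠ 2) (hF : F.IsSaturated p)
    (hσ : Mor F (gam ⊤ (m + 2)) σ) (hs : σ ∈ Triv (gam ⊤ (m + 2)) (zpowers c)) (hc : c ∈ gam ⊤ (m + 3)) (h1 : c ≠ 1)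
    (e : σ c = c⁻¹) (ht : t ∈ gam ⊤ (m + 2)) (h3 : c ∉ gam ⊤ (m + 4) → ∃ e ∈ tsc ⊤ (m + 3), ⁅t, e⁆ = c) : False := by
  have hS := h.pi.isPGroup
  have z0 := h.gam_eq_bot (i := m + 5) le_rfl
  have l1 : gam (⊤ : Subgroup G) (m + 3) ≤ gam ⊤ (m + 2) := gam_anti (by omega)
  have s2 : σ ∈ Stab (gam ⊤ (m + 3)) := H20.triv_stab hs (inf_le_right.trans (zpowers_le.2 hc)) l1
  by_cases k : c ∈ gam ⊤ (m + 4)
  · obtain ⟨τ, t1, t2⟩ := ext_chain (R := ⊤) hS hF le_top l1 (gam_anti (Nat.le_succ _)) (gam_nml _).norm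
      (gam_nml _).norm (gam_nml _).norm hσ hs.1 s2 (H20.triv_stab hs (inf_le_right.trans (zpowers_le.2 k))
        (gam_anti (by omega))) le_rfl (comm_gam_le _ 1) (comm_gam_le _ 1) fun g _ x hx =>
          commutatorElement_eq_one_iff_mul_comm.1 (z0.le (comm_mem_gam (j := 1) hx (mem_top g)))
    exact finA h h2 (t1.hom.mono le_sup_right) (fun y hy => t2 y hy ▸ zpowers_le.2 k (hs.2 y hy)) k h1
      ((t2 c (l1 hc)).trans e)
  obtain ⟨e', e1, e2⟩ := h3 k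
  have cz : tsc (⊤ : Subgroup G) (m + 3) ≤ C(gam ⊤ (m + 3)) := fun g hg x hx =>
    commutatorElement_eq_one_iff_mul_comm.1 (z0.le (hg.2 x hx))
  obtain ⟨τ, t1, t2⟩ := ext_chain (R := tsc ⊤ (m + 3)) hS hF le_top l1 le_rfl (gam_nml _).norm
    (gam_nml _).norm (gam_nml _).norm hσ hs.1 s2 s2 le_top ((comm_mono le_rfl le_top).trans (comm_gam_le _ 1))
    ((comm_mono le_rfl le_top).trans ((comm_gam_le _ 1).trans (gam_anti (Nat.le_succ _)))) cz
  refine finB h h2 (t1.hom.mono le_sup_right) (fun g hg => ⟨mem_top _, fun z hz => ?_⟩)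
    (fun y hy => t2 y hy ▸ hs.2 y hy) k ((t2 c (l1 hc)).trans e) e1 ht e2
  have z1 := H20.stab_inv_mem s2 hz
  rw [← H20.pm_apply_inv σ z, ← t2 _ (l1 z1), ← t1.hom.comm (mem_sup_left (l1 z1)) (mem_sup_right hg),
    commutatorElement_eq_one_iff_mul_comm.2 (cz hg _ z1), t1.hom.one]
  exact one_mem _

omit hp [Finite G] in
theorem TVc.pow_mem (h : TVc E t c) (e : Elem p E) (hc : C(E) ≤ E) : t ^ p ∈ E := hc fun x hx => by
  have := h.pow hx p
  rw [e.pow _ (zpowers_le.2 h.mem (h.tv x hx)), one_mul] at this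
  exact (mul_inv_eq_iff_eq_mul.1 this).symm

theorem card_N (h : MX p (m + 5) (⊤ : Subgroup G)) (hc : C(E) ≤ E) (e : Elem p E) (h3 : Nat.card E = p ^ 3)
    (ht : t ∈ N(E)) (hn : t ∉ E) (h1 : TVc E t c) (k : N(E) ≤ E ⊔ zpowers t) :
    Nat.card N(E) = p ^ 3 * p ∧ Nat.card N(E) < Nat.card (⊤ : Subgroup G) := by
  have a : Nat.card N(E) = p ^ 3 * p := by
    rw [le_antisymm k (sup_le le_N (zpowers_le.2 ht)), ← card_mul_relIndex le_sup_left, h3,
      relIndex_sup_zpowers_of_pow hp.out ht (h1.pow_mem e hc) hn]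
  exact ⟨a, by rw [a, h.card, ← pow_succ]; exact Nat.pow_lt_pow_right hp.out.one_lt (by omega)⟩

theorem step (h : MX p (m + 5) (⊤ : Subgroup G)) (h2 : p ≠ 2) (hF : F.IsSaturated p) (hE : F.IsEssential p E)
    (e : Elem p E) (h3 : Nat.card E = p ^ 3) (ht : t ∈ gam ⊤ (m + 2)) (hn : t ∉ E) (h1 : TVc E t c)
    (hZ : gam ⊤ (m + 2) ≤ N(E)) (hW : E ⊓ C(zpowers t) ≤ gam ⊤ (m + 2)) (hc : c ∈ gam ⊤ (m + 3)) (c1 : c ≠ 1)
    (h4 : c ∉ gam ⊤ (m + 4) → ∃ e ∈ tsc ⊤ (m + 3), ⁅t, e⁆ = c) : False := by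
  have hS := h.pi.isPGroup
  have cen : C(E) ≤ E := fun x hx => H20.centric_self hE.1 ⟨mem_top _, hx⟩
  have eN : nIn ⊤ E = N(E) := top_inf_eq _
  obtain ⟨k1, σ, s1, s2, s3, s4, s5, s6⟩ := locF hS hF h2 hE e ⟨mem_top t, hZ ht⟩ hn h1
  rw [eN] at k1 s1 s2
  obtain ⟨r1, r2⟩ := card_N h cen e h3 (hZ ht) hn h1 k1
  have z3 := h.card_gam (i := m + 2) (j := 3) (by omega) rfl
  set Z := gam (⊤ : Subgroup G) (m + 2)
  set W := E ⊓ C(zpowers t) with hW'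
  have mW : ∀ w, w ∈ W ↔ w ∈ E ∧ Commute t w := fun w => by
    rw [hW', mem_inf, C_zpowers, mem_centralizer_singleton_iff]; exact and_congr_right fun _ => ⟨Eq.symm, Eq.symm⟩
  have cW : zpowers c ≤ W := zpowers_le.2 ((mW c).2 ⟨h1.mem, h1.comm⟩)
  have g1 : ∀ a ∈ E, ¬ Commute t a → E ≤ W ⊔ zpowers a := fun a ha k b hb => by
    obtain ⟨i, hi⟩ := h1.exists hp.out e.abel e.pow ha k hb
    simpa using mul_mem (mem_sup_right (inv_mem (pow_mem (mem_zpowers a) i)))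
      (mem_sup_left ((mW _).2 ⟨mul_mem (pow_mem ha i) hb, hi⟩))
  have g2 : ∀ a ∈ Z, a ∈ E → a ∈ W := fun a h1 h2 => (mW a).2 ⟨h2, by_contra fun k => hn
    ((eq_of_card_eq ((g1 a h2 k).trans (sup_le hW (zpowers_le.2 h1))) (h3.trans z3.symm)).ge ht)⟩
  have g3 : W ⊔ zpowers t = Z := le_antisymm (sup_le hW (zpowers_le.2 ht)) fun z hz => by
    obtain ⟨a, ha, b, hb, rfl⟩ := (mem_sup_of_norm' (zpowers_le.2 (hZ ht))).1 (k1 (hZ hz))
    exact mul_mem_sup (g2 a (by simpa using mul_mem hz (inv_mem (zpowers_le.2 ht hb))) ha) hb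
  have g4 : N(E) ≤ C(W) := k1.trans (sup_le (e.abel.trans (C_anti inf_le_left)) (cent_symm inf_le_right))
  have sW : ∀ w ∈ W, w⁻¹ * σ w ∈ zpowers c := fun w hw => by
    simpa [mul_assoc] using conj_mem_N' (C_le_N (C_anti cW (g4 (le_N hw.1)))) (s6 w hw.1 ((mW w).1 hw).2)
  have sW' : ∀ w ∈ W, σ w ∈ W := fun w hw => by simpa using mul_mem hw (cW (sW w hw))
  have hσ := s1.mono hZ
  by_cases k : Commute t (σ t * t⁻¹)
  · have a1 : σ t ∈ Z := by simpa using mul_mem (hW (cW (s4 k))) ht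
    have a2 : σ ∈ Stab Z := hσ.stab (g3 ▸ (g3.symm ▸ hσ.hom : HomOn (W ⊔ zpowers t) σ).mem_of_sup
      (fun w hw => g3.ge (hW (sW' w hw))) (by
        rintro _ ⟨i, rfl⟩; exact g3.ge (hσ.hom.zpow ht i ▸ zpow_mem a1 i)))
    refine fin h h2 hF hσ (?_ : σ ∈ Triv Z (zpowers c)) hc c1 s5 ht h4
    rw [← g3]
    refine H20.mem_Triv_sup (g3.symm ▸ hσ.hom) (g3.symm ▸ a2)
      (g3.le.trans (hZ.trans (g4.trans ((C_anti cW).trans C_le_N)))) sW ?_
    rintro _ ⟨i, rfl⟩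
    obtain ⟨j, hj⟩ := s4 k
    simp only at hj ⊢
    rw [hσ.hom.zpow ht, ← eq_mul_inv_iff_mul_eq.1 hj, (h1.comm.symm.zpow_left j).mul_zpow,
      (((h1.comm.symm.zpow_left j).zpow_left i).zpow_right i).eq, inv_mul_cancel_left]
    exact zpow_mem (zpow_mem (mem_zpowers c) j) i
  generalize he : σ t * t⁻¹ = a at k s3
  obtain ⟨x, -, x1, x2⟩ := H20.exists_normalizer_gt hS (le_top (a := N(E))) fun l => r2.not_ge (card_le l)
  have n0 : N(N(E)) ≤ N(W) := by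
    rw [show W = Z(N(E)) from le_antisymm (le_inf (inf_le_left.trans le_N) (cent_symm g4))
      (le_inf (inf_le_right.trans ((C_anti le_N).trans cen)) (inf_le_right.trans (C_anti (zpowers_le.2 (hZ ht)))))]
    exact norm_Z le_rfl
  have i1 : W.relIndex Z = p := g3 ▸ relIndex_sup_zpowers_of_pow hp.out (n0 (le_N (hZ ht)))
    (g2 _ (pow_mem ht p) (h1.pow_mem e cen)) fun l => hn l.1
  have P := fun A : Subgroup G => h.pi.of_le (le_top (a := A))
  have b1 := comm_le_of_card' (P _) (P _) le_rfl le_normalizer_of_normal le_normalizer_of_normal hZ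
    (by rw [r1, z3])
  have b2 := comm_le_of_card' (P _) (P _) le_normalizer_of_normal n0 (hZ.trans (le_N.trans n0)) hW
    (by rw [← card_mul_relIndex hW, i1])
  have b3 : ⁅x, a⁆ ∈ Z := comm_comm.le.trans b1 (commutator_mem_commutator x2 (le_N s3))
  have b4 : ⁅x, a⁆ ∉ W := fun l => x1 (mem_N_iff_cj.2 (eq_of_card_ge ((cj_mono (g1 a s3 k)).trans (by
    rw [cj_sup, cj_zpowers, cj_eq_self (n0 x2)]
    exact sup_le inf_le_left (zpowers_le.2 (by simpa [commutatorElement_def] using mul_mem l.1 s3)))) card_cj.ge))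
  obtain ⟨w, hw, _, hb, e1⟩ := (mem_sup_of_norm' ((zpowers_le.2 (le_N (hZ b3))).trans n0)).1
    ((sup_zpowers_eq_of_prime (i1 ▸ hp.out) hW b3 b4).ge ht)
  obtain ⟨i, rfl⟩ := (mem_powers_iff_mem_zpowers.2 hb :)
  have na := n0 (le_N (le_N s3))
  have nx := n0 x2
  have nt := n0 (le_N (hZ ht))
  have nb := n0 (le_N (hZ b3))
  have b5 : (x ^ i * a * (x ^ i)⁻¹)⁻¹ * (a * t) ∈ W := by
    have c2 : Commute (cs W x) ⁅cs W x, cs W a⁆ := by
      rw [← commutatorElement_eq_one_iff_commute, ← mfun_comm nx na, ← mfun_comm nx nb]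
      exact cs_eq_one (comm_comm.le.trans b2 (commutator_mem_commutator x2 b3))
    have c3 : Commute (cs W t) (cs W a) := by
      rw [← commutatorElement_eq_one_iff_commute, ← mfun_comm nt na]; exact cs_eq_one (cW (h1.tv a s3))
    have c4 : cs W t = ⁅cs W x, cs W a⁆ ^ i := by
      rw [e1, mfun_mul (le_N hw) (pow_mem nb i), cs_eq_one hw, one_mul, mfun_pow nb, mfun_comm nx na]
    rw [← cs_eq_iff (conj_mem_N (le_N (pow_mem nx i)) na) (mul_mem na nt), mfun_conj (pow_mem nx i) na,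
      mfun_mul na nt, ← c3.eq, c4, ← comm_pow_left c2, mfun_pow nx, commutatorElement_def, inv_mul_cancel_right]
  have wx : W ≤ cj (x ^ i) E := (cj_eq_self (pow_mem nx i)).ge.trans (cj_mono inf_le_left)
  have b6 : ∀ z ∈ Z, σ z ∈ cj (x ^ i) E := g3 ▸ (g3.symm ▸ hσ.hom : HomOn (W ⊔ zpowers t) σ).mem_of_sup
    (fun w hw => wx (sW' w hw)) (by
      rintro _ ⟨j, rfl⟩
      simp only
      rw [hσ.hom.zpow ht, ← eq_mul_inv_iff_mul_eq.1 he.symm]
      exact zpow_mem (by simpa only [mul_inv_cancel_left] using mul_mem (conj_mem_cj s3) (wx b5)) j)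
  have m1 := hσ.comp (H20.mor_cj F le_rfl (mem_top (x ^ i)⁻¹)) fun _ _ => mem_top _
  have m2 := m1.img_eq_of_card (X := E) le_top (H20.img_le_iff.2 fun z hz => by
    rw [Perm.mul_apply, H20.cj_apply, inv_inv]; exact mem_cj.1 (b6 z hz)) (h3.trans z3.symm).le
  have := hE.2.1.2 Z (H20.isConj_symm (m2 ▸ m1.isConj))
  rw [eN, H20.nIn_eq_of le_normalizer_of_normal] at this
  exact r2.not_ge this

theorem no_cube (h : MX p (m + 5) (⊤ : Subgroup G)) (h2 : p ≠ 2) (hF : F.IsSaturated p) (hE : F.IsEssential p E)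
    (e : Elem p E) (h3 : Nat.card E = p ^ 3) : False := by
  have hS := h.pi.isPGroup
  have p1 := hp.out.one_lt
  have cen : C(E) ≤ E := fun x hx => H20.centric_self hE.1 ⟨mem_top _, hx⟩
  have z0 := h.gam_eq_bot (i := m + 5) le_rfl
  have z1 : gam ⊤ (m + 4) ≤ E := fun x hx => cen fun g _ =>
    (commutatorElement_eq_one_iff_mul_comm.1 (z0.le (comm_mem_gam (j := 1) hx (mem_top g)))).symm
  have z2 := h.card_gam (i := m + 3) (j := 2) (by omega) rfl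
  have z3 := h.card_gam (i := m + 2) (j := 3) (by omega) rfl
  have cz : ∀ g, g ∈ tsc (⊤ : Subgroup G) (m + 3) ↔ g ∈ C(gam ⊤ (m + 3)) := fun g => ⟨fun hg x hx =>
    commutatorElement_eq_one_iff_mul_comm.1 (z0.le (hg.2 x hx)), fun hg => ⟨mem_top _, fun x hx =>
      commutatorElement_eq_one_iff_mul_comm.2 (hg x hx) ▸ one_mem _⟩⟩
  have nm : ∀ {g : G}, (∀ v ∈ E, ⁅g, v⁆ ∈ E) → g ∈ N(E) := fun h =>
    H20.mem_normalizer_of_conj fun v hv => by simpa [commutatorElement_def] using mul_mem (h v hv) hv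
  by_cases k : gam ⊤ (m + 3) ≤ E
  · have i1 : (gam ⊤ (m + 3)).relIndex E = p := relIndex_eq_of_mul k (by rw [h3, z2, pow_succ])
    obtain ⟨a, a1, a2, a3⟩ := exists_sup_zpowers_of_prime (i1 ▸ hp.out) k
    have T : ∀ t ∈ tsc (⊤ : Subgroup G) (m + 3), t ∉ E → ⁅t, a⁆ ∈ gam ⊤ (m + 3) →
        TVc E t ⁅t, a⁆ ∧ ⁅t, a⁆ ≠ 1 ∧ E ⊓ C(zpowers t) ≤ gam ⊤ (m + 3) := fun t t1 t2 t3 => by
      have c1 : Commute t ⁅t, a⁆ := ((cz t).1 t1 _ t3).symm
      have c2 : Commute a ⁅t, a⁆ := e.abel (k t3) a a1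
      have c3 : ∀ b ∈ E, Commute t b → b ∈ gam ⊤ (m + 3) := fun b hb l => by_contra fun l' => t2 (cen (by
        rw [← sup_zpowers_eq_of_prime (i1 ▸ hp.out) k hb l', C_sup, C_zpowers]
        exact ⟨(cz t).1 t1, mem_centralizer_singleton_iff.2 l⟩))
      refine ⟨⟨k t3, c1, fun b hb => ?_⟩, fun l => a2 (c3 a a1 (commutatorElement_eq_one_iff_commute.1 l)),
        fun b hb => c3 b hb.1 (hb.2 t (mem_zpowers t))⟩
      obtain ⟨z, hz, _, hy, rfl⟩ := (mem_sup_of_norm' le_normalizer_of_normal).1 (a3.ge hb)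
      obtain ⟨i, rfl⟩ := (mem_powers_iff_mem_zpowers.2 hy :)
      rw [show ⁅t, z * a ^ i⁆ = ⁅t, z⁆ * (z * ⁅t, a ^ i⁆ * z⁻¹) by simp only [commutatorElement_def]; group,
        commutatorElement_eq_one_iff_mul_comm.2 ((cz t).1 t1 z hz).symm, one_mul, comm_pow_right c2,
        (show Commute z _ from e.abel (pow_mem (k t3) i) z (k hz)).mul_inv_cancel]
      exact pow_mem (mem_zpowers _) i
    by_cases l : gam ⊤ (m + 2) ≤ E
    · obtain rfl := eq_of_card_eq l (z3.trans h3.symm)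
      obtain ⟨t, t1, t2⟩ : ∃ t ∈ tsc (⊤ : Subgroup G) (m + 3), t ∉ gam ⊤ (m + 2) := by
        obtain ⟨t, t1, t2⟩ := exists_tsc' h (j := m + 3) (by omega) le_rfl
        exact ⟨t, t1, fun l => t2 (gam_anti (by omega) l)⟩
      have t3 := (T t t1 t2 (by
        rw [← commutatorElement_inv]; exact inv_mem (comm_mem_gam (j := 1) a1 (mem_top t)))).1
      have tn : t ∈ N(gam (⊤ : Subgroup G) (m + 2)) := le_normalizer_of_normal (mem_top t)
      have := (card_N h cen e h3 tn t2 t3 ((top_inf_eq _).ge.trans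
        (locF hS hF h2 hE e ⟨mem_top t, tn⟩ t2 t3).1)).2
      rw [normalizer_eq_top] at this
      exact this.ne rfl
    obtain ⟨t, t1, t2⟩ := SetLike.not_le_iff_exists.1 l
    have t3 := comm_mem_gam (j := 1) t1 (mem_top a)
    obtain ⟨t4, t5, t6⟩ := T t (gam_le_tsc (gam_anti (by omega) t1)) t2 t3
    exact step h h2 hF hE e h3 t1 t2 t4 (fun g hg => nm fun v _ => k (comm_mem_gam (j := 1) hg (mem_top v)))
      (t6.trans (gam_anti (by omega))) t3 t5 fun _ => ⟨a, (cz a).2 (C_anti k (e.abel a1)), rfl⟩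
  obtain ⟨t, t1, t2⟩ := SetLike.not_le_iff_exists.1 k
  obtain ⟨c, c1, c2⟩ := SetLike.exists_of_lt (h.gam_lt (i := m + 4) (by omega) (by omega))
  have c3 : c ≠ 1 := fun l => c2 (l ▸ one_mem _)
  have t3 : TVc E t c := ⟨z1 c1, (commutatorElement_eq_one_iff_commute.1 (z0.le (comm_mem_gam (j := 1) c1
    (mem_top t)))).symm, fun v _ => (last_eq h c1 c3).ge (comm_mem_gam (j := 1) t1 (mem_top v))⟩
  have bl := h.blackburn h2
  have ct : ∀ g, Commute t g → g ∈ tsc ⊤ (m + 3) := fun g l => mem_tsc h (by omega) t1 (fun l => t2 (z1 l))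
    (by rw [commutatorElement_eq_one_iff_commute.2 l, map_one])
  have e1 : ¬ E ≤ tsc ⊤ (m + 3) := fun l => k ((cent_symm fun g hg => (cz g).1 (l hg)).trans cen)
  have lt : E < ⊤ := H20.ess_lt hS hF hE
  have e2 : ∀ a ∈ E, a ∉ tsc ⊤ (m + 3) → a ∈ tsc ⊤ 2 := fun a a1 a2 => by_contra fun a3 => by
    have u : ∀ j, j ≤ m + 2 → E ⊓ gam ⊤ 2 ≤ gam ⊤ (j + 2) := fun j => by
      induction j with
      | zero => exact fun _ => inf_le_right
      | succ j ih =>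
        intro hj y hy
        refine h.un (j := j + 2) (by omega) (mem_top a) (fun l => ?_) (ih (by omega) hy)
          (commutatorElement_eq_one_iff_mul_comm.2 (e.abel a1 y hy.1) ▸ one_mem _)
        by_cases o : j = m + 1
        · exact a2 (by subst o; exact l)
        · exact a3 (bl (j + 2) (by omega) (by omega) ▸ l)
    have := (h.card_le_inf lt).trans (Nat.mul_le_mul_left p (card_le (u _ le_rfl)))
    rw [h3, h.card_gam (i := m + 2 + 2) (j := 1) (by omega) rfl, ← pow_succ', Nat.pow_le_pow_iff_right p1] at this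
    omega
  obtain ⟨a, a1, a2⟩ := SetLike.not_le_iff_exists.1 e1
  have e3 : E ≤ tsc ⊤ 2 := fun b hb => by
    by_cases l : b ∈ tsc ⊤ (m + 3)
    · simpa using mul_mem (inv_mem (e2 a a1 a2)) (e2 _ (mul_mem a1 hb) fun l' => a2 (by
        simpa using mul_mem l' (inv_mem l)))
    · exact e2 b hb l
  have hZ : gam ⊤ (m + 2) ≤ N(E) := fun g hg => nm fun v hv =>
    z1 ((bl (m + 2) (by omega) (by omega) ▸ e3 hv : v ∈ tsc ⊤ (m + 2)).2 g hg)
  have r1 := (card_N h cen e h3 (hZ (gam_anti (by omega) t1)) t2 t3 ((top_inf_eq _).ge.trans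
    (locF hS hF h2 hE e ⟨mem_top t, hZ (gam_anti (by omega) t1)⟩ t2 t3).1)).1
  have r2 : gam ⊤ (m + 2) = N(E) ⊓ gam ⊤ 2 := eq_of_card_ge (le_inf hZ (gam_anti (by omega)))
    (Nat.le_of_mul_le_mul_right ((card_mul_le_of_lt (h.pi.of_le le_top) (lt_of_le_of_ne inf_le_left fun l =>
      a2 (gam_le_tsc (l.ge (le_N a1)).2))).trans (by rw [r1, z3])) hp.out.pos)
  exact step h h2 hF hE e h3 (gam_anti (by omega) t1) t2 t3 hZ (fun w hw => r2.ge ⟨le_N hw.1, inf_tsc h (by omega)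
    le_rfl (fun l => a2 (l ▸ e3 a1)) (e3 hw.1) (ct w (hw.2 t (mem_zpowers t)))⟩) (gam_anti (by omega) c1) c3
      fun l => (l c1).elim

end H3.Mcf
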