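import Cfsg.Agent.S2553
import Cfsg.Agent.H2.Syl
import Cfsg.Agent.H1.Basic

/-! Overgroups of `SL₂(q)` on its natural module: `NS L e f φ τ` (abstract natural module), semilinearity of the
normalizer (`NS.semi`), and `NS.main`: if `N(L)` contains a Sylow `p`-subgroup of `G` then `L ⊴ G` or `q = 4` and
`G ≅ A₇`. -/

set_option autoImplicit false
set_option linter.unusedSectionVars false
open Subgroup H2
open scoped Pointwise

namespace H3

theorem no_aut_eq {F : Type*} [Field F] (σ τ : F →+* F) (hσ : ∃ x, σ x ≠ x) (hτ : ∃ x, τ x ≠ x)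
    (h : ∀ c, σ (τ c - c) = τ c - c) (h' : ∀ c, τ (τ c - c) = τ c - c) : (2 : F) = 0 ∧ ∀ x, σ x = τ x := by
  have key : ∀ ρ : F →+* F, (∀ c, ρ (τ c - c) = τ c - c) → ∀ x y,
      (ρ x - x) * (τ y - y) + (ρ y - y) * (τ x - x) = 0 := fun ρ h x y => by
    have e := h (x * y)
    rw [show τ (x * y) - x * y = (τ x - x) * (τ y - y) + x * (τ y - y) + y * (τ x - x) by rw [map_mul]; ring,
      map_add, map_add, map_mul, map_mul, map_mul, h, h] at e
    linear_combination e
  obtain ⟨y, hy⟩ := hτ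
  have hy := sub_ne_zero.2 hy
  have h2 : (2 : F) = 0 := by
    have := key τ h' y y
    exact (mul_eq_zero.1 (by linear_combination this : (2 : F) * ((τ y - y) * (τ y - y)) = 0)).resolve_right
      (mul_ne_zero hy hy)
  refine ⟨h2, ?_⟩
  obtain ⟨c, hc⟩ : ∃ c, ∀ x, σ x - x = c * (τ x - x) := ⟨(σ y - y) / (τ y - y), fun x => by
    have := key σ h x y
    field_simp
    linear_combination this - (σ y - y) * (τ x - x) * h2⟩
  obtain ⟨z, hz⟩ := hσ
  have c0 : c ≠ 0 := by rintro rfl; exact hz (by linear_combination hc z)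
  have e := hc (y * y)
  have e1 := hc y
  rw [map_mul, map_mul] at e
  have c1 : c = 1 := by
    have : c * (c - 1) * ((τ y - y) * (τ y - y)) = 0 := by
      linear_combination e - (σ y - y + c * (τ y - y)) * e1 + (σ y * y - y * y - c * τ y * y + c * y * y -
        σ y * y + y * y + c * τ y * y - c * y * y + y * (σ y - y) - c * y * (τ y - y) - y * (σ y - y)
          + c * y * (τ y - y)) * h2 - 2 * y * e1
    rcases mul_eq_zero.1 this with h | h
    · exact sub_eq_zero.1 ((mul_eq_zero.1 h).resolve_left c0)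
    · exact absurd h (mul_ne_zero hy hy)
  intro x
  linear_combination hc x + (τ x - x) * c1

variable {G U F : Type*} [Group G] [Finite G] [Field F] [Fintype F] [AddCommGroup U] [Module F U]
  [DistribMulAction G U]

/-- `L` acts on `U = F e ⊕ F f` as `SL₂(F)`, with root elements `τ a` -/
structure NS (L : Subgroup G) (e f : U) (φ : U →ₗ[F] F) (τ : F → G) : Prop where
  faith : ∀ g : G, (∀ v : U, g • v = v) → g = 1
  card : Nat.card U = Fintype.card F ^ 2
  e0 : e ≠ 0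
  φe : φ e = 0
  φf : φ f = 1
  ker : ∀ v, φ v = 0 → ∃ c : F, v = c • e
  lin : ∀ l ∈ L, ∀ (c : F) (v : U), l • c • v = c • l • v
  τL : ∀ a, τ a ∈ L
  τv : ∀ a v, τ a • v = v + (a * φ v) • e
  tr : ∀ v : U, v ≠ 0 → ∃ l ∈ L, l • e = v
  gen : ∀ H : Subgroup G, (∀ l ∈ L, ∀ a, l * τ a * l⁻¹ ∈ H) → L ≤ H

variable (G) in
/-- stabilizer of the kernel of `φ` -/
def nsSt (φ : U →ₗ[F] F) : Subgroup G where
  carrier := {g | ∀ v, φ (g • v) = 0 ↔ φ v = 0}
  one_mem' v := by rw [one_smul]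
  mul_mem' {a b} ha hb v := by rw [mul_smul, ha, hb]
  inv_mem' {a} ha v := by rw [← ha, smul_inv_smul]

variable (G) in
/-- elements trivial on `ker φ` and on the quotient -/
def nsK (φ : U →ₗ[F] F) : Subgroup G where
  carrier := {g | (∀ v, φ v = 0 → g • v = v) ∧ ∀ v, φ (g • v) = φ v}
  one_mem' := ⟨fun v _ => one_smul _ v, fun v => by rw [one_smul]⟩
  mul_mem' {a b} ha hb := ⟨fun v h => by rw [mul_smul, hb.1 v h, ha.1 v h], fun v => by rw [mul_smul, ha.2, hb.2]⟩
  inv_mem' {a} ha := ⟨fun v h => inv_smul_eq_iff.2 (ha.1 v h).symm, fun v => by rw [← ha.2, smul_inv_smul]⟩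

variable {φ : U →ₗ[F] F}

theorem mem_nsSt_of {g : G} (h : ∀ v, φ v = 0 → φ (g • v) = 0) : g ∈ nsSt G φ := by
  have hp : ∀ n : ℕ, ∀ v, φ v = 0 → φ (g ^ n • v) = 0 := fun n => by
    induction n with
    | zero => intro v hv; rwa [pow_zero, one_smul]
    | succ n ih => intro v hv; rw [pow_succ', mul_smul]; exact h _ (ih v hv)
  refine fun v => ⟨fun hv => ?_, h v⟩
  have := hp (orderOf g - 1) _ hv
  rwa [← mul_smul, ← pow_succ, Nat.sub_add_cancel (orderOf_pos g), pow_orderOf_eq_one, one_smul] at this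

theorem nsK_conj {n k : G} (hn : n ∈ nsSt G φ) (hk : k ∈ nsK G φ) : n * k * n⁻¹ ∈ nsK G φ := by
  refine ⟨fun v hv => ?_, fun v => ?_⟩
  · rw [mul_smul, mul_smul, hk.1 _ ((inv_mem hn v).2 hv), smul_inv_smul]
  · rw [← sub_eq_zero, ← map_sub, mul_smul, mul_smul]
    nth_rewrite 2 [← smul_inv_smul n v]
    rw [← smul_sub, hn, map_sub, hk.2, sub_self]

theorem nsK_le : nsK G φ ≤ nsSt G φ := fun _ hk v => by rw [hk.2]

theorem nsSt_le : nsSt G φ ≤ normalizer (nsK G φ : Set G) := fun n hn => mem_normalizer_iff.2 fun k =>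
  ⟨nsK_conj hn, fun h => by simpa [mul_assoc] using nsK_conj (inv_mem hn) h⟩

namespace NS
variable {L S : Subgroup G} {e f : U} {τ : F → G} {p : ℕ} [hp : Fact p.Prime] [CharP F p]
  (h : NS L e f φ τ)
include h

theorem finite : Finite U := Nat.finite_of_card_ne_zero (by rw [h.card]; exact pow_ne_zero _ Fintype.card_ne_zero)

theorem τK (a : F) : τ a ∈ nsK G φ :=
  ⟨fun v hv => by rw [h.τv, hv, mul_zero, zero_smul, add_zero], fun v => by simp [h.τv, h.φe]⟩

theorem τ_fix {a : F} (ha : a ≠ 0) {v : U} (hv : τ a • v = v) : φ v = 0 := by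
  rw [h.τv, add_eq_left, smul_eq_zero] at hv
  exact (mul_eq_zero.1 (hv.resolve_right h.e0)).resolve_left ha

theorem ext {g k : G} (e : ∀ v : U, g • v = k • v) : g = k :=
  (inv_mul_eq_one.1 (h.faith _ fun v => by rw [mul_smul, e, inv_smul_smul])).symm

theorem ker' {w : U} (w0 : w ≠ 0) (hw : φ w = 0) (v : U) (hv : φ v = 0) : ∃ c : F, v = c • w := by
  obtain ⟨a, rfl⟩ := h.ker w hw
  obtain ⟨b, rfl⟩ := h.ker v hv
  have : a ≠ 0 := by rintro rfl; exact w0 (zero_smul _ _)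
  exact ⟨b / a, by rw [smul_smul, div_mul_cancel₀ _ this]⟩

theorem scal (ψ : U → U) (h0 : ψ 0 = 0) (hψ : ∀ l ∈ L, ∀ v, ψ (l • v) = l • ψ v) : ∃ c : F, ∀ v, ψ v = c • v := by
  obtain ⟨c, hc⟩ := h.ker (ψ e) (h.τ_fix one_ne_zero (by rw [← hψ _ (h.τL 1), (h.τK 1).1 e h.φe]))
  refine ⟨c, fun v => ?_⟩
  by_cases hv : v = 0
  · rw [hv, h0, smul_zero]
  obtain ⟨l, hl, rfl⟩ := h.tr v hv
  rw [hψ l hl, hc, h.lin l hl]

theorem semi {n : G} (hn : n ∈ normalizer (L : Set G)) :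
    ∃ σ : F →+* F, ∀ (c : F) (v : U), n • c • v = σ c • n • v := by
  have : ∀ c : F, ∃ d : F, ∀ v : U, n • c • v = d • n • v := fun c => by
    obtain ⟨d, hd⟩ := h.scal (fun v => n • c • n⁻¹ • v) (by simp) fun l hl v => by
      have : n⁻¹ * l * n ∈ L := by
        rw [mem_normalizer_iff.1 hn]; simpa [mul_assoc] using hl
      have e := h.lin _ this c (n⁻¹ • v)
      simp only [mul_smul, smul_inv_smul] at e
      simp only [← e, smul_inv_smul]
    exact ⟨d, fun v => by simpa using hd (n • v)⟩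
  choose σ hσ using this
  have inj := smul_left_injective F (m := n • e) (fun e => h.e0 (by simpa using congrArg (n⁻¹ • ·) e))
  exact ⟨⟨⟨⟨σ, inj (by simp [← hσ])⟩, fun a b => inj (by simp only [mul_smul, ← hσ])⟩, inj (by simp [← hσ]),
    fun a b => inj (by simp only [add_smul, smul_add, ← hσ])⟩, hσ⟩

theorem pK : IsPGroup p (nsK G φ) := fun k => ⟨1, Subtype.ext (h.faith _ fun v => by
  have : ∀ n : ℕ, (k : G) ^ n • v = v + (n : F) • ((k : G) • v - v) := fun n => by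
    induction n with
    | zero => simp
    | succ n ih =>
      rw [pow_succ', mul_smul, ih, smul_add, k.2.1 ((n : F) • ((k : G) • v - v)) (by simp [k.2.2])]
      push_cast
      rw [add_smul, one_smul]; abel
  rw [pow_one, coe_pow, this, CharP.cast_eq_zero, zero_smul, add_zero])⟩

theorem eq_τ {k : G} (hk : k ∈ nsK G φ) (hl : ∀ (c : F) (v : U), k • c • v = c • k • v) : ∃ a, k = τ a := by
  obtain ⟨a, ha⟩ := h.ker (k • f - f) (by rw [map_sub, hk.2, sub_self])
  refine ⟨a, h.ext fun v => ?_⟩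
  have := hk.1 (v - φ v • f) (by simp [h.φf])
  rw [smul_sub, hl, sub_eq_iff_eq_add.1 ha, sub_eq_iff_eq_add] at this
  rw [this, h.τv, smul_add, smul_smul, mul_comm]; abel

end NS

/-- a Sylow `p`-subgroup of `G` normalizing `L` and fixing `w` -/
structure NT (p : ℕ) (L S : Subgroup G) (e f w : U) (φ : U →ₗ[F] F) (τ : F → G) : Prop extends NS L e f φ τ where
  syl : SylIn p S ⊤
  nL : S ≤ normalizer (L : Set G)
  w0 : w ≠ 0
  φw : φ w = 0
  fix : ∀ s ∈ S, s • w = w

variable {L S : Subgroup G} {e f w : U} {τ : F → G} {p : ℕ} [hp : Fact p.Prime] [CharP F p]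

theorem NS.exists_NT (h : NS L e f φ τ) (hS : ∀ S, SylIn p S (normalizer (L : Set G)) → SylIn p S ⊤) :
    ∃ S w, NT p L S e f w φ τ := by
  obtain ⟨S, h1, h2⟩ := exists_sylIn_ge (p := p) (R := nsK G φ ⊓ L) (K := normalizer (L : Set G))
    (h.pK.to_le inf_le_left) (inf_le_right.trans le_normalizer)
  have := h.finite
  obtain ⟨n, -, hn⟩ := FiniteField.card F p
  obtain ⟨w, hw, w0⟩ := h2.isPGroup.exists_fixed_point_of_prime_dvd_card_of_fixed_point U (a := 0)
    (by rw [h.card, hn, ← pow_mul]; exact dvd_pow_self _ (by simp)) fun s => smul_zero s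
  exact ⟨S, w, h, hS S h2, h2.le, w0.symm, h.τ_fix one_ne_zero (hw ⟨_, h1 ⟨h.τK 1, h.τL 1⟩⟩), fun s hs => hw ⟨s, hs⟩⟩

namespace NT
variable (h : NT p L S e f w φ τ)
include h

theorem exσ {s : G} (hs : s ∈ S) : ∃ σ : F →+* F, (∀ (c : F) (v : U), s • c • v = σ c • s • v) ∧
    ∀ c : F, s • c • w = σ c • w := by
  obtain ⟨σ, hσ⟩ := h.semi (h.nL hs)
  exact ⟨σ, hσ, fun c => by rw [hσ, h.fix s hs]⟩

theorem le_St : S ≤ nsSt G φ := fun s hs => mem_nsSt_of fun v hv => by
  obtain ⟨c, rfl⟩ := h.ker' h.w0 h.φw v hv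
  obtain ⟨σ, -, hσ⟩ := h.exσ hs
  rw [hσ, map_smul, h.φw, smul_zero]

theorem K_le : nsK G φ ≤ S := h.syl.le_of_le_normalizer h.pK le_top (h.le_St.trans nsSt_le)

theorem K_eq {k : G} (hk : k ∈ nsK G φ) : ∃ a, k = τ a := by
  obtain ⟨σ, h1, h2⟩ := h.exσ (h.K_le hk)
  refine h.eq_τ hk fun c v => ?_
  rw [h1, smul_left_injective F h.w0 ((h2 c).symm.trans (hk.1 _ (by rw [map_smul, h.φw, smul_zero])))]

theorem normal_of (hg : ∀ g : G, ∃ l ∈ L, l⁻¹ * g ∈ nsSt G φ) : L.Normal := by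
  refine ⟨fun x hx g => h.gen (L.comap (MulAut.conj g).toMonoidHom) (fun l hl a => ?_) hx⟩
  obtain ⟨m, hm, e⟩ := hg (g * l)
  obtain ⟨b, hb⟩ := h.K_eq (nsK_conj e (h.τK a))
  have := mul_mem (mul_mem hm (hb ▸ h.τL b)) (inv_mem hm)
  simpa [mul_assoc] using this

theorem four (hn : ¬L.Normal) : (2 : F) = 0 ∧ ∃ ω : F, ω * ω + ω + 1 = 0 ∧
    ∀ x : F, x = 0 ∨ x = 1 ∨ x = ω ∨ x = ω + 1 := by
  have := h.finite
  let D : G → Set U := fun g => {v | φ v = 0 ∧ φ (g⁻¹ • v) = 0}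
  obtain ⟨g0, hg0⟩ : ∃ g : G, ∀ l ∈ L, l⁻¹ * g ∉ nsSt G φ := by
    by_contra e; push Not at e; exact hn (h.normal_of e)
  obtain ⟨l, hl, el⟩ := h.tr (g0 • e) fun e => h.e0 (by simpa using congrArg (g0⁻¹ • ·) e)
  obtain ⟨g, hg, hmax⟩ := Set.exists_max_image {g : G | g ∉ nsSt G φ} (fun g => (D g).ncard) (Set.toFinite _)
    ⟨_, hg0 l hl⟩
  have h2 : 1 < (D g).ncard := lt_of_lt_of_le ((Set.one_lt_ncard (s := D (l⁻¹ * g0)) (Set.toFinite _)).2 ⟨e, ⟨h.φe, by
    rw [mul_inv_rev, inv_inv, mul_smul, el, inv_smul_smul, h.φe]⟩, 0, by simp [D], h.e0⟩) (hmax _ (hg0 l hl))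
  obtain ⟨u, hu, u0⟩ : ∃ u, φ u = 0 ∧ φ (g⁻¹ • u) ≠ 0 := by
    by_contra e; push Not at e; exact hg (inv_mem_iff.1 (mem_nsSt_of e))
  have cτ : ∀ (g : G) a (v : U), (g * τ a * g⁻¹) • v = v + g • (a * φ (g⁻¹ • v)) • e := fun g a v => by
    rw [mul_smul, mul_smul, h.τv, smul_add, smul_inv_smul]
  obtain ⟨n, hn, hA⟩ := (h.syl.of_le h.le_St le_top).exists_le_conj
    ((isPGroup_conj h.pK g).to_le (inf_le_left : _ ⊓ nsSt G φ ≤ _)) inf_le_right
  have ex : ∀ δ ∈ D (n⁻¹ * g), ∃ a, n⁻¹ * g * τ a * (n⁻¹ * g)⁻¹ ∈ S ∧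
      (n⁻¹ * g * τ a * (n⁻¹ * g)⁻¹) • n⁻¹ • u = n⁻¹ • u + δ := by
    intro δ hδ
    have d1 : φ (n • δ) = 0 := (hn δ).2 hδ.1
    have d2 : φ (g⁻¹ • n • δ) = 0 := by simpa [mul_smul] using hδ.2
    obtain ⟨b, hb⟩ := h.ker _ d2
    have e1 : (g * τ (b / φ (g⁻¹ • u)) * g⁻¹) • u = u + n • δ := by
      rw [cτ, div_mul_cancel₀ _ u0, ← hb, smul_inv_smul]
    generalize b / φ (g⁻¹ • u) = a at e1
    have e2 : g * τ a * g⁻¹ ∈ nsSt G φ := by
      by_contra e2
      refine (hmax _ e2).not_gt (Set.ncard_lt_ncard ⟨fun v hv => ⟨hv.1, ?_⟩, fun hs => ?_⟩)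
      · have : (g * τ a * g⁻¹) • v = v := by rw [cτ, hv.2]; simp
        rw [inv_smul_eq_iff.2 this.symm, hv.1]
      · have := (hs (a := u + n • δ) ⟨by rw [map_add, hu, d1, add_zero], by rw [← e1, inv_smul_smul, hu]⟩).2
        rw [smul_add, map_add, d2, add_zero] at this
        exact u0 this
    have e3 := hA (mem_inf.2 ⟨smul_mem_pointwise_smul _ _ _ (h.τK a), e2⟩)
    rw [mem_pointwise_smul_iff_inv_smul_mem] at e3
    refine ⟨a, by simpa [mul_assoc] using e3, ?_⟩
    have := congrArg (n⁻¹ • ·) e1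
    simpa [mul_smul] using this
  have hu' : φ (n⁻¹ • u) = 0 := (inv_mem hn u).2 hu
  have u0' : φ ((n⁻¹ * g)⁻¹ • n⁻¹ • u) ≠ 0 := by simpa [mul_smul] using u0
  obtain ⟨δ0, hδ0, δ00⟩ : ∃ δ ∈ D (n⁻¹ * g), δ ≠ 0 := by
    obtain ⟨δ, hδ, δ0⟩ := Set.exists_ne_of_one_lt_ncard h2 0
    exact ⟨n⁻¹ • δ, ⟨(inv_mem hn δ).2 hδ.1, by simpa [mul_smul] using hδ.2⟩,
      fun e => δ0 (by simpa using congrArg (n • ·) e)⟩
  generalize n⁻¹ * g = k at *
  generalize n⁻¹ • u = y at *
  obtain ⟨c0, rfl⟩ := h.ker' h.w0 h.φw y hu'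
  have inj := smul_left_injective F h.w0
  have ex2 : ∀ δ ∈ D k, δ ≠ 0 → ∃ σ : F →+* F, σ c0 • w = c0 • w + δ ∧ (∀ c, (σ c - c) • w ∈ D k) ∧
      ∀ c, σ c = c ↔ c • w ∈ D k := by
    intro δ hδ δ0
    obtain ⟨a, h1, h2⟩ := ex δ hδ
    obtain ⟨σ, -, hσ⟩ := h.exσ h1
    have a0 : a ≠ 0 := by
      rintro rfl
      rw [cτ] at h2
      exact δ0 (by simpa using h2.symm)
    refine ⟨σ, by rw [← hσ, h2], fun c => ⟨by simp [h.φw], ?_⟩, fun c => ⟨fun e => ⟨by simp [h.φw], ?_⟩, fun e => ?_⟩⟩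
    · rw [sub_smul, ← hσ, cτ]; simp [h.φe]
    · refine h.τ_fix a0 (smul_left_cancel k ?_)
      rw [smul_inv_smul, ← mul_smul, ← mul_smul, hσ, e]
    · exact inj (by simp only [← hσ]; rw [cτ, e.2]; simp)
  have nt : ∀ {σ : F →+* F} {δ : U}, δ ≠ 0 → σ c0 • w = c0 • w + δ → ∃ x, σ x ≠ x := fun δ0 e =>
    ⟨c0, fun e' => δ0 (by simpa [e'] using e.symm)⟩
  obtain ⟨σ, s1, s2, s3⟩ := ex2 δ0 hδ0 δ00
  have uq : ∀ δ ∈ D k, δ ≠ 0 → (2 : F) = 0 ∧ δ = δ0 := fun δ hδ δ0 => by
    obtain ⟨ρ, r1, -, r3⟩ := ex2 δ hδ δ0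
    obtain ⟨h2, e⟩ := no_aut_eq ρ σ (nt δ0 r1) (nt δ00 s1) (fun c => (r3 _).2 (s2 c)) fun c => (s3 _).2 (s2 c)
    exact ⟨h2, add_left_cancel (r1.symm.trans (e c0 ▸ s1))⟩
  have two := (uq δ0 hδ0 δ00).1
  have mem : ∀ c : F, c • w ∈ D k → c = 0 ∨ c = 1 := fun c hc => by
    by_cases c0 : c = 0
    · exact Or.inl c0
    have e1 := (uq _ hc (smul_ne_zero c0 h.w0)).2
    have e2 := (uq _ ((s3 1).1 (map_one σ)) (smul_ne_zero one_ne_zero h.w0)).2
    exact Or.inr (inj (e1.trans e2.symm))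
  have rt : ∀ x : F, x = 0 ∨ x = 1 ∨ x * x + x + 1 = 0 := fun x => by
    rcases mem _ (s2 x) with e | e
    · exact (mem _ ((s3 x).1 (sub_eq_zero.1 e))).imp_right Or.inl
    rcases mem (x * (x + 1)) ((s3 _).1 (by
      rw [map_mul, map_add, map_one]; linear_combination (σ x + x + 2) * e + (x + 1) * two)) with e | e
    · exact (mul_eq_zero.1 e).imp_right fun e => Or.inl (by linear_combination e - two)
    · exact Or.inr (Or.inr (by linear_combination e + two))
  obtain ⟨ω, hω⟩ := nt δ00 s1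
  have hω : ω * ω + ω + 1 = 0 := by
    rcases rt ω with rfl | rfl | e
    · exact absurd (map_zero σ) hω
    · exact absurd (map_one σ) hω
    · exact e
  refine ⟨two, ω, hω, fun x => (rt x).imp_right (Or.imp_right fun e => ?_)⟩
  have : (x - ω) * (x - (ω + 1)) = 0 := by linear_combination e + hω - (x * ω + x + 1) * two
  exact (mul_eq_zero.1 this).imp sub_eq_zero.1 sub_eq_zero.1

theorem card_K : Nat.card (nsK G φ) = Fintype.card F := by
  rw [← Nat.card_eq_fintype_card]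
  refine (Nat.card_eq_of_bijective (fun a => (⟨τ a, h.τK a⟩ : nsK G φ)) ⟨fun a b e => ?_, fun k => ?_⟩).symm
  · have := congrArg (fun k : nsK G φ => (k : G) • f) e
    simp only [h.τv, h.φf, mul_one, add_right_inj] at this
    exact smul_left_injective F h.e0 this
  · obtain ⟨a, ha⟩ := h.K_eq k.2
    exact ⟨a, Subtype.ext ha.symm⟩

theorem mem_K {s : G} (hs : s ∈ S) (hw : ∀ c : F, s • c • w = c • w) : s ∈ nsK G φ := by
  obtain ⟨σ, h1, h2⟩ := h.exσ hs
  have fx : ∀ v, φ v = 0 → s • v = v := fun v hv => by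
    obtain ⟨c, rfl⟩ := h.ker' h.w0 h.φw v hv
    exact hw c
  have e1 : ∀ v, φ (s • v) = φ (s • f) * φ v := fun v => by
    have := congrArg φ (fx (v - φ v • f) (by simp [h.φf]))
    rw [smul_sub, h1, smul_left_injective F h.w0 ((h2 _).symm.trans (hw _))] at this
    simp only [map_sub, map_smul, h.φf, smul_eq_mul] at this
    linear_combination this
  have e2 : ∀ n : ℕ, φ (s ^ n • f) = φ (s • f) ^ n := fun n => by
    induction n with
    | zero => simp [h.φf]
    | succ n ih => rw [pow_succ', mul_smul, e1, ih, pow_succ']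
  obtain ⟨k, hk⟩ := h.syl.isPGroup ⟨s, hs⟩
  have e3 := e2 (p ^ k)
  rw [show s ^ p ^ k = 1 from congrArg Subtype.val hk, one_smul, h.φf] at e3
  have : (φ (s • f) - 1) ^ p ^ k = 0 := by rw [sub_pow_char_pow, ← e3, one_pow, sub_self]
  exact ⟨fx, fun v => by rw [e1, sub_eq_zero.1 (pow_eq_zero_iff (pow_ne_zero _ hp.1.ne_zero) |>.1 this), one_mul]⟩

variable {ω : F} (two : (2 : F) = 0) (hω : ω * ω + ω + 1 = 0) (all : ∀ x : F, x = 0 ∨ x = 1 ∨ x = ω ∨ x = ω + 1)
include two hω all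

omit h in
theorem card_four : Fintype.card F = 4 := by
  classical
  have h0 : ω ≠ 0 := by rintro rfl; simp at hω
  have h1 : ω ≠ 1 := by rintro rfl; exact one_ne_zero (α := F) (by linear_combination hω - two)
  have : (Finset.univ : Finset F) = {0, 1, ω, ω + 1} := by ext x; simpa using all x
  rw [← Finset.card_univ, this, Finset.card_insert_of_notMem, Finset.card_insert_of_notMem, Finset.card_pair]
  · simp
  · simp [h0, h1.symm]
  · simp only [Finset.mem_insert, Finset.mem_singleton, not_or]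
    exact ⟨zero_ne_one, h0.symm, fun e => h1 (by linear_combination -e - two)⟩

theorem card_S : Nat.card S ∣ 8 := by
  have h0 : ω ≠ 0 := by rintro rfl; simp at hω
  have h1 : ω ≠ 1 := by rintro rfl; exact one_ne_zero (α := F) (by linear_combination hω - two)
  have key : ∀ s ∈ S, s • ω • w = ω • w → s ∈ nsK G φ := fun s hs e => h.mem_K hs fun c => by
    rcases all c with rfl | rfl | rfl | rfl
    · simp
    · rw [one_smul, h.fix s hs]
    · exact e
    · rw [add_smul, smul_add, e, one_smul, h.fix s hs]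
  have k2 : ∀ s ∈ S, s ∉ nsK G φ → s • ω • w = (ω + 1) • w := fun s hs hk => by
    obtain ⟨σ, -, h2⟩ := h.exσ hs
    rcases all (σ ω) with e | e | e | e
    · exact absurd ((map_eq_zero σ).1 e) h0
    · exact absurd (σ.injective (e.trans (map_one σ).symm)) h1
    · exact absurd (key s hs (by rw [h2, e])) hk
    · rw [h2, e]
  have : (nsK G φ).relIndex S ∣ 2 := by
    rw [relIindex_dvd_two_iff']
    by_cases e : S ≤ nsK G φ
    · exact ⟨1, one_mem _, fun b hb => Or.inr (e hb)⟩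
    obtain ⟨a, ha, hk⟩ := SetLike.not_le_iff_exists.1 e
    refine ⟨a, ha, fun b hb => or_iff_not_imp_right.2 fun hb' => key _ (mul_mem ha hb) ?_⟩
    rw [mul_smul, k2 b hb hb', add_smul, smul_add, k2 a ha hk, one_smul, h.fix a ha, add_smul, one_smul, add_assoc,
      ← two_smul F, two, zero_smul, add_zero]
  rw [← card_mul_relIndex h.K_le, h.card_K, card_four two hω all]
  exact Nat.mul_dvd_mul_left 4 this

theorem no_solv (hn : ¬L.Normal) (N : Subgroup G) (hN : N.Normal) (hs : Group.IsSolvable N) : N = ⊥ := by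
  by_contra hb
  obtain ⟨M, r, hM, h0, -, hr, hc, hx, hP, -⟩ := H1.exists_normal_elementary_le N hb
  obtain ⟨m, hm, m1⟩ := (M.bot_or_exists_ne_one).resolve_left h0
  have := h.finite
  have p2 : p = 2 := (Nat.prime_dvd_prime_iff_eq hp.1 Nat.prime_two).1 ((CharP.cast_eq_zero_iff F p 2).1 two)
  subst p2
  have ω0 : ω ≠ 0 := by rintro rfl; simp at hω
  have ω1 : 1 + ω ≠ 0 := fun e => one_ne_zero (α := F) (by linear_combination hω - ω * e)
  by_cases r2 : r = 2
  · subst r2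
    obtain ⟨v, hv, v0⟩ := hP.exists_fixed_point_of_prime_dvd_card_of_fixed_point U (a := 0)
      (by rw [h.card, card_four two hω all]; norm_num) fun s => smul_zero s
    refine m1 (h.faith m fun u => ?_)
    by_cases u0 : u = 0
    · rw [u0, smul_zero]
    obtain ⟨l, -, rfl⟩ := h.tr u u0
    obtain ⟨k, -, rfl⟩ := h.tr v v0.symm
    have := hv ⟨_, hM.conj_mem m hm (k * l⁻¹)⟩
    simpa [mul_smul, inv_smul_eq_iff] using this
  have cm : ∀ a ∈ M, ∀ b ∈ M, a * b = b * a := fun a ha b hb => congrArg Subtype.val (hc.is_comm.comm ⟨a, ha⟩ ⟨b, hb⟩)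
  have τa : ∀ a b, τ a * τ b = τ (a + b) := fun a b => h.ext fun v => by
    simp [mul_smul, h.τv, h.φe, add_mul, add_smul, add_comm, add_left_comm]
  have τ2 : ∀ a, τ a * τ a = 1 := fun a => h.faith _ fun v => by rw [τa, ← two_mul, two, h.τv]; simp
  have cS : ∀ a ≠ 0, ∀ n ∈ M, n * (τ a * n * (τ a)⁻¹) ∈ nsSt G φ := fun a a0 n hn => mem_nsSt_of fun v hv => by
    have e : τ a * (n * (τ a * n * (τ a)⁻¹)) = n * (τ a * n * (τ a)⁻¹) * τ a := by
      nth_rewrite 1 [cm n hn _ (hM.conj_mem n hn _)]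
      calc _ = τ a * τ a * n * (τ a)⁻¹ * n := by group
        _ = n * (τ a)⁻¹ * n := by rw [τ2, one_mul]
        _ = _ := by nth_rewrite 1 [inv_eq_of_mul_eq_one_left (τ2 a)]; group
    exact h.τ_fix a0 (by rw [← mul_smul, e, mul_smul, (h.τK a).1 v hv])
  have hS : M ≤ nsSt G φ := fun n hn => by
    have h1 := cS 1 one_ne_zero n hn
    have h2 := cS ω ω0 n hn
    have h3 := cS _ ω1 n hn
    have h4 := cS 1 one_ne_zero _ (mul_mem hn (hM.conj_mem n hn (τ ω)))
    rw [show τ 1 * (n * (τ ω * n * (τ ω)⁻¹)) * (τ 1)⁻¹ = τ 1 * n * (τ 1)⁻¹ * (τ (1 + ω) * n * (τ (1 + ω))⁻¹) by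
      rw [← τa]; group] at h4
    have m1 := hM.conj_mem n hn (τ 1)
    have m2 := hM.conj_mem n hn (τ ω)
    have m3 := hM.conj_mem n hn (τ (1 + ω))
    generalize τ 1 * n * (τ 1)⁻¹ = x, τ ω * n * (τ ω)⁻¹ = y, τ (1 + ω) * n * (τ (1 + ω))⁻¹ = z at *
    have e : n * n * (n * y * (x * z)) = n * x * (n * y) * (n * z) := by
      let : CommGroup M := { (inferInstance : Group M) with mul_comm := hc.is_comm.comm }
      have : ∀ n x y z : M, n * n * (n * y * (x * z)) = n * x * (n * y) * (n * z) := fun n x y z => by ac_rfl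
      exact congrArg Subtype.val (this ⟨n, hn⟩ ⟨x, m1⟩ ⟨y, m2⟩ ⟨z, m3⟩)
    have h5 := (mul_mem_cancel_right h4).1 (e ▸ mul_mem (mul_mem h1 h2) h3)
    obtain ⟨j, rfl⟩ := hr.odd_of_ne_two r2
    have := pow_mem h5 (j + 1)
    rwa [← pow_two, ← pow_mul, show 2 * (j + 1) = 2 * j + 1 + 1 by ring, pow_succ, hx n hn, one_mul] at this
  have := Fact.mk hr
  have hC : nsK G φ ≤ centralizer (M : Set G) := le_centralizer_of_disjoint le_normalizer_of_normal
    (hS.trans nsSt_le) (IsPGroup.disjoint_of_ne 2 r (Ne.symm r2) _ _ h.pK hP).eq_bot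
  have cj : ∀ (g : G) a, g * τ a * g⁻¹ ∈ centralizer (M : Set G) := fun g a =>
    (normal_centralizer (H := M)).conj_mem _ (hC (h.τK a)) g
  obtain ⟨c, hc⟩ := h.scal (m • ·) (smul_zero m) fun l hl v => by
    rw [← mul_smul, ← mul_smul, mem_centralizer_iff.1 (h.gen _ (fun l _ a => cj l a) hl) m hm]
  refine hn (h.normal_of fun g => ?_)
  obtain ⟨l, hl, e1⟩ := h.tr (g • e) fun e => h.e0 (by simpa using congrArg (g⁻¹ • ·) e)
  refine ⟨l, hl, inv_mem_iff.1 (mem_nsSt_of fun v hv => ?_)⟩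
  obtain ⟨b, rfl⟩ := h.ker v hv
  have f1 : (g * τ 1 * g⁻¹) • g • e = g • e := by rw [mul_smul, mul_smul, inv_smul_smul, (h.τK 1).1 e h.φe]
  have f2 : (g * τ 1 * g⁻¹) • c • g • e = c • g • e := by
    rw [← hc, ← mul_smul, ← mem_centralizer_iff.1 (cj g 1) m hm, mul_smul, f1]
  have f3 : (g * τ 1 * g⁻¹) • (c + 1) • g • e = (c + 1) • g • e := by rw [add_smul, smul_add, f2, one_smul, f1]
  have f4 : (g * τ 1 * g⁻¹) • b • g • e = b • g • e := by
    have c0 : c ≠ 0 := by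
      rintro rfl
      exact h.e0 (by simpa using congrArg (m⁻¹ • ·) (hc e))
    have c1 : c ≠ 1 := by
      rintro rfl
      exact m1 (h.faith m fun v => by simpa using hc v)
    rcases all b with rfl | rfl | rfl | rfl
    · simp
    · rw [one_smul, f1]
    · rcases all c with e | e | rfl | rfl
      · exact absurd e c0
      · exact absurd e c1
      · exact f2
      · rwa [add_assoc, one_add_one_eq_two, two, add_zero] at f3
    · rcases all c with e | e | rfl | rfl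
      · exact absurd e c0
      · exact absurd e c1
      · exact f3
      · exact f2
  refine h.τ_fix one_ne_zero (smul_left_cancel g ?_)
  rw [mul_inv_rev, inv_inv, mul_smul, h.lin l hl, e1, smul_inv_smul, ← mul_smul, ← mul_smul, f4]

theorem emb : ∃ j : G →* H6.A8, Function.Injective j := by
  have : CharP F 2 := CharTwo.of_one_ne_zero_of_two_eq_zero one_ne_zero two
  have := h.finite
  have := Fintype.ofFinite U
  let : Algebra (ZMod 2) F := ZMod.algebra F 2
  let : Module (ZMod 2) U := Module.compHom U (algebraMap (ZMod 2) F)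
  have : SMulCommClass G (ZMod 2) U := ⟨fun g c v => by
    have : c = 0 ∨ c = 1 := by revert c; decide
    rcases this with rfl | rfl <;> simp⟩
  have hr : Module.finrank (ZMod 2) U = 4 := by
    have e := Module.card_eq_pow_finrank (K := ZMod 2) (V := U)
    rw [← Nat.card_eq_fintype_card, h.card, card_four two hω all, ZMod.card] at e
    exact Nat.pow_right_injective le_rfl e.symm
  let b := Module.finBasisOfFinrankEq (ZMod 2) U hr
  let j : G →* GL (Fin 4) (ZMod 2) := ((LinearMap.toMatrixAlgEquiv b).toMulEquiv.toMonoidHom.comp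
    (DistribMulAction.toModuleEnd (ZMod 2) U)).toHomUnits
  have hj : Function.Injective j := (injective_iff_map_eq_one _).2 fun g hg => h.faith g fun v => by
    have e : LinearMap.toMatrixAlgEquiv b (DistribMulAction.toModuleEnd (ZMod 2) U g) = 1 := congrArg Units.val hg
    rw [map_eq_one_iff _ (LinearMap.toMatrixAlgEquiv b).injective] at e
    exact congrArg (· v) e
  obtain ⟨s, hs⟩ := Cfsg.Agent.S2553.toPSL 4
  obtain ⟨e⟩ := Cfsg.Agent.S0256.result (F := ZMod 2) (ZMod.card 2)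
  exact ⟨e.toMonoidHom.comp (s.comp j), e.injective.comp (hs.1.comp hj)⟩

end NT

theorem NS.main (h : NS L e f φ τ) (hS : ∀ S, SylIn p S (normalizer (L : Set G)) → SylIn p S ⊤)
    (hL : Fintype.card F = 4 → Nat.card L = 60) :
    L.Normal ∨ (Fintype.card F = 4 ∧ Nonempty (G ≃* alternatingGroup (Fin 7))) := by
  refine or_iff_not_imp_left.2 fun hn => ?_
  obtain ⟨S, w, h⟩ := h.exists_NT hS
  obtain ⟨two, ω, hω, all⟩ := h.four hn
  have h4 := NT.card_four two hω all
  have h8 := h.card_S two hω all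
  obtain ⟨j, hj⟩ := h.emb two hω all
  have p2 : p = 2 := (Nat.prime_dvd_prime_iff_eq hp.1 Nat.prime_two).1 ((CharP.cast_eq_zero_iff F p 2).1 two)
  subst p2
  have c1 := L.card_mul_index
  have c2 := S.card_mul_index
  have c3 := h.syl.not_dvd
  rw [relIndex_top_right] at c3
  rw [hL h4] at c1
  have : Nontrivial G := by
    by_contra e
    rw [not_nontrivial_iff_subsingleton] at e
    exact hn ⟨fun x hx g => by rwa [Subsingleton.elim (g * x * g⁻¹) x]⟩
  have h16 : ¬16 ∣ Nat.card G := fun e => by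
    obtain ⟨k, hk⟩ := h8
    have : 2 * 8 ∣ 8 * S.index := (c2 ▸ e).trans (by rw [hk]; exact Nat.mul_dvd_mul_right (Dvd.intro k rfl) _)
    rw [mul_comm 2] at this
    exact c3 (Nat.dvd_of_mul_dvd_mul_left (by norm_num) this)
  have ca : ∀ {n : ℕ}, 2 ≤ n → (G ≃* alternatingGroup (Fin n)) → 2 * Nat.card G = n.factorial := fun {n} h2 e => by
    have : Nontrivial (Fin n) := Fin.nontrivial_iff_two_le.2 h2
    rw [Nat.card_congr e.toEquiv, two_mul_nat_card_alternatingGroup, Nat.card_perm, Nat.card_eq_fintype_card,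
      Fintype.card_fin]
  have cp : ∀ {n : ℕ}, (G ≃* Equiv.Perm (Fin n)) → Nat.card G = n.factorial := fun {n} e => by
    rw [Nat.card_congr e.toEquiv, Nat.card_perm, Nat.card_eq_fintype_card, Fintype.card_fin]
  refine ⟨h4, ?_⟩
  rcases H6.emb_class j hj (h.no_solv two hω all hn) with ⟨n, h5, h8', ⟨e⟩⟩ | ⟨⟨e⟩⟩ | ⟨⟨e⟩⟩ | ⟨-, e⟩
  · have c := ca (by omega) e
    interval_cases n
    · have : L.index = 1 := by simp [Nat.factorial] at c; omega
      exact absurd (index_eq_one.1 this ▸ inferInstance) hn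
    · exfalso
      have c : Nat.card G = 360 := by simp [Nat.factorial] at c; omega
      have := alternatingGroup.isSimpleGroup (α := Fin 6) (by simp)
      have := e.isSimpleGroup
      have h1 := H6.card_dvd_fact_index (K := normalizer (L : Set G)) fun e => hn (normalizer_eq_top_iff.1 e)
      have h2 := (normalizer (L : Set G)).card_mul_index
      have d1 := card_dvd_of_le h.nL
      have d2 := card_dvd_of_le (le_normalizer (H := L))
      have s8 : Nat.card S = 8 := by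
        have : Nat.card S ≤ 8 := Nat.le_of_dvd (by norm_num) h8
        rw [c] at c2
        interval_cases Nat.card S <;> omega
      rw [s8] at d1
      rw [hL h4] at d2
      obtain ⟨k, hk⟩ := Nat.lcm_dvd d1 d2
      rw [hk, c, show Nat.lcm 8 60 = 120 from rfl] at h2
      have : (normalizer (L : Set G)).index ≤ 3 := Nat.le_of_dvd (by norm_num) ⟨k, by linarith⟩
      rw [c] at h1
      interval_cases (normalizer (L : Set G)).index <;> simp [Nat.factorial] at h1 h2
    · exact ⟨e⟩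
    · exact absurd (by simp [Nat.factorial] at c; omega) h16
  · have : L.index = 2 := by have := cp e; simp [Nat.factorial] at this; omega
    exact absurd (normal_of_index_eq_two this) hn
  · exact absurd (by rw [cp e]; decide) h16
  · omega

end H3
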