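import Cfsg.Agent.H18.KpX

/-! Piece `C` of S4930: `H3.OdC.pC`. -/
set_option autoImplicit false
namespace H3.OdC
open Subgroup Cfsg H5

theorem pC {G : Type*} [Group G] [Finite G] (p : ℕ) [Fact p.Prime] (P : Sylow p G) (H K : Subgroup G) [K.Normal]
    (hP : centralizer ((P : Subgroup G) : Set G) ≤ H) (h1 : K ⊓ H = ⊥) (h2 : K ⊔ H = ⊤) :
    ∑ᶠ χ : {χ : IrrCharacter G // ¬ p ∣ charDegree χ.1}, charDegree χ.1.1 ^ 2 ≤
      ∑ᶠ η : {η : IrrCharacter H // ¬ p ∣ charDegree η.1}, charDegree η.1.1 ^ 2 := by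
  classical
  have hk : ∀ χ : {χ : IrrCharacter G // ¬ p ∣ charDegree χ.1}, K ≤ charKer χ.1.1 := fun χ =>
    H118.KpX.le_ker p P K (eq_bot_iff.2 (h1 ▸ inf_le_inf_left K hP)) _ χ.1.2 χ.2
  have dec : ∀ g : G, ∃ k ∈ K, ∃ h ∈ H, k * h = g := fun g => by
    have : g ∈ ((K ⊔ H : Subgroup G) : Set G) := h2.ge (mem_top g)
    rw [normal_mul] at this
    obtain ⟨k, a, h, b, e⟩ := this
    exact ⟨k, a, h, b, e⟩
  have s : Function.Surjective ((QuotientGroup.mk' K).comp H.subtype) := fun y => by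
    obtain ⟨g, rfl⟩ := QuotientGroup.mk'_surjective K y
    obtain ⟨k, a, h, b, rfl⟩ := dec g
    exact ⟨⟨h, b⟩, by simp [(QuotientGroup.eq_one_iff k).2 a]⟩
  have ir : ∀ χ : {χ : IrrCharacter G // ¬ p ∣ charDegree χ.1}, IsIrrCharacter H (fun x : H => χ.1.1 x) := fun χ => by
    obtain ⟨χ', a, b⟩ := χ.1.2.exists_deflate K (hk χ)
    have := a.comp_surjective _ s
    simpa [b] using this
  have dg : ∀ χ : {χ : IrrCharacter G // ¬ p ∣ charDegree χ.1},
      charDegree (fun x : H => χ.1.1 x) = charDegree χ.1.1 := fun χ => by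
    obtain ⟨n, hn⟩ := χ.1.2.isCharacter.exists_apply_one
    rw [charDegree_eq_of_apply_one hn, charDegree_eq_of_apply_one (n := n) (by simpa using hn)]
  let f : {χ : IrrCharacter G // ¬ p ∣ charDegree χ.1} → {η : IrrCharacter H // ¬ p ∣ charDegree η.1} :=
    fun χ => ⟨⟨_, ir χ⟩, fun c => χ.2 (dg χ ▸ c)⟩
  have inj : Function.Injective f := fun a b e => Subtype.ext (Subtype.ext (funext fun g => by
    obtain ⟨k, u, h, v, rfl⟩ := dec g
    rw [hk a u h, hk b u h]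
    exact congrFun (congrArg (fun x => x.1.1) e) ⟨h, v⟩))
  rw [finsum_eq_sum_of_fintype, finsum_eq_sum_of_fintype]
  calc _ = ∑ χ, charDegree (f χ).1.1 ^ 2 := Finset.sum_congr rfl fun χ _ => congrArg (· ^ 2) (dg χ).symm
    _ = ∑ η ∈ Finset.univ.map ⟨f, inj⟩, charDegree η.1.1 ^ 2 := by rw [Finset.sum_map]; rfl
    _ ≤ _ := Finset.sum_le_sum_of_subset (Finset.subset_univ _)

end H3.OdC
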