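import Cfsg.Agent.H3.R2c
import Cfsg.Agent.H3.Sec
import Cfsg.Agent.H3.FS5
import Cfsg.Agent.H16.NF3
import Cfsg.Agent.H27.Sections

/-! Automorphisms of order `p` of metacyclic `p`-groups (`mc_aut_iff`), `2`-groups of sectional rank two are
metacyclic (`metacyc_of_sec`), sections `SL₂(3)` from `Q₈` (`exists_sl23_section`). -/

set_option autoImplicit false

namespace H3

open Subgroup Cfsg H18
open scoped commutatorElement

universe u

variable {G : Type*} [Group G] [Finite G] {p n m : ℕ} {A H K L R S T : Subgroup G} {a b c g s u v w x y z : G}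

/-- the elements of order dividing `p ^ k` of a regular group -/
def Reg.om (hp : p.Prime) (hH : PiGrp {p} H) (h : Reg p H) (k : ℕ) : Subgroup G where
  carrier := {x | x ∈ H ∧ x ^ p ^ k = 1}
  one_mem' := ⟨one_mem _, one_pow _⟩
  inv_mem' := fun ha => ⟨inv_mem ha.1, by rw [inv_pow, ha.2, inv_one]⟩
  mul_mem' := fun ha hb => ⟨mul_mem ha.1 hb.1, h.mul_pow_eq_one hp hH ha.1 hb.1 ha.2 hb.2⟩

theorem metacyc_comm_pow (hp : p.Prime) (hL : PiGrp {p} L) (r : Reg p L) (h : Metacyc L) (hx : x ∈ L) (hy : y ∈ L)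
    (x2 : (x ^ p) ^ p = 1) (y2 : (y ^ p) ^ p = 1) : x ^ p * y = y * x ^ p := by
  have l : r.om hp hL 2 ≤ L := fun _ h => h.1
  obtain ⟨K, k, k1, k2, k3, e⟩ := metacyc_gen (metacyc_of_le h l)
  have pK := hL.of_le (k1.le.trans l)
  have n1 := zpowers_le.2 (k1.norm k3)
  have d : ⁅r.om hp hL 2, r.om hp hL 2⁆ ≤ ℧[p](K) := by
    by_cases h0 : K = ⊥
    · rw [← e, h0, bot_sup_eq, abel_zpowers.der]; exact bot_le
    have t := le_mho_of_lt_cyc hp pK k2 ((hL.of_le l).comm_lt pK k1.norm h0)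
    have n2 := norm_mho (p := p) (n := 1) k1.norm
    conv_lhs => lhs; rw [← e]
    refine comm_sup_le t ?_ (k1.le.trans n2) (zpowers_le.2 (n2 k3))
    rw [← e]
    exact comm_sup_le' (comm_comm.le.trans ((comm_mono le_rfl (zpowers_le.2 k3)).trans t))
      (abel_zpowers.der.le.trans bot_le) (k1.le.trans n2) (zpowers_le.2 (n2 k3))
  obtain ⟨c, hc, e⟩ := (reg_of_abel k2.abel).exists_pow hp pK (d (commutator_mem_commutator
    (show x ∈ r.om hp hL 2 from ⟨hx, by rwa [sq, pow_mul]⟩) (show y ∈ r.om hp hL 2 from ⟨hy, by rwa [sq, pow_mul]⟩)))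
  simpa using (r.commute_pow_iff (k := 1) hp hL hx hy).2 (by rw [e, pow_one, ← pow_mul, ← sq]; exact (k1.le hc).2)

theorem mc_aut_iff (hp : p.Prime) (h2 : p ≠ 2) (hG : Nat.card G = p ^ (m + 1)) [L.Normal] (cL : Nat.card L = p ^ m)
    (hm : Metacyc L) (hn : ∀ C ≤ L, Cyc C → C.relIndex L ≠ p) (h1 : L ≠ ⊥) (hs : s ^ p = 1) (s1 : s ∉ L) :
    ¬ Ω[p](L) ≤ C1(s) ↔ p = 3 ∧ Group.nilpotencyClass G = m := by
  have := Fact.mk hp
  have pT : PiGrp {p} (⊤ : Subgroup G) := piGrp_of_card_pow hp (card_top.trans hG)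
  have pL := pT.of_le (le_top : L ≤ ⊤)
  have nc : ¬ Cyc L := fun c => by
    obtain ⟨M, -, m1, m2⟩ := exists_max_sub hp pL (bot_lt_iff_ne_bot.2 h1)
    exact hn M m1.le (c.of_le m1.le) m2
  have pV := ohm_metacyc hp hm pL (odd_of_piGrp hp h2 pL) nc
  have r := reg_of_cyc_der hp h2 pL (metacyc_cyc_der hm)
  have vU : Ω[p](L) ≤ ℧[p](L) := by_contra fun k => by
    obtain ⟨c, c1, -, c2⟩ := r.sup_of_cyc hp pL (cyc_of_card_inf hp h2 pL mho_le pV.card.le k)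
    have pc := pL.of_le (zpowers_le.2 c1)
    have c0 : zpowers c ≠ ⊥ := fun e => by
      rw [e, sup_bot_eq] at c2
      obtain ⟨M, -, m1, m2⟩ := exists_max_sub hp pL (bot_lt_iff_ne_bot.2 h1)
      have := card_mul_relIndex m1.le
      rw [m2, ← c2, pV.card, sq] at this
      exact hn M m1.le ((pL.of_le m1.le).cyc_of_card_le hp (Nat.eq_of_mul_eq_mul_right hp.pos this).le) m2
    have e : Ω[p](L) ⊓ zpowers c = Ω[p](zpowers c) :=
      le_antisymm (elem_le_ohm (pV.elem.of_le inf_le_left) inf_le_right) (le_inf (ohm_mono (zpowers_le.2 c1)) ohm_le)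
    have := card_sup_of_inf hp.pos ((ohm_nml .rfl).nrm2 (zpowers_le.2 c1)) pV.card
      (e ▸ card_ohm_cyc pc cyc_zpowers c0) two_ne_zero
    rw [c2, pow_one, mul_comm] at this
    exact hn _ (zpowers_le.2 c1) cyc_zpowers (relIndex_eq_of_mul (zpowers_le.2 c1) this)
  have m4 : 4 ≤ m := by
    have := r.card_eq hp pL
    rw [cL, pV.card] at this
    refine (Nat.pow_le_pow_iff_right hp.one_lt).1 (this ▸ ?_)
    rw [show 4 = 2 + 2 from rfl, pow_add]
    exact Nat.mul_le_mul_left _ (pV.card ▸ card_le vU)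
  have iL : L.relIndex ⊤ = p := relIndex_eq_of_mul le_top (by rw [card_top, hG, cL, pow_succ])
  have nV := normal_ohm (p := p) (U := L)
  constructor
  · intro nc
    have cen : ∀ w ∈ L, w ^ p ∈ Ω[p](L) → w ∈ C(Ω[p](L)) := fun w hw e v hv => by
      obtain ⟨y, hy, rfl⟩ := r.exists_pow hp pL (vU hv)
      exact metacyc_comm_pow hp pL r hm hy hw (pV.elem.pow _ hv) (pV.elem.pow _ e)
    have eV : Ω[p](L ⊓ C(Ω[p](L))) = Ω[p](L) := ohm_eq_of_le (le_inf ohm_le pV.elem.abel) inf_le_left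
    have h : Ac p (L ⊓ C(Ω[p](L))) s := ⟨hp, h2, pL.inf_left, r.mono inf_le_left, eV.le.trans (cent_symm inf_le_right),
      eV.symm ▸ pV.card, norm_inf norm_of_normal (norm_C norm_of_normal) (mem_top s), pT.elt trivial, eV.symm ▸ nc⟩
    obtain ⟨v, hv, v1⟩ := SetLike.not_le_iff_exists.1 nc
    obtain ⟨y, hy, rfl⟩ := r.exists_pow hp pL (vU hv)
    have k := h.le_ohm' ⟨hy, cen y hy hv⟩ (eV.ge hv) v1 (by rw [hs, one_mul, mul_one])
    have k2 : L ⊓ C1(s) ≤ Ω[p](L) := by_contra fun e => by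
      obtain ⟨x, hx, x1⟩ := SetLike.not_le_iff_exists.1 e
      obtain ⟨k', k1, k2⟩ := exists_pow_mem_not_mem pL.inf_left.isPGroup hx x1
      exact k1 (eV.le (k ⟨⟨pow_mem hx.1 _, cen _ (pow_mem hx.1 _) k2⟩, pow_mem hx.2 _⟩))
    have c := h.card_C1 (S := L ⊓ C(Ω[p](L)) ⊔ zpowers s) le_sup_left (mem_sup_right (mem_zpowers s)) (fun e => s1 e.1)
      (relIndex_sup_zpowers_of_pow hp h.norm (hs ▸ one_mem _) fun e => s1 e.1).le k
    rw [inf_eq_right.2 fun g hg => by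
      obtain ⟨i, t, ht, rfl⟩ := mem_zpowers_sup (norm_of_normal (mem_top s))
        ((sup_zpowers_eq_of_prime (iL.symm ▸ hp) le_top trivial s1).ge (mem_top g))
      have := k2 ⟨ht, (mul_mem_cancel_left (pow_mem C1_self i)).1 hg⟩
      exact mul_mem (mem_sup_right (pow_mem (mem_zpowers s) i)) (mem_sup_left ⟨ht, pV.elem.abel this⟩)] at c
    have cl := class_of_cent hG c
    refine ⟨by_contra fun h3 => ?_, cl⟩
    have mx := mx_top hp (by omega) hG cl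
    have h5 : 4 ≤ p := lt_of_le_of_ne (three_le hp h2) (Ne.symm h3)
    have n5 := (gam_le 2).trans (gam_nml (H := (⊤ : Subgroup G)) 5).norm
    have a := metacyc_card_dvd (p := p) (H := gam (⊤ : Subgroup G) 2 ⫽ gam ⊤ 5) (metacyc_mim (f := coset (gam ⊤ 5)) (metacyc_of_le hm
      (der_le_of_relIndex_prime hp norm_of_normal iL : gam ⊤ 2 ≤ L)) n5) fun z hz => by
        obtain ⟨x, hx, rfl⟩ := (mem_quo n5).1 hz
        rw [← mfun_pow (n5 hx)]; exact cs_eq_one (gam_anti (by omega) (mx.pow_mem le_rfl hx))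
    have b := card_mul_relIndex (gam_anti (H := (⊤ : Subgroup G)) (show 2 ≤ 5 by omega))
    rw [mx.card_gam (j := m - 4) (by omega) (by omega), mx.card_gam (j := m - 4 + 3) le_rfl (by omega), pow_add] at b
    rw [card_quo n5, Nat.eq_of_mul_eq_mul_left (pow_pos hp.pos _) b, Nat.pow_dvd_pow_iff_le_right hp.one_lt] at a
    omega
  · rintro ⟨rfl, cl⟩ k
    have el := elem_sup pV.elem (elem_zpowers hs) (k.trans C_zpowers.ge)
    have a := (mx_top hp (by omega) hG cl).three_rank (by omega) (le_top : Ω[3](L) ⊔ zpowers s ≤ ⊤)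
    rw [(phi_eq_bot_iff hp (pT.of_le le_top)).2 el, relIndex_bot_left, ← card_mul_relIndex le_sup_left, pV.card,
      relIndex_sup_zpowers_of_pow hp (norm_of_normal (mem_top s)) (hs ▸ one_mem _) fun e => s1 (ohm_le e)] at a
    omega

theorem exists_J2 (hp : p.Prime) (hR : PiGrp {p} R) (h : Φ(R).relIndex R ≤ p ^ 2) (ha : a ∈ R) (h1 : a ∉ Φ(R)) :
    ∃ b ∈ R, J2 a b = R := by
  have hn : zpowers a ⊔ Φ(R) ⊴ R := nml_of_der_le (le_sup_of_le_right (der_le_phi hp hR))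
    (sup_le (zpowers_le.2 ha) H3.phi_le)
  have h2 : (zpowers a ⊔ Φ(R)).relIndex R ≤ p := by
    refine Nat.le_of_mul_le_mul_left (le_trans ?_ (sq p ▸ h)) hp.pos
    rw [← relIndex_tower le_sup_right hn.le]
    exact Nat.mul_le_mul_right _ (Nat.le_of_dvd relIndex_pos (dvd_relIndex_of_not_le (hR.of_le hn.le)
      fun e => h1 (e (mem_sup_left (mem_zpowers a)))))
  obtain ⟨b, hb, e⟩ := exists_gen_of_cyc_quo hn.norm ((hR.mim (f := coset _)).cyc_of_card_le hp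
    (by rwa [card_quo hn.norm]))
  exact ⟨b, hb, eq_of_le_sup_phi (J2_le ha hb) (e.trans (sup_right_comm _ _ _).le)⟩

theorem metacyc_of_der_le (hp : p.Prime) (hR : PiGrp {p} R) (h : Φ(R).relIndex R ≤ p ^ 2) (ha : a ∈ R)
    (h1 : a ∉ Φ(R)) (h2 : ⁅R, R⁆ ≤ zpowers a) : Metacyc R :=
  let ⟨_, hb, e⟩ := exists_J2 hp hR h ha h1
  metacyc_of_le_sup (nml_of_der_le h2 (zpowers_le.2 ha)) cyc_zpowers hb e.ge

theorem phi_le_mho_two (hR : PiGrp {2} R) : Φ(R) ≤ ℧[2](R) :=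
  (phi_le_iff Nat.prime_two hR).2 ⟨commutator_le.2 fun a ha b hb => by
    have := mul_mem (mul_mem (pow_mem_mho1 (p := 2) ha) (pow_mem_mho1 (p := 2) (mul_mem (inv_mem ha) hb)))
      (pow_mem_mho1 (p := 2) (inv_mem hb))
    simpa [sq, commutatorElement_def, mul_assoc] using this, fun _ => pow_mem_mho1⟩

theorem metacyc_of_der_two (hR : PiGrp {2} R) (h : ∀ H ≤ R, Φ(H).relIndex H ≤ 2 ^ 2)
    (hc : Nat.card (⁅R, R⁆ : Subgroup G) = 2) : Metacyc R := by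
  have hp := Nat.prime_two
  have := Fact.mk hp
  have zc := cent_of_card_le_prime hR nml_der hc.le
  have dp := der_le_phi hp hR
  obtain ⟨c, c1, c2⟩ := exists_zpowers_of_card hc
  have cΦ : Φ(R) ≤ C(R) := (phi_le_iff hp hR).2 ⟨zc, fun x hx y hy => by
    have k := commutator_mem_commutator hy hx
    rw [← commutatorElement_eq_one_iff_mul_comm, comm_pow_right (zc k x hx), ← hc]
    exact congrArg Subtype.val (pow_card_eq_one' (x := (⟨_, k⟩ : (⁅R, R⁆ : Subgroup G))))⟩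
  have aΦ : Abel Φ(R) := cent_mono cΦ le_rfl H3.phi_le
  have pΦ := hR.of_le (H3.phi_le (H := R))
  have ne : Φ(R) ≠ ⊥ := fun e => ne_bot_of_prime (hc ▸ hp) (eq_bot_iff.2 (e ▸ dp))
  have eΦ : Φ(Φ(R)) = ℧[2](Φ(R)) := le_antisymm (phi_le_mho_two pΦ) (mho_le_phi hp pΦ)
  by_cases cy : Cyc Φ(R)
  · obtain ⟨y, hy, y1⟩ : ∃ y ∈ R, y ^ 2 ∉ Φ(Φ(R)) := by
      by_contra! k; exact (H3.phi_lt ne).not_ge ((phi_le_mho_two hR).trans (mho1_le_iff.2 k))
    refine metacyc_of_der_le hp hR (h R le_rfl) hy (fun e => y1 (pow_mem_phi hp pΦ e)) (dp.trans ?_)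
    have l := zpowers_le.2 (pow_mem_phi hp hR hy)
    exact (l.lt_or_eq.resolve_left fun e => y1 (eΦ.ge (le_mho_of_lt_cyc hp pΦ cy e (mem_zpowers _)))).ge.trans
      (zpowers_le.2 (pow_mem (mem_zpowers y) 2))
  obtain ⟨K, k1, ⟨k2, k3⟩, k4⟩ := exists_maximal_sub (fun K => K ≤ Φ(R) ∧ Cyc K) ⟨dp, c2 ▸ cyc_zpowers⟩
  obtain ⟨d, rfl⟩ := k3.gen
  have hd := k2 (mem_zpowers d)
  have rΦ := reg_of_abel (p := 2) aΦ
  have d1 : d ∉ ℧[2](Φ(R)) := fun e => by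
    obtain ⟨f, hf, rfl⟩ := rΦ.exists_pow hp pΦ e
    have e := k4 (zpowers f) ⟨zpowers_le.2 hf, cyc_zpowers⟩ (zpowers_le.2 (pow_mem (mem_zpowers f) 2))
    exact (H3.phi_lt fun h0 => ne_bot_of_prime (hc ▸ hp) (eq_bot_iff.2 (k1.trans (e.ge.trans h0.le)))).not_ge
      (e.le.trans (zpowers_le.2 (pow_mem_phi hp (pΦ.of_le (zpowers_le.2 hf)) (mem_zpowers f))))
  have l : ℧[2](Φ(R)) ⊔ zpowers d ≤ Φ(R) := sup_le mho_le k2
  have i : (℧[2](Φ(R)) ⊔ zpowers d).relIndex Φ(R) ≤ 2 := by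
    have a := relIndex_tower le_sup_left l
    have b := h _ H3.phi_le
    rw [relIndex_sup_zpowers_of_pow hp (aΦ.norm mho_le hd) (pow_mem_mho1 hd) d1] at a
    rw [eΦ] at b; omega
  obtain ⟨x, hx, x1, x2⟩ : ∃ x ∈ R, x ∉ Φ(R) ∧ x ^ 2 ∈ ℧[2](Φ(R)) ⊔ zpowers d := by
    have nc : ¬ Cyc R := fun e => cy (e.of_le H3.phi_le)
    obtain ⟨a, ha, a1⟩ := SetLike.exists_of_lt (H3.phi_lt fun e => nc (e ▸ cyc_bot) : Φ(R) < R)
    obtain ⟨b, hb, e⟩ := exists_J2 hp hR (h R le_rfl) ha a1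
    have k : ∀ y, y ∈ Φ(R) ⊔ zpowers a → y ≠ b := fun y hy k => nc (cyc_of_le_phi_sup ha
      (e.ge.trans (J2_le (mem_sup_right (mem_zpowers a)) (k ▸ hy))))
    by_contra! q
    have b1 : b ∉ Φ(R) := fun e => k b (mem_sup_left e) rfl
    refine q (a * b) (mul_mem ha hb) (fun e => k _ (mul_mem (mem_sup_right (inv_mem (mem_zpowers a)))
      (mem_sup_left e)) (inv_mul_cancel_left a b)) ?_
    have t := commutator_mem_commutator hb ha
    rw [mul_pow_class_two (zc t a ha) (zc t b hb)]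
    refine mul_mem (pow_mem (mem_sup_right (k1 t)) _) ?_
    have i2 := relIndex_eq_prime_of_le pΦ (fun e => q a ha a1 (e (pow_mem_phi hp hR ha))) i
    exact (mul_mem_iff_of_index_two (H := Subgroup.subgroupOf _ Φ(R)) i2 (a := ⟨_, pow_mem_phi hp hR ha⟩)
      (b := ⟨_, pow_mem_phi hp hR hb⟩)).2 (iff_of_false (q a ha a1) (q b hb b1))
  obtain ⟨j, t, ht, e⟩ := mem_zpowers_sup (aΦ.norm mho_le hd) x2
  rcases Nat.even_or_odd' j with ⟨j, rfl | rfl⟩
  · have l2 := sup_le H3.phi_le (zpowers_le.2 hx)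
    have a := h _ l2
    have ab := abel_sup_zpowers aΦ (cent_symm cΦ hx)
    have b : Φ(Φ(R) ⊔ zpowers x) ≤ Φ(Φ(R)) := (phi_le_iff hp (hR.of_le l2)).2 ⟨ab.der.le.trans bot_le, fun y hy => by
      obtain ⟨k, u, hu, rfl⟩ := mem_zpowers_sup (cent_norm (cent_symm cΦ) hx) hy
      rw [(show Commute (x ^ k) u from cΦ hu _ (pow_mem hx k)).mul_pow, ← pow_mul, mul_comm k, pow_mul, e, mul_comm 2,
        pow_mul]
      exact mul_mem (pow_mem (mul_mem (pow_mem_phi hp pΦ (pow_mem hd j)) (eΦ.ge ht)) k) (pow_mem_phi hp pΦ hu)⟩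
    have c := relIndex_tower (H3.phi_le (H := Φ(R))) (le_sup_left : _ ≤ Φ(R) ⊔ zpowers x)
    rw [relIndex_sup_zpowers_of_pow hp (cent_norm (cent_symm cΦ) hx) (pow_mem_phi hp hR hx) x1] at c
    have := (relIndex_le_of_le_left b H18.relIndex_ne_zero).trans a
    exact (cy (cyc_of_relIndex_le hp pΦ le_rfl (norm_phi le_N) (by omega))).elim
  obtain ⟨f, hf, rfl⟩ := rΦ.exists_pow hp pΦ ht
  have u := inv_mem (mul_mem (pow_mem hd j) hf)
  refine metacyc_of_der_le hp hR (h R le_rfl) (mul_mem hx (H3.phi_le u)) (fun k => x1 ((mul_mem_cancel_right u).1 k))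
    (k1.trans (zpowers_le.2 ?_))
  have : (x * (d ^ j * f)⁻¹) ^ 2 = d := by
    rw [(show Commute x _ from cΦ u x hx).mul_pow, e, inv_pow,
      (show Commute (d ^ j) f from comm_of_cent aΦ (pow_mem hd j) hf).mul_pow, ← pow_mul, mul_comm j]
    group
  exact this.subst (motive := (· ∈ zpowers (x * (d ^ j * f)⁻¹))) (pow_mem (mem_zpowers _) 2)

theorem metacyc_of_sec_aux (n : ℕ) : ∀ {G : Type u} [Group G] [Finite G] {R : Subgroup G}, Nat.card R < n →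
    PiGrp {2} R → (∀ H ≤ R, Φ(H).relIndex H ≤ 2 ^ 2) → Metacyc R := by
  have hp := Nat.prime_two
  induction n with
  | zero => intro G _ _ R h; exact absurd h (Nat.not_lt_zero _)
  | succ n ih =>
    intro G _ _ R hn hR h
    by_cases h1 : ⁅R, R⁆ = ⊥
    · by_cases h0 : R = ⊥
      · exact metacyc_of_le_sup .rfl (h0 ▸ cyc_bot) (one_mem _) le_sup_left
      obtain ⟨a, ha, a1⟩ := SetLike.exists_of_lt (H3.phi_lt h0)
      exact metacyc_of_der_le hp hR (h R le_rfl) ha a1 (h1.le.trans bot_le)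
    obtain ⟨T, t1, t2⟩ := (hR.of_le (inf_le_left.trans H18.der_le)).exists_sub_card (hR.nil.meet_Z nml_der h1)
    rcases (t1.trans inf_le_left).eq_or_lt with e | l
    · exact metacyc_of_der_two hR h (e ▸ t2)
    have hT := nml_of_le_Z (t1.trans inf_le_right)
    have m : Metacyc (R ⫽ T) := ih ((card_quo_lt hT (ne_bot_of_prime (t2 ▸ hp))).trans_le (Nat.lt_succ_iff.1 hn))
      hR.mim fun H hH => by
        have l := qpre_le_of_le hT hH
        rw [← quo_qpre (U := H), ← mim_phi hp (hR.of_le l) qpre_le]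
        exact (Nat.le_of_dvd relIndex_pos (relIndex_mim_dvd H3.phi_le qpre_le)).trans (h _ l)
    have c := cyc_der_of_metacyc_quo (t1.trans (inf_le_right.trans inf_le_right)) (l.le.trans (der_le_phi hp hR)) m
    obtain ⟨K, z, k1, k2, hz, e⟩ := metacyc_gen m
    obtain ⟨x, hx, rfl⟩ := (mem_quo hT.norm).1 hz
    have nK := nml_qpre hT k1
    have e2 : R ≤ qpre T K ⊔ zpowers x := le_of_quo_le hT.norm ⟨le_sup_of_le_left le_qpre, sup_le qpre_le
      (zpowers_le.2 (hT.norm hx))⟩ (by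
        rw [mim_sup qpre_le (zpowers_le.2 (hT.norm hx)), quo_qpre, mim_zpowers (hT.norm hx), e])
    have d : ⁅R, R⁆ ≤ qpre T K := (abel_quo_iff nK.norm).1 (cyc_quo_of_le_sup nK.norm (nK.norm hx) e2).abel
    refine metacyc_of_le_sup nK (cyc_of_cyc_quo ((le_mho_of_lt_cyc hp (hR.of_le H18.der_le) c l).trans
      ((mho_mono d).trans (mho_le_phi hp (hR.of_le nK.le)))) qpre_le (by rwa [quo_qpre])) hx e2

theorem metacyc_of_sec (hG : IsPGroup 2 G) (h : SectionalPRankLE 2 2 G) : IsMetacyclic G :=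
  have k := (piGrp_top_iff Nat.prime_two).2 hG
  metacyc_top_iff.1 (metacyc_of_sec_aux _ (Nat.lt_succ_self _) k fun _ hH => sec_le h
    (der_le_phi Nat.prime_two (k.of_le hH)) fun _ => pow_mem_phi Nat.prime_two (k.of_le hH))

open QuaternionGroup in
theorem q8_aut (σ : MulAut (QuaternionGroup 2)) : σ ^ 12 = 1 ∧ (σ ^ 3 = 1 → σ = 1 ∨ ∃ v, (v⁻¹ * σ v) ^ 2 ≠ 1 ∧
    σ ((v⁻¹ * σ v) ^ 2) = (v⁻¹ * σ v) ^ 2 ∧ (v⁻¹ * σ v) ^ 4 = 1) := by
  let f : QuaternionGroup 2 → QuaternionGroup 2 → QuaternionGroup 2 → QuaternionGroup 2 := fun i j g => match g with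
    | .a k => i ^ k.val
    | xa k => j * i ^ k.val
  have key : ∀ i j, Function.Injective (f i j) → (∀ x y, f i j (x * y) = f i j x * f i j y) →
      (∀ x, (f i j)^[12] x = x) ∧ ((∀ x, (f i j)^[3] x = x) → (∀ x, f i j x = x) ∨ ∃ v, (v⁻¹ * f i j v) ^ 2 ≠ 1 ∧
        f i j ((v⁻¹ * f i j v) ^ 2) = (v⁻¹ * f i j v) ^ 2 ∧ (v⁻¹ * f i j v) ^ 4 = 1) := by decide +kernel
  have e : f (σ (.a 1)) (σ (xa 0)) = σ := funext fun g => by
    have : g = f (.a 1) (xa 0) g := by revert g; decide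
    conv_rhs => rw [this]
    cases g
    · exact (map_pow σ _ _).symm
    · exact ((map_mul σ _ _).trans (by rw [map_pow])).symm
  have k := key (σ (.a 1)) (σ (xa 0)) (by rw [e]; exact σ.injective) (by rw [e]; exact map_mul σ)
  rw [e] at k
  have it : ∀ n x, (σ ^ n) x = σ^[n] x := fun n x => by
    induction n with
    | zero => rfl
    | succ n ih => rw [pow_succ', Function.iterate_succ_apply', ← ih]; rfl
  exact ⟨MulEquiv.ext fun x => (it 12 x).trans (k.1 x), fun h => (k.2 fun x => by rw [← it, h]; rfl).imp_left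
    fun h => MulEquiv.ext h⟩

omit [Finite G] in
theorem aut_elt {Q : Type*} [Group Q] (hQ : ∀ σ : MulAut Q, σ ^ 12 = 1 ∧ (σ ^ 3 = 1 → σ = 1 ∨ ∃ v, (v⁻¹ * σ v) ^ 2 ≠ 1 ∧
    σ ((v⁻¹ * σ v) ^ 2) = (v⁻¹ * σ v) ^ 2 ∧ (v⁻¹ * σ v) ^ 4 = 1)) (e : A ≃* Q) (hg : g ∈ N(A)) (ho : Odd (orderOf g))
    (h : g ∉ C(A)) : g ^ 3 ∈ C(A) ∧ ∃ v ∈ A, (v⁻¹ * (g * v * g⁻¹)) ^ 2 ≠ 1 ∧
      g * (v⁻¹ * (g * v * g⁻¹)) ^ 2 * g⁻¹ = (v⁻¹ * (g * v * g⁻¹)) ^ 2 ∧ (v⁻¹ * (g * v * g⁻¹)) ^ 4 = 1 := by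
  let θ : N(A) →* MulAut Q := (MulAut.congr e).toMonoidHom.comp A.normalizerMonoidHom
  have t : ∀ (g : N(A)) (a : A), θ g (e a) = e ⟨g * a * g⁻¹, conj_mem_N g.2 a.2⟩ := fun g a =>
    congrArg e (congrArg (A.normalizerMonoidHom g) (e.symm_apply_apply a))
  clear_value θ
  have t1 : ∀ g : N(A), θ g = 1 → (g : G) ∈ C(A) := fun g k a ha => by
    have := t g ⟨a, ha⟩
    rw [k, MulAut.one_apply, e.apply_eq_iff_eq, Subtype.ext_iff] at this
    exact mul_inv_eq_iff_eq_mul.1 this.symm |>.symm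
  obtain ⟨k1, k2⟩ := hQ (θ ⟨g, hg⟩)
  have o : Odd (orderOf (θ ⟨g, hg⟩)) := ho.of_dvd_nat ((orderOf_map_dvd θ _).trans (orderOf_coe ⟨g, hg⟩).symm.dvd)
  have k3 : θ ⟨g, hg⟩ ^ 3 = 1 := orderOf_dvd_iff_pow_eq_one.1 (((Nat.coprime_two_right.2 o).pow_right 2).dvd_of_dvd_mul_left
    (orderOf_dvd_of_pow_eq_one (n := 2 ^ 2 * 3) k1))
  obtain ⟨v, v1, v2, v3⟩ := (k2 k3).resolve_left fun k => h (t1 _ k)
  obtain ⟨v, rfl⟩ := e.surjective v
  rw [t, ← map_inv, ← map_mul, ← map_pow] at v1 v2 v3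
  rw [t, e.apply_eq_iff_eq, Subtype.ext_iff] at v2
  rw [map_eq_one_iff _ e.injective, Subtype.ext_iff] at v3
  rw [Ne, map_eq_one_iff _ e.injective, Subtype.ext_iff] at v1
  exact ⟨t1 (⟨g, hg⟩ ^ 3) (by rw [map_pow, k3]), v, v.2, by simpa using v1, by simpa using v2, by simpa using v3⟩

omit [Finite G] in
theorem exists_sl23_section (e : A ≃* QuaternionGroup 2) (hg : g ∈ N(A)) (ho : Odd (orderOf g)) (h : g ∉ C(A)) :
    Involves (Matrix.SpecialLinearGroup (Fin 2) (ZMod 3)) G := by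
  obtain ⟨g3, v, hv, v1, v2, v3⟩ := aut_elt q8_aut e hg ho h
  have n1 : A ≤ N(zpowers (g ^ 3)) := cent_norm (cent_symm (zpowers_le.2 g3))
  have n2 : g ∈ N(zpowers (g ^ 3)) := C1_le_N_zpowers (pow_mem C1_self 3 |> mem_C1_comm.1)
  have n4 := n1 (mul_mem (inv_mem hv) (conj_mem_N hg hv))
  have e3 : (v⁻¹ * (g * v * g⁻¹) * g) ^ 3 = g ^ 3 := by
    rw [show v⁻¹ * (g * v * g⁻¹) * g = v⁻¹ * g * v⁻¹⁻¹ by group, conj_pow, g3 _ (inv_mem hv), mul_inv_cancel_right]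
  generalize v⁻¹ * (g * v * g⁻¹) = a at v1 v2 v3 n4 e3
  obtain ⟨f, f1, -⟩ := H16.exists_injective_SL23 (a := cs (zpowers (g ^ 3)) a)
    (b := cs (zpowers (g ^ 3)) g) (by rw [← mfun_pow n4, v3, mfun_one])
    (by rw [← mfun_pow n4, Commute, SemiconjBy, ← mfun_mul (pow_mem n4 2) n2, ← mfun_mul n2 (pow_mem n4 2),
      mul_inv_eq_iff_eq_mul.1 v2])
    (by rw [← mfun_pow n2]; exact cs_eq_one (mem_zpowers _))
    (by rw [← mfun_mul n4 n2, ← mfun_pow (mul_mem n4 n2), e3]; exact cs_eq_one (mem_zpowers _))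
    (by
      rw [← mfun_pow n4, Ne, cs_eq_one_iff (pow_mem n4 2)]
      intro k
      refine v1 (orderOf_eq_one_iff.1 (Nat.Coprime.eq_one_of_dvd (Nat.coprime_two_right.2 (ho.of_dvd_nat
        ((orderOf_dvd_of_mem_zpowers k).trans (orderOf_pow_dvd 3)))) (orderOf_dvd_of_pow_eq_one ?_)))
      rw [← pow_mul, v3])
  exact H27.Inv.trans (H27.involves_of_injective f f1) (H27.involves_iff.2 ⟨_, coset _, QuotientGroup.mk'_surjective _⟩)

end H3
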