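import Cfsg.Agent.H23.Vn0
import Cfsg.Agent.H26.Core

/-! Piece `PB` of S4805 (normal `p`-complement from a vanishing condition): `H3.VnB.pB`. -/
set_option autoImplicit false
namespace H3.VnB
open Subgroup Cfsg H5
universe u

theorem pB : H23.Vn.PB.{u} := by
  intro G _ _ H K _ _ p g hp _ hH ⟨k, hg⟩ hv
  have : Fact p.Prime := ⟨hp⟩
  have nV : (pResidualOf p H).Normal := H3.map_subtype_pResidual_normal H
  have le : pResidualOf p H ≤ K := H26.pResidualOf_le_of_pow_mem fun x hx => ⟨1, by simpa using hH x hx⟩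
  refine ⟨pResidualOf p H, nV, le, fun hd => ?_, fun h hh => H26.exists_pow_mem_pResidualOf hh⟩
  have e : pResidual p (pResidualOf p H) = ⊤ := by
    rw [H26.pResidual_eq_subgroupOf, H26.pResidualOf_pResidualOf, subgroupOf_self]
  obtain ⟨ψ, h1, h2, h3⟩ := H8.berkovich e hd
  obtain ⟨n, hn⟩ := h1.isCharacter.exists_apply_one
  have := H8.int_modEq_of_apply_eq h1.isCharacter hp (g := g) (j := k) (a := 0) (b := n)
    (by rw [hv ψ h1 fun c => h2 (le.trans c)]; simp) (by rw [hg, hn]; simp)
  rw [charDegree_eq_of_apply_one hn] at h3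
  exact h3 (Int.natCast_dvd_natCast.1 (by simpa using this.dvd))

end H3.VnB
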