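import Cfsg.Agent.H26.Nat2
import Cfsg.Agent.H26.Min
import Cfsg.Agent.H29.Three
import Cfsg.Agent.H23.SzId

/-! `Y`-minimal groups of characteristic `p` (`YL p Y A π`, `A = O_p`, `π` the quotient by `C_Y(L)`): the conjugates
of `Y` cut out a partial spread on `A / C_Y(L)`; products of two elements from different conjugates act without fixed
points (`YL.fpf_of_mul`, `YL.fpf_of_inv`, `YL.fpf_sl`). -/

set_option autoImplicit false
set_option linter.unusedSectionVars false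
open Subgroup H26 H4
open scoped MatrixGroups

namespace H3

variable {K K' B : Type*} [Group K] [Group K'] [Group B] [Finite K]

/-- `K` is `Y`-minimal of characteristic `p` with `A = O_p(K) ≤ N(Y)`, and `π` has kernel `Y ∩ Z(K)` -/
structure YL (p : ℕ) (Y A : Subgroup K) (π : K →* K') : Prop where
  nA : A.Normal
  pA : IsPGroup p A
  maxA : ∀ N : Subgroup K, N.Normal → IsPGroup p N → N ≤ A
  cA : 𝐂 A ≤ A
  ab : Y ≤ 𝐂 Y
  exp : ∀ y ∈ Y, y ^ p = 1
  An : A ≤ 𝐍 Y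
  gen : ∀ N : Subgroup K, N.Normal → A ⊓ Y ≤ N → A ≤ N
  ncl : ncl Y ⊤ = ⊤
  um : UMax Y (𝐍 Y) ⊤
  ker : ∀ x, π x = 1 ↔ x ∈ Y ∧ x ∈ center K

namespace YL
variable {p : ℕ} {Y A : Subgroup K} {π : K →* K'} {a g x y u : K} (h : YL p Y A π)
include h

theorem move (g : K) : YL p (cj g Y) A π where
  nA := h.nA
  pA := h.pA
  maxA := h.maxA
  cA := h.cA
  ab := by rw [← cj_centralizer]; exact cj_mono g h.ab
  exp y hy := by
    obtain ⟨z, hz, rfl⟩ := mem_cj'.1 hy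
    rw [conj_pow, h.exp z hz]; group
  An := by have := h.nA; rw [← cj_normalizer, ← cj_eq_of_normal g A]; exact cj_mono g h.An
  gen N hN e := h.gen N hN (by
    have := h.nA
    rwa [← cj_eq_of_normal g A, ← cj_inf, ← cj_eq_of_normal g N, cj_le_cj_iff] at e)
  ncl := by rw [ncl_cj_of_mem (mem_top g), h.ncl]
  um := by have := h.um.cj g; rwa [cj_normalizer, cj_top] at this
  ker x := (h.ker x).trans (and_congr_left fun hx => by
    rw [mem_cj, mul_assoc, ← mem_center_iff.1 hx, inv_mul_cancel_left])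

theorem comm (hx : x ∈ Y) (hy : y ∈ Y) : x * y = y * x := mem_centralizer_iff.1 (h.ab hy) x hx

theorem cY (hx : x ∈ Y) (hy : y ∈ Y) : Commute (π x) (π y) := (show Commute x y from h.comm hx hy).map π

theorem mem_of_eq (hy : y ∈ Y) (e : π x = π y) : x ∈ Y := by
  have := ((h.ker (x * y⁻¹)).1 (by rw [map_mul, map_inv, e, mul_inv_cancel])).1
  exact (mul_mem_cancel_right (inv_mem hy)).1 this

theorem sup_eq (hg : g ∉ 𝐍 Y) : Y ⊔ cj g Y = ⊤ := h.um.sup_cj_eq h.ncl (mem_top g) hg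

theorem inf_ker (hg : g ∉ 𝐍 Y) (h1 : x ∈ Y) (h2 : x ∈ cj g Y) : π x = 1 := by
  refine (h.ker x).2 ⟨h1, mem_center_iff.2 fun k => ?_⟩
  have : Y ⊔ cj g Y ≤ centralizer {x} := sup_le (fun y hy => mem_centralizer_singleton_iff.2 (h.comm hy h1))
    fun y hy => mem_centralizer_singleton_iff.2 ((h.move g).comm hy h2)
  exact mem_centralizer_singleton_iff.1 (this (h.sup_eq hg ▸ mem_top k))

theorem exists_g : ∃ g, g ∉ 𝐍 Y := by
  obtain ⟨g, -, hg⟩ := SetLike.exists_of_lt h.um.lt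
  exact ⟨g, hg⟩

theorem br (ha : a ∈ A) (hy : y ∈ Y) : y * a * y⁻¹ * a⁻¹ ∈ Y := by
  have := mul_mem hy (conj_mem_of_mem_normalizer (h.An ha) (inv_mem hy))
  simpa only [mul_assoc] using this

theorem dec (hg : g ∉ 𝐍 Y) (ha : a ∈ A) : ∃ b ∈ A ⊓ Y, ∃ c ∈ A ⊓ cj g Y, b * c = a := by
  have := h.nA
  have hn : Y ⊔ cj g Y ≤ 𝐍 ((A ⊓ Y) ⊔ (A ⊓ cj g Y)) :=
    pair_le_normalizer h.An (h.move g).An le_normalizer_of_normal le_normalizer_of_normal
  rw [h.sup_eq hg] at hn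
  exact (mem_sup_of_le_normalizer (inf_le_left.trans (le_normalizer_inf le_normalizer (h.move g).An))).1
    (h.gen _ (normal_of_top_le_normalizer hn) le_sup_left ha)

omit h in
theorem comm_iff : Commute (π x) (π a) ↔ π (x * a * x⁻¹ * a⁻¹) = 1 := by
  simp only [map_mul, map_inv, mul_inv_eq_iff_eq_mul, one_mul]; rfl

theorem cA' (ha : a ∈ A) (hx : x ∈ A) : Commute (π x) (π a) := by
  obtain ⟨g, hg⟩ := h.exists_g
  have key : ∀ b ∈ A ⊓ Y, ∀ c ∈ A ⊓ cj g Y, Commute (π b) (π c) := fun b hb c hc =>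
    comm_iff.2 (h.inf_ker hg (h.br hc.1 hb.2) (by
      simpa [mul_assoc] using inv_mem ((h.move g).br hb.1 hc.2)))
  obtain ⟨b, hb, c, hc, rfl⟩ := h.dec hg ha
  obtain ⟨b', hb', c', hc', rfl⟩ := h.dec hg hx
  rw [map_mul, map_mul]
  exact ((h.cY hb'.2 hb.2).mul_right (key _ hb' _ hc)).mul_left
    ((key _ hb _ hc').symm.mul_right ((h.move g).cY hc'.2 hc.2))

theorem eq_one_of_central (ha : a ∈ Y) (e : ∀ k, Commute (π k) (π a)) : π a = 1 := by
  obtain ⟨g, hg⟩ := h.exists_g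
  refine h.inf_ker hg ha ((h.move g).mem_of_eq (conj_mem_cj g ha) ?_)
  rw [map_mul, map_mul, map_inv, (e g).eq, mul_inv_cancel_right]

theorem mem_A (e : ∀ a ∈ A, Commute (π x) (π a)) : x ∈ A := by
  let E : Subgroup K := (centralizer (A.map π : Set K')).comap π
  have mE : ∀ k, k ∈ E ↔ ∀ a ∈ A, Commute (π k) (π a) := fun k =>
    ⟨fun hk a ha => (mem_centralizer_iff.1 hk _ ⟨a, ha, rfl⟩).symm, fun hk => mem_centralizer_iff.2 (by
      rintro _ ⟨a, ha, rfl⟩; exact (hk a ha).symm)⟩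
  refine h.maxA E ⟨fun k hk g => (mE _).2 fun a ha => ?_⟩ (fun k => ?_) ((mE x).2 e)
  · have := ((mE k).1 hk _ (h.nA.conj_mem' a ha g)).conj (π g)
    simpa [mul_assoc] using this
  · have : (k : K) ^ p ∈ A := h.cA (mem_centralizer_iff.2 fun a ha => by
      obtain ⟨h1, h2⟩ := (h.ker _).1 (comm_iff.1 ((mE k).1 k.2 a ha))
      have h3 := h.exp _ h1
      have e : (k : K) * a = k * a * (k : K)⁻¹ * a⁻¹ * a * k := by group
      generalize (k : K) * a * (k : K)⁻¹ * a⁻¹ = d at *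
      have : ∀ n : ℕ, (k : K) ^ n * a = d ^ n * a * (k : K) ^ n := fun n => by
        induction n with
        | zero => simp
        | succ n ih =>
          rw [pow_succ' (k : K), mul_assoc, ih, ← mul_assoc, ← mul_assoc, mem_center_iff.1 (pow_mem h2 n),
            mul_assoc (d ^ n), e, pow_succ d]
          simp only [mul_assoc]
      rw [this, h3, one_mul])
    obtain ⟨n, hn⟩ := h.pA ⟨_, this⟩
    have hn : ((k : K) ^ p) ^ p ^ n = 1 := congrArg Subtype.val hn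
    exact ⟨n + 1, Subtype.ext (by rw [pow_succ', pow_mul]; exact hn)⟩

theorem not_norm (hg : g ∉ 𝐍 Y) (hy : y ∈ Y) (hA : y ∉ A) : y ∉ 𝐍 (cj g Y) := fun hn => hA (h.mem_A fun a ha => by
  obtain ⟨b, hb, c, hc, rfl⟩ := h.dec hg ha
  rw [map_mul]
  exact (h.cY hy hb.2).mul_right (comm_iff.2 (h.inf_ker hg (h.br hc.1 hy)
    (mul_mem (conj_mem_of_mem_normalizer hn hc.2) (inv_mem hc.2)))))

theorem mem_Y (hy : y ∈ Y) (hA : y ∉ A) (ha : a ∈ A) (e : Commute (π y) (π a)) : a ∈ Y := by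
  obtain ⟨g, hg⟩ := h.exists_g
  obtain ⟨b, hb, c, hc, rfl⟩ := h.dec hg ha
  have e1 : Commute (π y) (π c) := by
    have := (h.cY hy hb.2).inv_right.mul_right e
    rwa [map_mul, inv_mul_cancel_left] at this
  have := (h.move g).um.eq_of_not_le (X := (centralizer {π c}).comap π)
    (fun x hx => mem_centralizer_singleton_iff.2 ((h.move g).cY hx hc.2)) le_top
    fun e => h.not_norm hg hy hA (e (mem_centralizer_singleton_iff.2 e1))
  have := (h.move g).eq_one_of_central hc.2 fun k => mem_centralizer_singleton_iff.1 (this ▸ mem_top k :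
    k ∈ (centralizer {π c}).comap π)
  exact mul_mem hb.2 ((h.ker c).1 this).1

theorem fpf0 (hg : g ∉ 𝐍 Y) (hy : y ∈ Y) (hyA : y ∉ A) (hx : x ∈ cj g Y) (hxA : x ∉ A) (ha : a ∈ A)
    (e : Commute (π (y * x)) (π a)) : π a = 1 := by
  have e1 : π (x * a * x⁻¹ * a⁻¹) = π (y⁻¹ * a * y⁻¹⁻¹ * a⁻¹) := by
    have := e.eq
    simp only [map_mul, map_inv, inv_inv] at this ⊢
    calc _ = (π y)⁻¹ * (π y * π x * π a) * (π x)⁻¹ * (π a)⁻¹ := by group
      _ = _ := by rw [this]; group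
  have e2 := h.inf_ker hg (h.mem_of_eq (h.br ha (inv_mem hy)) e1) ((h.move g).br ha hx)
  exact h.inf_ker hg (h.mem_Y (inv_mem hy) (fun e => hyA (inv_mem_iff.1 e)) ha (comm_iff.2 (e1 ▸ e2)))
    ((h.move g).mem_Y hx hxA ha (comm_iff.2 e2))

variable {f : K →* B} (hf : Function.Surjective f) (hk : ∀ x, f x = 1 ↔ x ∈ A)
include hk

theorem comm_of_eq (e : f x = f y) (ha : a ∈ A) (c : Commute (π x) (π a)) : Commute (π y) (π a) := by
  have := c.mul_left (h.cA' ha ((hk (x⁻¹ * y)).1 (by rw [map_mul, map_inv, e, inv_mul_cancel])))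
  rwa [← map_mul, mul_inv_cancel_left] at this

include hf

theorem fpf_of_mul {s t m n : B} (hs : s ∈ Y.map f) (s1 : s ≠ 1) (ht : t ∈ Y.map f) (t1 : t ≠ 1)
    (e : f u = m * s * m⁻¹ * (n * t * n⁻¹)) (hu : f u ^ p ≠ 1) (ha : a ∈ A) (c : Commute (π u) (π a)) : π a = 1 := by
  obtain ⟨y, hy, rfl⟩ := hs
  obtain ⟨x, hx, rfl⟩ := ht
  obtain ⟨m, rfl⟩ := hf m
  obtain ⟨n, rfl⟩ := hf n
  have nA : ∀ {z : K} (k : K), f z ≠ 1 → k * z * k⁻¹ ∉ A := fun {z} k hz e =>
    hz ((hk z).2 (by simpa [mul_assoc] using h.nA.conj_mem' _ e k))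
  have e' : f u = f (m * y * m⁻¹ * (n * x * n⁻¹)) := by simp only [map_mul, map_inv, e]
  have hx' : n * x * n⁻¹ ∈ cj (n * m⁻¹) (cj m Y) := by rw [← cj_mul, inv_mul_cancel_right]; exact conj_mem_cj n hx
  refine (h.move m).fpf0 (g := n * m⁻¹) (fun hn => hu ?_) (conj_mem_cj m hy) (nA m s1) hx' (nA n t1) ha
    (h.comm_of_eq hk e' ha c)
  rw [cj_eq_of_mem_normalizer hn] at hx'
  rw [e', ← map_pow, (h.move m).exp _ (mul_mem (conj_mem_cj m hy) hx'), map_one]

omit hf in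
theorem exists_s : ∃ s ∈ Y.map f, s ≠ 1 := by
  by_contra e
  push Not at e
  have : Y ≤ A := fun y hy => (hk y).1 (e _ ⟨y, hy, rfl⟩)
  have := h.nA
  exact h.um.lt.not_ge (h.ncl ▸ (ncl_le ‹Y ≤ A› le_normalizer_of_normal).trans h.An)

theorem fpf_of_inv (p2 : p = 2) {s m : B} (hs : s ∈ Y.map f) (s1 : s ≠ 1) (ho : Odd (orderOf (f u))) (u1 : f u ≠ 1)
    (e : m * s * m⁻¹ * f u * (m * s * m⁻¹)⁻¹ = (f u)⁻¹) (ha : a ∈ A) (c : Commute (π u) (π a)) : π a = 1 := by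
  subst p2
  have : Finite B := Finite.of_surjective f hf
  have s2 : s * s = 1 := by
    obtain ⟨y, hy, rfl⟩ := hs
    rw [← map_mul, ← pow_two, h.exp y hy, map_one]
  have t2 := H23.conj_mul_self (g := m) s2
  have e1 : f u = m * s * m⁻¹ * (m * s * m⁻¹ * f u) := by rw [← mul_assoc, t2, one_mul]
  obtain ⟨k, hk'⟩ := H9.conj_of_odd (y := m * s * m⁻¹ * f u) t2 (by
    rw [H9.inv_eq_of_mul_self t2] at e
    rw [← mul_assoc, e, inv_mul_cancel]) (e1 ▸ ho)
  rw [← e1] at hk'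
  refine h.fpf_of_mul hf hk hs s1 hs s1 (m := m) (n := f u ^ k * m) (e1.trans ?_) (fun e => u1 ?_) ha c
  · rw [← hk']; group
  · exact H9.eq_one_of_odd_of_mul_self ho (by rwa [pow_two] at e)

theorem fpf_of_two (p2 : p = 2) (h2 : Nat.card (Y.map f) ∣ 2) (ho : Odd (orderOf (f u))) (u1 : f u ≠ 1) (ha : a ∈ A)
    (c : Commute (π u) (π a)) : π a = 1 := by
  obtain ⟨s, hs, s1⟩ := h.exists_s hk
  have s2 : s * s = 1 := by
    obtain ⟨y, hy, rfl⟩ := hs
    rw [← map_mul, ← pow_two, ← p2, h.exp y hy, map_one]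
  have : Finite B := Finite.of_surjective f hf
  have e : Y.map f = zpowers s := (eq_of_le_of_card_ge (zpowers_le_of_mem hs) (by
    rw [Nat.card_zpowers, H23.orderOf_two s2 s1]; exact Nat.le_of_dvd two_pos h2)).symm
  obtain ⟨g, hg⟩ := h.exists_g
  have e2 : f u ∈ (Y ⊔ cj g Y).map f := ⟨u, h.sup_eq hg ▸ mem_top u, rfl⟩
  rw [Subgroup.map_sup, map_cj, e, cj_zpowers, zpowers_eq_closure, zpowers_eq_closure, ← Subgroup.closure_union,
    Set.singleton_union] at e2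
  have t2 := H23.conj_mul_self (g := f g) s2
  obtain ⟨k, e3 | e3⟩ := (H9.mem_closure_pair_iff s2 t2).1 e2
  · refine h.fpf_of_inv hf hk p2 hs s1 (m := 1) ho u1 ?_ ha c
    rw [one_mul, inv_one, mul_one, e3, H9.conj_zpow_of_inverts (H9.left_inverts s2 t2)]
  · exact absurd (H9.eq_one_of_odd_of_mul_self ho (by rw [e3, H9.refl_mul_self (H9.left_inverts s2 t2), s2])) u1

theorem fpf_sz (p2 : p = 2) (hB : Cfsg.Lie.IsoSuzuki B) (ho : Odd (orderOf (f u))) (u1 : f u ≠ 1) (ha : a ∈ A)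
    (c : Commute (π u) (π a)) : π a = 1 := by
  obtain ⟨s, hs, s1⟩ := h.exists_s hk
  have s2 : s * s = 1 := by
    obtain ⟨y, hy, rfl⟩ := hs
    rw [← map_mul, ← pow_two, ← p2, h.exp y hy, map_one]
  obtain ⟨t, t2, ht⟩ := H29.sz_real hB u1 ho
  have t1 : t ≠ 1 := by
    rintro rfl
    exact u1 (H9.eq_one_of_odd_of_mul_self ho (by simpa [eq_inv_iff_mul_eq_one] using ht))
  obtain ⟨F, _, _, m, hm, ⟨e⟩⟩ := H27.isoSuzuki_iff.1 hB
  obtain ⟨Q, z⟩ := H23.exists_ZS (Cfsg.Agent.S0327.result hm.hm hm.card) (H13.Sz.pt_ne_ptInf (m := m) (0 : F) 0)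
  have c1 : Nat.card Q = Fintype.card F ^ 2 := Nat.add_right_cancel (z.cardΩ.symm.trans H13.Sz.card_ovoid)
  obtain ⟨w, d⟩ := z.exists_ZD_of_even (by rw [c1, hm.card, ← pow_mul]; exact (Nat.even_pow.2 ⟨even_two, by omega⟩))
  have := (d.inv_isConj (s := e s) (by rw [← map_mul, s2, map_one]) (by simpa using s1)).symm.trans
    (d.inv_isConj (s := e t) (by rw [← map_mul, t2, map_one]) (by simpa using t1))
  obtain ⟨k, hk'⟩ := isConj_iff.1 this
  obtain ⟨k, rfl⟩ := e.surjective k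
  rw [← map_inv, ← map_mul, ← map_mul, e.apply_eq_iff_eq] at hk'
  exact h.fpf_of_inv hf hk p2 hs s1 (m := k) ho u1 (by rw [hk', ht]) ha c

end YL

theorem sl2_dec0 {F : Type*} [Field F] (g : SL(2, F)) (hc : g.1 1 0 ≠ 0) :
    ∃ (m : SL(2, F)) (s t : F), s ≠ 0 ∧ g = m * tvU s * m⁻¹ * tvU t := by
  have hd := g.det_coe
  rw [Matrix.det_fin_two] at hd
  obtain ⟨m, hm⟩ := exists_smul_eq (K := F) (v := ![g.1 0 0 - 1, g.1 1 0]) fun e => hc (by simpa using congrFun e 1)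
  have e := eq_tvU_of_fix (m := m⁻¹ * (g * tvU (-((g.1 0 0 + g.1 1 1 - 2) / g.1 1 0))) * m) (by
    rw [mul_smul, mul_smul, hm, inv_smul_eq_iff, hm, mul_smul, tvU_smul, sl_smul]
    ext i
    fin_cases i
    · simp [Matrix.mulVec, dotProduct]; field_simp; linear_combination (-1) * hd
    · simp [Matrix.mulVec, dotProduct]; field_simp; ring)
  generalize (m⁻¹ * (g * tvU (-((g.1 0 0 + g.1 1 1 - 2) / g.1 1 0))) * m).1 0 1 = s at e
  generalize (g.1 0 0 + g.1 1 1 - 2) / g.1 1 0 = t at e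
  have e2 : g = m * tvU s * m⁻¹ * tvU t := by
    rw [← e]
    have : tvU (-t) * tvU t = 1 := by rw [← tvU_add, neg_add_cancel, tvU_zero]
    calc g = g * (tvU (-t) * tvU t) := by rw [this, mul_one]
      _ = _ := by group
  refine ⟨m, s, t, ?_, e2⟩
  rintro rfl
  rw [tvU_zero, mul_one, mul_inv_cancel, one_mul] at e2
  exact hc (by simp [e2, Matrix.SpecialLinearGroup.transvection_coe])

theorem sl2_dec {F : Type*} [Field F] (g : SL(2, F)) : g = 1 ∨ g = -1 ∨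
    ∃ (m n : SL(2, F)) (s t : F), s ≠ 0 ∧ g = m * tvU s * m⁻¹ * (n * tvU t * n⁻¹) := by
  have key : ∀ n : SL(2, F), (n⁻¹ * g * n).1 1 0 ≠ 0 →
      ∃ (m n : SL(2, F)) (s t : F), s ≠ 0 ∧ g = m * tvU s * m⁻¹ * (n * tvU t * n⁻¹) := fun n hn => by
    obtain ⟨m, s, t, hs, e⟩ := sl2_dec0 _ hn
    exact ⟨n * m, n, s, t, hs, by
      calc g = n * (n⁻¹ * g * n) * n⁻¹ := by group
        _ = _ := by rw [e]; group⟩
  by_contra hn
  push Not at hn
  have k : ∀ n : SL(2, F), (n⁻¹ * g * n).1 1 0 = 0 := fun n => by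
    by_contra e
    obtain ⟨m, n, s, t, hs, e⟩ := key n e
    exact hn.2.2 m n s t hs e
  have hd := g.det_coe
  rw [Matrix.det_fin_two] at hd
  have h1 := k 1
  have h2 := k (slOf !![0, -1; 1, 0] (by simp [Matrix.det_fin_two]))
  have h3 := k (tvL 1)
  simp [Matrix.mul_apply, Matrix.adjugate_fin_two, Matrix.SpecialLinearGroup.transvection_coe, Matrix.vecMul,
    dotProduct] at h1 h2 h3
  have e : g.1 1 1 = g.1 0 0 := by linear_combination h3 + h2 - h1
  rw [e, h1, h2] at hd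
  rcases mul_self_eq_one_iff.1 (by linear_combination hd : g.1 0 0 * g.1 0 0 = 1) with e1 | e1
  · exact hn.1 (by ext i j; fin_cases i <;> fin_cases j <;> simp [*])
  · exact hn.2.1 (by ext i j; fin_cases i <;> fin_cases j <;> simp [*])

theorem tvU_pow_char {F : Type*} [Field F] {p : ℕ} [CharP F p] (s : F) : tvU s ^ p = 1 := by
  have : ∀ n : ℕ, tvU s ^ n = tvU (n * s) := fun n => by
    induction n with
    | zero => simp
    | succ n ih => rw [pow_succ, ih, ← tvU_add]; congr 1; push_cast; ring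
  rw [this, CharP.cast_eq_zero, zero_mul, tvU_zero]

theorem YL.fpf_sl {F : Type*} [Field F] [Fintype F] {p : ℕ} [hp : Fact p.Prime] {Y A : Subgroup K} {π : K →* K'}
    (h : YL p Y A π) {f : K →* SL(2, F)} (hf : Function.Surjective f) (hk : ∀ x, f x = 1 ↔ x ∈ A)
    (hc : Nat.card (Y.map f) = Fintype.card F) {u a : K} (hu : f u ^ p ≠ 1) (ha : a ∈ A)
    (c : Commute (π u) (π a)) : π a = 1 := by
  have pY : IsPGroup p (Y.map f) := IsPGroup.map (fun y => ⟨1, Subtype.ext (by simpa using h.exp y y.2)⟩) f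
  obtain ⟨n, hn⟩ := pY.exists_card_eq
  have : CharP F p := charP_of_card (n := n) (by rw [← hn, hc, Nat.card_eq_fintype_card])
  obtain ⟨m, hm⟩ := exists_cj_le_uT pY
  obtain ⟨m, rfl⟩ := hf m
  rw [← map_cj] at hm
  replace hm := eq_of_le_of_card_ge hm (by rw [map_cj, card_cj, hc, card_uT, Nat.card_eq_fintype_card])
  replace h := h.move m
  generalize cj m Y = Y at h hm
  have mY : ∀ s, tvU s ∈ Y.map f := fun s => hm ▸ mem_uT.2 ⟨s, rfl⟩
  have ne1 : ∀ {s : F}, s ≠ 0 → tvU s ≠ 1 := fun hs e => hs (tvU_inj (e.trans tvU_zero.symm))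
  have key : ∀ {u a : K}, f u ≠ -1 → f u ^ p ≠ 1 → a ∈ A → Commute (π u) (π a) → π a = 1 := by
    intro u a h1 hu ha c
    rcases sl2_dec (f u) with e | e | ⟨m, n, s, t, hs, e⟩
    · exact absurd (by rw [e, one_pow]) hu
    · exact absurd e h1
    · refine h.fpf_of_mul hf hk (mY s) (ne1 hs) (mY t) (ne1 ?_) e hu ha c
      rintro rfl
      exact hu (by rw [e, tvU_zero, mul_one, mul_inv_cancel, mul_one, conj_pow, tvU_pow_char, mul_one, mul_inv_cancel])
  by_cases h1 : f u = -1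
  swap
  · exact key h1 hu ha c
  obtain ⟨w, hw⟩ := hf (slOf !![0, -1; 1, 0] (by simp [Matrix.det_fin_two]))
  have ww : f (w * w) = f u := by
    rw [map_mul, hw, h1]; ext i j; fin_cases i <;> fin_cases j <;> simp [Matrix.mul_apply]
  have w1 : f w ≠ -1 := fun e => by simpa using congrArg (fun m : SL(2, F) => m.1 1 0) (hw.symm.trans e)
  have wp : f w ^ p ≠ 1 := fun e => hu (by rw [← ww, map_mul, ← pow_two, ← pow_mul, mul_comm, pow_mul, e, one_pow])
  obtain ⟨y, hy, ey⟩ := mY 1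
  have wN : w ∉ 𝐍 Y := fun e => by
    obtain ⟨s, hs⟩ := mem_uT.1 (hm ▸ ⟨_, conj_mem_of_mem_normalizer e hy, rfl⟩ : f (w * y * w⁻¹) ∈ uT F)
    rw [map_mul, map_mul, map_inv, eq_mul_inv_iff_mul_eq, ey, hw] at hs
    have := congrArg (fun m : SL(2, F) => m.1 1 1) hs
    simp [Matrix.mul_apply, Matrix.SpecialLinearGroup.transvection_coe] at this
  have cj' : ∀ (k : K) {b : K}, b ∈ A → Commute (π u) (π b) → Commute (π u) (π (k * b * k⁻¹)) := fun k b hb c => by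
    have := (h.comm_of_eq hk (x := u) (y := k⁻¹ * u * k) (by simp [h1]) hb c).conj (π k)
    simpa [mul_assoc] using this
  have k2 : ∀ {b : K}, b ∈ A → b ∈ Y → Commute (π u) (π b) → π b = 1 := fun {b} hb bY c => by
    have hb' := h.nA.conj_mem b hb w
    have e := key w1 wp (mul_mem hb hb') (by
      have c1 := (h.comm_of_eq hk ww.symm hb c).eq
      have c2 := (h.cA' hb hb').eq
      simp only [map_mul, map_inv] at c1 c2 ⊢
      calc π w * (π b * (π w * π b * (π w)⁻¹)) = π w * π b * (π w)⁻¹ * (π w * π w * π b) * (π w)⁻¹ := by group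
        _ = π w * π b * (π w)⁻¹ * π b * π w := by rw [c1]; group
        _ = _ := by rw [c2])
    refine h.inf_ker wN bY ((h.move w).mem_of_eq (inv_mem (conj_mem_cj w bY)) ?_)
    rw [map_inv, eq_inv_iff_mul_eq_one, ← map_mul, e]
  have yA : y ∉ A := fun e => ne1 one_ne_zero (ey ▸ (hk y).2 e)
  refine k2 ha (h.mem_Y hy yA ha (YL.comm_iff.2 (k2 (mul_mem (h.nA.conj_mem a ha y) (inv_mem ha)) (h.br ha hy) ?_))) c
  rw [map_mul, map_inv]
  exact (cj' y ha c).mul_right c.inv_right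

end H3
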